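import Cfsg.Agent.RY.Lift
import Cfsg.Agent.H44.Cores
import Cfsg.Agent.S3861
import Cfsg.Agent.S0205

set_option autoImplicit false
set_option linter.unusedSectionVars false

namespace Cfsg.Agent.RY

open Cfsg.Agent.DT (cm nor cen cj)

universe u
variable {G : Type u} [Group G] [Finite G] {E K : Subgroup G}

namespace FinAux

theorem iv_pow {H : Type*} [Group H] {t y : H} (h : Iv t y) {m : ℕ} (hm : Odd m) : Iv (t ^ m) y := by
  obtain ⟨j, rfl⟩ := hm
  unfold Iv at h ⊢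
  have h2 : t * y⁻¹ * t⁻¹ = y := by
    have := congrArg (·⁻¹) h
    simpa [mul_assoc] using this
  have hc : Commute (t ^ 2) y := by
    have e : t ^ 2 * y * (t ^ 2)⁻¹ = y := by
      calc t ^ 2 * y * (t ^ 2)⁻¹ = t * (t * y * t⁻¹) * t⁻¹ := by rw [pow_two]; group
        _ = y := by rw [h, h2]
    exact mul_inv_eq_iff_eq_mul.1 e
  have hc2 : (t ^ 2) ^ j * y * ((t ^ 2) ^ j)⁻¹ = y := mul_inv_eq_iff_eq_mul.2 (hc.pow_left j).eq
  calc t ^ (2 * j + 1) * y * (t ^ (2 * j + 1))⁻¹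
      = t * ((t ^ 2) ^ j * y * ((t ^ 2) ^ j)⁻¹) * t⁻¹ := by rw [pow_succ', pow_mul]; group
    _ = y⁻¹ := by rw [hc2, h]

theorem solv (h : Concl G) : Group.IsSolvable G := by
  haveI : Fact (Nat.Prime 2) := ⟨Nat.prime_two⟩
  obtain ⟨N, K, hN, hK, hle, h1, h2, j, h3⟩ := h
  refine (Group.isSolvable_iff_subgroup_quotient K).2 ⟨?_, S0205.result h2⟩
  refine (Group.isSolvable_iff_subgroup_quotient (N.subgroupOf K)).2 ⟨S0205.result ?_, ?_⟩
  · rwa [Nat.card_congr (Subgroup.subgroupOfEquivOfLe hle).toEquiv]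
  · have hp : IsPGroup 2 (K ⧸ N.subgroupOf K) := IsPGroup.of_card h3
    haveI := hp.isNilpotent
    infer_instance

end FinAux

theorem concl_of (h : ∀ y : G, Odd (orderOf y) → ∀ t : G, Iv t y → InO ⊤ y) : Concl G := by
  haveI : Fact (Nat.Prime 2) := ⟨Nat.prime_two⟩
  have hN : Odd (Nat.card (oddCore G)) := Nat.coprime_two_right.1 H44.pPrimeCore_coprime
  obtain ⟨P⟩ : Nonempty (Sylow 2 (G ⧸ oddCore G)) := inferInstance
  have hP : (P : Subgroup (G ⧸ oddCore G)).Normal := by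
    refine (S3861.result P).1 fun x hx ho hc => hx ?_
    obtain ⟨c, hc⟩ := isConj_iff.1 hc
    obtain ⟨y, rfl⟩ := QuotientGroup.mk_surjective x
    obtain ⟨t, rfl⟩ := QuotientGroup.mk_surjective c
    obtain ⟨k, m, hm, e⟩ := Nat.exists_eq_two_pow_mul_odd (orderOf_pos t).ne'
    have ht : (t ^ m) ^ 2 ^ k = 1 := by rw [← pow_mul, mul_comm, ← e, pow_orderOf_eq_one]
    have hiv : Iv ((QuotientGroup.mk t : G ⧸ oddCore G) ^ m) (QuotientGroup.mk y) := FinAux.iv_pow hc hm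
    have hi : t ^ m * y * (t ^ m)⁻¹ * y ∈ oddCore G := by
      rw [← QuotientGroup.eq_one_iff]
      unfold Iv at hiv
      simp only [QuotientGroup.mk_mul, QuotientGroup.mk_inv, QuotientGroup.mk_pow]
      rw [hiv, inv_mul_cancel]
    obtain ⟨y', h1, h2, -, h3⟩ := lift_odd (U := ⊥) hN IsPGroup.of_bot ht
      (by rw [DT.mem_nor]; intro a; simp) ho
      (by intro s hs; rw [Subgroup.mem_bot.1 hs]; simp) hi
    obtain ⟨L, -, hL, hLo, hy'⟩ := h y' h2 _ h3
    have hLn : L.Normal := Subgroup.normalizer_eq_top_iff.1 (top_le_iff.1 hL)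
    have h4 : y' ∈ oddCore G := H44.le_pPrimeCore hLn (Nat.coprime_two_right.2 hLo) hy'
    have h5 : y⁻¹ ∈ oddCore G := by
      have := Subgroup.mul_mem _ h1 (Subgroup.inv_mem _ h4)
      simpa using this
    exact (QuotientGroup.eq_one_iff y).2 (by simpa using h5)
  have hs := QuotientGroup.mk'_surjective (oddCore G)
  refine ⟨oddCore G, (P : Subgroup (G ⧸ oddCore G)).comap (QuotientGroup.mk' (oddCore G)), inferInstance,
    hP.comap _, ?_, hN, ?_, ?_⟩
  · intro n hn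
    rw [Subgroup.mem_comap, QuotientGroup.mk'_apply, (QuotientGroup.eq_one_iff n).2 hn]
    exact Subgroup.one_mem _
  · rw [Subgroup.index_comap_of_surjective _ hs]
    exact Nat.odd_iff.2 (Nat.two_dvd_ne_zero.1 P.not_dvd_index)
  · obtain ⟨j, hj⟩ := IsPGroup.iff_card.1 P.isPGroup'
    refine ⟨j, ?_⟩
    have := Subgroup.relIndex_ker
      ((P : Subgroup (G ⧸ oddCore G)).comap (QuotientGroup.mk' (oddCore G))) (QuotientGroup.mk' (oddCore G))
    rw [QuotientGroup.ker_mk', Subgroup.map_comap_eq_self_of_surjective hs] at this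
    rw [this, hj]

theorem AS.closed (h : AS K) {τ : G} (hτ : orderOf τ = 2) : Concl ↥(K ⊓ cen τ) := by
  refine concl_of fun y hy t ht => ?_
  have ht' : Iv (t : G) (y : G) := congrArg Subtype.val ht
  obtain ⟨L, hle, hn, ho, hyL⟩ := h.c τ hτ y y.2.1 (DT.mem_cen.1 y.2.2) (by rwa [Subgroup.orderOf_coe])
    t (DT.mem_cen.1 t.2.2) ht'
  refine ⟨L.subgroupOf (K ⊓ cen τ), le_top, fun g _ => ?_, ?_, hyL⟩
  · rw [DT.mem_nor]
    intro a
    exact DT.mem_nor.1 (hn g.2) a
  · rwa [Nat.card_congr (Subgroup.subgroupOfEquivOfLe hle).toEquiv]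

theorem not_comp (h : Concl G) : ¬ HasComponent (G ⧸ oddCore G) := by
  rintro ⟨L, -, h1, h2⟩
  haveI := FinAux.solv h
  haveI := h1
  haveI : Nontrivial L := (QuotientGroup.mk_surjective (s := Subgroup.center L)).nontrivial
  exact Group.IsPerfect.not_isSolvable (G := L) inferInstance

end Cfsg.Agent.RY
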