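import Cfsg.Agent.RY.K0
import Cfsg.Agent.RY.Fin
import Cfsg.Agent.S3861

set_option autoImplicit false
set_option linter.unusedSectionVars false

namespace Cfsg.Agent.RY

open Cfsg.Agent.DT (cm nor cen cj)

universe u
variable {G : Type u} [Group G] [Finite G] {E K : Subgroup G}

namespace I1Aux

theorem cmpl (C : Subgroup G) (hc : ∀ a ∈ C, (∃ k : ℕ, a ^ 2 ^ k = 1) → ∀ b ∈ C, Commute a b) :
    ∃ L : Subgroup G, Odd (Nat.card L) ∧ ∀ g, g ∈ L ↔ g ∈ C ∧ Odd (orderOf g) := by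
  let P : Sylow 2 C := default
  have hP : Subgroup.normalizer ((P : Subgroup C) : Set C) ≤ Subgroup.centralizer ((P : Subgroup C) : Set C) := by
    intro g _ a ha
    obtain ⟨k, hk⟩ := P.isPGroup' ⟨a, ha⟩
    apply Subtype.ext
    exact (hc a a.2 ⟨k, by simpa using congrArg (fun x : (P : Subgroup C) => ((x : C) : G)) hk⟩ g g.2).eq
  have hodd : Odd (Nat.card (MonoidHom.transferSylow P hP).ker) :=
    Nat.not_even_iff_odd.1 fun e => MonoidHom.not_dvd_card_ker_transferSylow P hP e.two_dvd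
  have hcard : Nat.card ((MonoidHom.transferSylow P hP).ker.map C.subtype)
      = Nat.card (MonoidHom.transferSylow P hP).ker := Subgroup.card_map_of_injective C.subtype_injective
  refine ⟨(MonoidHom.transferSylow P hP).ker.map C.subtype, hcard ▸ hodd, fun g => ⟨fun hg => ⟨?_, ?_⟩, ?_⟩⟩
  · obtain ⟨a, -, rfl⟩ := hg
    exact a.2
  · exact Odd.of_dvd_nat (hcard ▸ hodd) (Subgroup.orderOf_dvd_natCard _ hg)
  · rintro ⟨hg, ho⟩
    refine ⟨⟨g, hg⟩, ?_, rfl⟩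
    obtain ⟨k, hk⟩ := P.isPGroup' (MonoidHom.transferSylow P hP ⟨g, hg⟩)
    have h1 := orderOf_dvd_of_pow_eq_one hk
    have h2 : orderOf (MonoidHom.transferSylow P hP ⟨g, hg⟩) ∣ orderOf g := by
      rw [← Subgroup.orderOf_mk g hg]; exact orderOf_map_dvd _ _
    have h3 : Nat.Coprime (2 ^ k) (orderOf g) := (Nat.coprime_two_left.2 ho).pow_left k
    exact orderOf_eq_one_iff.1 (Nat.eq_one_of_dvd_coprimes h3 h1 h2)

end I1Aux

theorem CI.oddc (h : CI K) {y t z : G} (hy : y ∈ K) (hy1 : y ≠ 1) (ho : Odd (orderOf y)) (ht : Iv t y)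
    (hz : z ∈ K) (hz2 : z * z = 1) (hc : Commute y z) : z = 1 := by
  by_contra z1
  have o2 : orderOf z = 2 := orderOf_eq_prime (by rw [pow_two, hz2]) z1
  obtain ⟨m, k, -, h1, h2⟩ := ht.two
  obtain ⟨τ, hτ, τ2, c1, c2⟩ := h.toAS.tauK h2 h1 hz o2 hc
  exact hy1 (h.one τ hτ τ2 y (h.c τ τ2 y hy c1 ho _ c2 h2))

theorem sy_le (z : G) : sy K z ≤ K ⊓ cen z :=
  (Subgroup.closure_le _).2 fun _ hg => ⟨hg.1, DT.mem_cen.2 hg.2.1⟩

theorem le_sy {z : G} {U : Subgroup G} (hU : IsPGroup 2 U) (hle : U ≤ K ⊓ cen z) : U ≤ sy K z := by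
  intro g hg
  obtain ⟨k, hk⟩ := hU ⟨g, hg⟩
  exact Subgroup.subset_closure ⟨(hle hg).1, DT.mem_cen.1 (hle hg).2, k, by simpa using congrArg Subtype.val hk⟩

theorem self_mem_sy {z : G} (hz : z ∈ K) (hz2 : orderOf z = 2) : z ∈ om (sy K z) := by
  have e : z ^ 2 = 1 := by rw [← hz2, pow_orderOf_eq_one]
  exact ⟨Subgroup.subset_closure ⟨hz, Commute.refl z, 1, by rw [pow_one, e]⟩, by rw [← pow_two, e],
    fun a ha => (DT.mem_cen.1 (sy_le z ha).2).symm⟩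

theorem sy_cj [K.Normal] (g z : G) : sy K (g * z * g⁻¹) = cj g (sy K z) := by
  rw [sy, sy, cj, MonoidHom.map_closure]
  congr 1
  ext a
  constructor
  · rintro ⟨h1, h2, k, h3⟩
    refine ⟨g⁻¹ * a * g, ⟨by simpa using Subgroup.Normal.conj_mem inferInstance a h1 g⁻¹, ?_, k, ?_⟩, by simp [mul_assoc]⟩
    · have := h2.eq
      show g⁻¹ * a * g * z = z * (g⁻¹ * a * g)
      calc g⁻¹ * a * g * z = g⁻¹ * (a * (g * z * g⁻¹)) * g := by group
        _ = z * (g⁻¹ * a * g) := by rw [this]; group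
    · have := conj_pow (a := g⁻¹) (b := a) (i := 2 ^ k)
      rw [inv_inv] at this
      rw [this, h3]; group
  · rintro ⟨b, ⟨h1, h2, k, h3⟩, rfl⟩
    refine ⟨Subgroup.Normal.conj_mem inferInstance b h1 g, ?_, k, ?_⟩
    · show g * b * g⁻¹ * (g * z * g⁻¹) = g * z * g⁻¹ * (g * b * g⁻¹)
      calc g * b * g⁻¹ * (g * z * g⁻¹) = g * (b * z) * g⁻¹ := by group
        _ = _ := by rw [h2.eq]; group
    · show (g * b * g⁻¹) ^ 2 ^ k = 1
      rw [conj_pow, h3]; group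

theorem cen_le_nor_sy [K.Normal] (z : G) : cen z ≤ nor (sy K z) := by
  intro g hg
  rw [← DT.cj_eq_self_iff, ← sy_cj, (DT.mem_cen.1 hg).eq, mul_inv_cancel_right]

theorem om_cj (g : G) (D : Subgroup G) : om (cj g D) = cj g (om D) := by
  ext a
  rw [DT.mem_cj, mem_om, mem_om, DT.mem_cj]
  refine and_congr_right fun _ => and_congr ?_ ⟨fun h e he => ?_, fun h e he => ?_⟩
  · rw [show g⁻¹ * a * g * (g⁻¹ * a * g) = g⁻¹ * (a * a) * g by group]
    constructor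
    · intro e; rw [e]; group
    · intro e
      rw [show a * a = g * (g⁻¹ * (a * a) * g) * g⁻¹ by group, e]; group
  · have := (h (g * e * g⁻¹) (DT.mem_cj.2 (by simpa [mul_assoc] using he))).eq
    show g⁻¹ * a * g * e = e * (g⁻¹ * a * g)
    calc g⁻¹ * a * g * e = g⁻¹ * (a * (g * e * g⁻¹)) * g := by group
      _ = _ := by rw [this]; group
  · have := (h _ (DT.mem_cj.1 he)).eq
    show a * e = e * a
    calc a * e = g * (g⁻¹ * a * g * (g⁻¹ * e * g)) * g⁻¹ := by group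
      _ = _ := by rw [this]; group

theorem nor_le_nor_om (D : Subgroup G) : nor D ≤ nor (om D) := by
  intro g hg
  rw [← DT.cj_eq_self_iff, ← om_cj, DT.cj_eq_self_iff.2 hg]

theorem el_om (D : Subgroup G) : El (om D) := ⟨fun _ ha => ha.2.1, fun _ ha b hb => ha.2.2 b hb.1⟩

theorem El.two {V : Subgroup G} (h : El V) : IsPGroup 2 V := fun a =>
  ⟨1, Subtype.ext (by simpa [pow_two] using h.1 a a.2)⟩

theorem CI.sy_two (h : CI K) {z : G} (hz : z ∈ K) (hz2 : orderOf z = 2) : IsPGroup 2 (sy K z) := by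
  let P : Sylow 2 ↥(K ⊓ cen z) := default
  have hn : (P : Subgroup ↥(K ⊓ cen z)).Normal := by
    refine (Cfsg.Agent.S3861.result P).1 fun x x1 ho hc => ?_
    obtain ⟨t, ht⟩ := isConj_iff.1 hc
    have := h.oddc (y := x) (t := t) (z := z) x.2.1 (fun e => x1 (Subtype.ext e))
      (by rwa [Subgroup.orderOf_coe]) (congrArg Subtype.val ht) hz
      (by rw [← pow_two, ← hz2, pow_orderOf_eq_one]) (DT.mem_cen.1 x.2.2)
    rw [this, orderOf_one] at hz2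
    exact absurd hz2 (by decide)
  have := Sylow.unique_of_normal P hn
  refine (P.isPGroup'.map (K ⊓ cen z).subtype).to_le ((Subgroup.closure_le _).2 ?_)
  rintro g ⟨h1, h2, k, h3⟩
  have hp : IsPGroup 2 (Subgroup.zpowers (⟨g, h1, DT.mem_cen.2 h2⟩ : ↥(K ⊓ cen z))) := by
    rintro ⟨_, i, rfl⟩
    refine ⟨k, Subtype.ext (Subtype.ext ?_)⟩
    show (g ^ i) ^ 2 ^ k = 1
    rw [← zpow_natCast, ← zpow_mul, mul_comm, zpow_mul, zpow_natCast, h3, one_zpow]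
  obtain ⟨Q, hQ⟩ := hp.exists_le_sylow
  rw [Subsingleton.elim Q P] at hQ
  exact ⟨_, hQ (Subgroup.mem_zpowers _), rfl⟩

theorem CI.con (h : CI K) {z y : G} (hz : z ∈ K) (hz2 : orderOf z = 2) (hy : y ∈ K) (ho : Odd (orderOf y))
    (hc : y ∈ ceS (sy K z)) : y = 1 := by
  have := h.nm
  obtain ⟨L, hL, mL⟩ := I1Aux.cmpl (K ⊓ cen z ⊓ ceS (sy K z)) (fun a ha hk b hb =>
    hb.2 a (Subgroup.subset_closure ⟨ha.1.1, DT.mem_cen.1 ha.1.2, hk⟩))
  have hyz : y ∈ cen z := DT.mem_cen.2 (show Commute z y from hc z (self_mem_sy hz hz2).1).symm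
  refine h.one z hz hz2 y ⟨L, fun g hg => ((mL g).1 hg).1.1, fun g hg => ?_, hL, (mL y).2 ⟨⟨⟨hy, hyz⟩, hc⟩, ho⟩⟩
  refine Subgroup.mem_normalizer_fintype fun n hn => ?_
  obtain ⟨⟨h1, h2⟩, h3⟩ := (mL n).1 hn
  refine (mL _).2 ⟨⟨(K ⊓ cen z).mul_mem ((K ⊓ cen z).mul_mem hg h1) ((K ⊓ cen z).inv_mem hg), fun s hs => ?_⟩, ?_⟩
  · have hs' : g⁻¹ * s * g⁻¹⁻¹ ∈ sy K z := (DT.mem_nor.1 ((nor _).inv_mem (cen_le_nor_sy z hg.2)) s).1 hs
    have := h2 _ hs'
    calc s * (g * n * g⁻¹) = g * (g⁻¹ * s * g⁻¹⁻¹ * n) * g⁻¹ := by group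
      _ = _ := by rw [this]; group
  · rwa [show g * n * g⁻¹ = MulAut.conj g n from rfl, MulEquiv.orderOf_eq]

end Cfsg.Agent.RY
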