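import Cfsg.Agent.RY.I1

set_option autoImplicit false
set_option linter.unusedSectionVars false

namespace Cfsg.Agent.RY

open Cfsg.Agent.DT (cm nor cen cj)

universe u
variable {G : Type u} [Group G] [Finite G] {E K : Subgroup G}

namespace I2Aux

theorem nmem {L : Subgroup G} {g l : G} (hg : g ∈ nor L) (hl : l ∈ L) : g * l * g⁻¹ ∈ L :=
  (Subgroup.mem_normalizer_iff.1 hg l).1 hl

theorem cen_iff {g z : G} : g ∈ cen z ↔ Commute g z :=
  Subgroup.mem_centralizer_singleton_iff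

theorem inverts {L : Subgroup G} {u : G} (hu : u * u = 1) (hn : u ∈ nor L)
    (hf : ∀ l ∈ L, Commute l u → l = 1) : ∀ l ∈ L, Iv u l := by
  have hui : u⁻¹ = u := inv_eq_of_mul_eq_one_right hu
  let f : L → L := fun l => ⟨(l : G)⁻¹ * (u * l * u⁻¹), L.mul_mem (L.inv_mem l.2) (nmem hn l.2)⟩
  have hinj : Function.Injective f := by
    intro l m hlm
    have h1 : (l : G)⁻¹ * (u * l * u⁻¹) = (m : G)⁻¹ * (u * m * u⁻¹) := congrArg Subtype.val hlm
    have h2 : Commute ((m : G) * (l : G)⁻¹) u := by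
      change (m : G) * (l : G)⁻¹ * u = u * ((m : G) * (l : G)⁻¹)
      calc (m : G) * (l : G)⁻¹ * u
          = m * ((l : G)⁻¹ * (u * l * u⁻¹)) * (u * (l : G)⁻¹) := by group
        _ = m * ((m : G)⁻¹ * (u * m * u⁻¹)) * (u * (l : G)⁻¹) := by rw [h1]
        _ = u * ((m : G) * (l : G)⁻¹) := by group
    have h3 := hf _ (L.mul_mem m.2 (L.inv_mem l.2)) h2
    exact Subtype.ext (mul_inv_eq_one.1 h3).symm
  intro l hl
  obtain ⟨m, hm⟩ := Finite.surjective_of_injective hinj ⟨l, hl⟩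
  have h1 : (m : G)⁻¹ * (u * m * u⁻¹) = l := congrArg Subtype.val hm
  unfold Iv
  rw [← h1]
  calc u * ((m : G)⁻¹ * (u * m * u⁻¹)) * u⁻¹
      = u * (m : G)⁻¹ * u * m * (u * u)⁻¹ := by group
    _ = u * (m : G)⁻¹ * u⁻¹ * m := by rw [hu, hui, inv_one, mul_one]
    _ = ((m : G)⁻¹ * (u * m * u⁻¹))⁻¹ := by group

theorem odd_of_mem {L : Subgroup G} (hL : Odd (Nat.card L)) {l : G} (hl : l ∈ L) :
    Odd (orderOf l) :=
  hL.of_dvd_nat (Subgroup.orderOf_dvd_natCard L hl)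

theorem eq_one {L Q : Subgroup G} (hL : Odd (Nat.card L)) (hQ : IsPGroup 2 Q) {c : G}
    (h1 : c ∈ L) (h2 : c ∈ Q) : c = 1 := by
  obtain ⟨k, hk⟩ := hQ ⟨c, h2⟩
  have h3 : c ^ 2 ^ k = 1 := congrArg Subtype.val hk
  have h4 : orderOf c ∣ 2 ^ k := orderOf_dvd_of_pow_eq_one h3
  have h5 : (orderOf c).Coprime (2 ^ k) :=
    (Nat.coprime_two_right.2 (odd_of_mem hL h1)).pow_right k
  exact orderOf_eq_one_iff.1 (Nat.Coprime.eq_one_of_dvd h5 h4)

theorem sq {t : G} (ht : orderOf t = 2) : t * t = 1 := by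
  rw [← pow_two, ← ht, pow_orderOf_eq_one]

theorem card_two {X : Subgroup G} {t : G} (h : ∀ x ∈ X, x = 1 ∨ x = t) : Nat.card X ≤ 2 := by
  have h1 : (X : Set G) ⊆ {1, t} := fun x hx => h x hx
  have h2 := Set.ncard_le_ncard h1
  have h3 : ({1, t} : Set G).ncard ≤ 2 := by
    have := Set.ncard_insert_le (1 : G) ({t} : Set G)
    rwa [Set.ncard_singleton] at this
  exact (le_of_eq (Nat.card_coe_set_eq (X : Set G))).trans (h2.trans h3)

theorem pow_of {L : Subgroup G} (h25 : ¬ 25 ∣ Nat.card L) (hc : ∀ a ∈ L, ∀ b ∈ L, Commute a b)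
    {y g : G} (hy : y ∈ L) (h5 : orderOf y = 5) (hg : g ∈ nor L) :
    ∃ i : ℤ, g * y * g⁻¹ = y ^ i := by
  haveI : Fact (Nat.Prime 5) := ⟨by norm_num⟩
  have hy' := nmem hg hy
  have h5' : orderOf (g * y * g⁻¹) = 5 := by
    rw [← h5]
    exact (MulAut.conj g).orderOf_eq y
  have hA : IsPGroup 5 (Subgroup.zpowers y) :=
    IsPGroup.of_card (n := 1) (by rw [Nat.card_zpowers, h5]; rfl)
  have hB : IsPGroup 5 (Subgroup.zpowers (g * y * g⁻¹)) :=
    IsPGroup.of_card (n := 1) (by rw [Nat.card_zpowers, h5']; rfl)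
  have hn : Subgroup.zpowers y ≤ nor (Subgroup.zpowers (g * y * g⁻¹)) := by
    refine le_trans ?_ (Subgroup.centralizer_le_normalizer _)
    intro a ha b hb
    exact (hc b (Subgroup.zpowers_le.2 hy' hb) a (Subgroup.zpowers_le.2 hy ha)).eq
  have hP := DT.sup_pgroup hA hB hn
  obtain ⟨n, hn'⟩ := IsPGroup.iff_card.1 hP
  have hle : Subgroup.zpowers y ⊔ Subgroup.zpowers (g * y * g⁻¹) ≤ L :=
    sup_le (Subgroup.zpowers_le.2 hy) (Subgroup.zpowers_le.2 hy')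
  have hd := Subgroup.card_dvd_of_le hle
  have hn1 : n ≤ 1 := by
    by_contra hlt
    apply h25
    refine dvd_trans ?_ hd
    rw [hn']
    exact pow_dvd_pow 5 (show 2 ≤ n by omega)
  have he : Subgroup.zpowers y = Subgroup.zpowers y ⊔ Subgroup.zpowers (g * y * g⁻¹) := by
    refine Subgroup.eq_of_le_of_card_ge le_sup_left ?_
    rw [hn', Nat.card_zpowers, h5]
    exact (Nat.pow_le_pow_right (by norm_num) hn1).trans (by norm_num)
  have hm : g * y * g⁻¹ ∈ Subgroup.zpowers y := by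
    rw [he]
    exact Subgroup.mem_sup_right (Subgroup.mem_zpowers _)
  obtain ⟨i, hi⟩ := Subgroup.mem_zpowers_iff.1 hm
  exact ⟨i, hi.symm⟩

end I2Aux

open I2Aux

theorem CI.tau (h : CI K) {y t : G} (hy : y ∈ K) (hy1 : y ≠ 1) (ho : Odd (orderOf y)) (htK : t ∈ K)
    (ht2 : orderOf t = 2) (ht : Iv t y) : ∃ (τ : G) (L : Subgroup G), Tau K τ t ∧ Commute y τ ∧ L ≤ K ⊓ cen τ ∧
      K ⊓ cen τ ≤ nor L ∧ Odd (Nat.card L) ∧ y ∈ L ∧ ∀ l ∈ L, Iv t l := by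
  haveI := h.nm
  obtain ⟨τ, hτ, hyτ, htτ⟩ := h.toAS.tau (k := 1) hy hy1 ho ht
    (by rw [pow_one, pow_two]; exact sq ht2)
  obtain ⟨L, hLle, hLn, hLo, hyL⟩ := h.c τ hτ y hy hyτ ho t htτ ht
  have key : ∀ u ∈ K, orderOf u = 2 → Commute u τ → ∀ l ∈ L, Iv u l := by
    intro u hu hu2 huτ
    refine inverts (sq hu2) (hLn ⟨hu, cen_iff.2 huτ⟩) fun l hl hlu => ?_
    have hQ := h.sy_two hu hu2
    have hlQ : l ∈ nor (sy K u) := cen_le_nor_sy u (cen_iff.2 hlu)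
    haveI : Fact (Nat.Prime 2) := ⟨Nat.prime_two⟩
    refine h.con hu hu2 (hLle hl).1 (odd_of_mem hLo hl) ?_
    refine pq (D := Subgroup.zpowers τ) hQ
      (IsPGroup.of_card (n := 1) (by rw [Nat.card_zpowers, hτ]; rfl))
      (Subgroup.zpowers_le.2 (cen_le_nor_sy u (cen_iff.2 huτ.symm))) (odd_of_mem hLo hl) hlQ ?_ ?_
    · rintro _ ⟨i, rfl⟩
      exact ((cen_iff.1 (hLle hl).2).symm.zpow_left i).eq
    · intro q hq hqτ
      have hqn : q ∈ nor L := hLn ⟨(sy_le u hq).1,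
        cen_iff.2 (show Commute τ q from hqτ τ (Subgroup.mem_zpowers τ)).symm⟩
      have h1 : q * l * q⁻¹ * l⁻¹ ∈ L := L.mul_mem (nmem hqn hl) (L.inv_mem hl)
      have h2 : q * l * q⁻¹ * l⁻¹ ∈ sy K u := by
        have := (sy K u).mul_mem hq (nmem hlQ ((sy K u).inv_mem hq))
        simpa only [mul_assoc] using this
      have h3 := eq_one hLo hQ h1 h2
      change q * l = l * q
      calc q * l = q * l * q⁻¹ * l⁻¹ * (l * q) := by group
        _ = l * q := by rw [h3, one_mul]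
  refine ⟨τ, L, ⟨hτ, htτ, fun u hu hu2 hut huτ => ?_⟩, hyτ, hLle, hLn, hLo, hyL,
    key t htK ht2 htτ⟩
  by_cases hu1 : u = 1
  · exact Or.inl hu1
  right
  have huo : orderOf u = 2 := by
    haveI : Fact (Nat.Prime 2) := ⟨Nat.prime_two⟩
    exact orderOf_eq_prime (by rw [pow_two]; exact hu2) hu1
  have h1 : u * y * u⁻¹ = y⁻¹ := key u hu huo huτ y hyL
  have h2 : t * y * t⁻¹ = y⁻¹ := ht
  have h3 : Commute y (u⁻¹ * t) := by
    change y * (u⁻¹ * t) = u⁻¹ * t * y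
    calc y * (u⁻¹ * t) = u⁻¹ * (u * y * u⁻¹) * t := by group
      _ = u⁻¹ * (t * y * t⁻¹) * t := by rw [h1, h2]
      _ = u⁻¹ * t * y := by group
  have h4 : u⁻¹ * t * (u⁻¹ * t) = 1 := by
    calc u⁻¹ * t * (u⁻¹ * t) = u⁻¹ * (t * u⁻¹) * t := by group
      _ = u⁻¹ * (u⁻¹ * t) * t := by rw [hut.symm.inv_right.eq]
      _ = (u * u)⁻¹ * (t * t) := by group
      _ = 1 := by rw [hu2, sq ht2, inv_one, one_mul]
  exact inv_mul_eq_one.1 (h.oddc hy hy1 ho ht (K.mul_mem (K.inv_mem hu) htK) h4 h3)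

theorem CI.exists_tau (h : CI K) {t : G} (htK : t ∈ K) (ht2 : orderOf t = 2) : ∃ τ : G, Tau K τ t := by
  obtain ⟨y, hy, hy1, ho, ht⟩ := h.toAS.exists_inv htK ht2
  obtain ⟨τ, L, hτ, -⟩ := h.tau hy hy1 ho htK ht2 ht
  exact ⟨τ, hτ⟩

theorem Tau.card_le {τ t : G} (h : Tau K τ t) {V : Subgroup G} (hV : El V) (hle : V ≤ K ⊓ cen t) (hτ : τ ∈ nor V) :
    Nat.card V ≤ 4 := by
  have hττ := sq h.1
  have hfix : ∀ v ∈ V, τ * v * τ⁻¹ = v → v = 1 ∨ v = t := by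
    intro v hv he
    refine h.2.2 v (hle hv).1 (hV.1 v hv) (cen_iff.1 (hle hv).2) ?_
    change v * τ = τ * v
    rw [← mul_inv_eq_iff_eq_mul.1 he]
  let φ : V →* G := MonoidHom.mk' (fun v => (v : G) * (τ * v * τ⁻¹)) (by
    intro a b
    have hc := (hV.2 _ b.2 _ (nmem hτ a.2)).eq
    calc ((a * b : V) : G) * (τ * ((a * b : V) : G) * τ⁻¹)
        = a * (b * (τ * a * τ⁻¹)) * (τ * b * τ⁻¹) := by rw [Subgroup.coe_mul]; group
      _ = a * ((τ * a * τ⁻¹) * b) * (τ * b * τ⁻¹) := by rw [hc]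
      _ = a * (τ * a * τ⁻¹) * (b * (τ * b * τ⁻¹)) := by group)
  have h1 : Nat.card φ.range ≤ 2 := by
    refine card_two (t := t) ?_
    rintro _ ⟨v, rfl⟩
    refine hfix _ (V.mul_mem v.2 (nmem hτ v.2)) ?_
    change τ * ((v : G) * (τ * v * τ⁻¹)) * τ⁻¹ = (v : G) * (τ * v * τ⁻¹)
    calc τ * ((v : G) * (τ * v * τ⁻¹)) * τ⁻¹
        = τ * v * τ⁻¹ * ((τ * τ) * v * (τ * τ)⁻¹) := by group
      _ = τ * v * τ⁻¹ * v := by rw [hττ, inv_one, one_mul, mul_one]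
      _ = (v : G) * (τ * v * τ⁻¹) := (hV.2 _ (nmem hτ v.2) _ v.2).eq
  have h2 : Nat.card φ.ker ≤ 2 := by
    rw [← Subgroup.card_map_of_injective (f := V.subtype) Subtype.val_injective]
    refine card_two (t := t) ?_
    rintro _ ⟨v, hv, rfl⟩
    have h3 : (v : G) * (τ * v * τ⁻¹) = 1 := hv
    refine hfix _ v.2 ?_
    exact mul_left_cancel (h3.trans (hV.1 _ v.2).symm)
  have h3 := φ.ker.card_mul_index
  rw [Subgroup.index_ker] at h3
  rw [← h3]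
  exact Nat.mul_le_mul h2 h1

theorem dvd25 {L : Subgroup G} (hL : Odd (Nat.card L)) {t a b y : G} (ht : ∀ l ∈ L, Iv t l) (ha : a ∈ nor L)
    (hb : b ∈ nor L) (hab : a * b * a⁻¹ * b⁻¹ = t) (hy : y ∈ L) (h5 : orderOf y = 5) : 25 ∣ Nat.card L := by
  by_contra h25
  have hc : ∀ l ∈ L, ∀ m ∈ L, Commute l m := by
    intro l hl m hm
    have h1 : t * (l * m) * t⁻¹ = (l * m)⁻¹ := ht _ (L.mul_mem hl hm)
    have h2 : t * l * t⁻¹ = l⁻¹ := ht _ hl
    have h3 : t * m * t⁻¹ = m⁻¹ := ht _ hm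
    have h4 : (l * m)⁻¹ = (m * l)⁻¹ := by
      rw [← h1, mul_inv_rev, ← h2, ← h3]
      group
    exact inv_injective h4
  obtain ⟨i, hi⟩ := pow_of h25 hc hy h5 ha
  obtain ⟨j, hj⟩ := pow_of h25 hc hy h5 hb
  have e1 : a * b * y * (a * b)⁻¹ = y ^ (i * j) := by
    calc a * b * y * (a * b)⁻¹ = a * (b * y * b⁻¹) * a⁻¹ := by group
      _ = (a * y * a⁻¹) ^ j := by rw [hj, conj_zpow]
      _ = y ^ (i * j) := by rw [hi, zpow_mul]
  have e2 : b * a * y * (b * a)⁻¹ = y ^ (i * j) := by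
    calc b * a * y * (b * a)⁻¹ = b * (a * y * a⁻¹) * b⁻¹ := by group
      _ = (b * y * b⁻¹) ^ i := by rw [hi, conj_zpow]
      _ = y ^ (i * j) := by rw [hj, mul_comm i j, zpow_mul]
  have e3 : t * (b * a * y * (b * a)⁻¹) * t⁻¹ = (b * a * y * (b * a)⁻¹)⁻¹ :=
    ht _ (nmem ((nor L).mul_mem hb ha) hy)
  have e4 : t * (b * a * y * (b * a)⁻¹) * t⁻¹ = a * b * y * (a * b)⁻¹ := by
    rw [← hab]
    group
  have e5 : b * a * y * (b * a)⁻¹ = (b * a * y * (b * a)⁻¹)⁻¹ := by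
    rw [← e3, e4, e1, e2]
  have e6 : y ^ 2 = 1 := by
    have := eq_inv_iff_mul_eq_one.1 e5
    calc y ^ 2 = (b * a)⁻¹ * (b * a * y * (b * a)⁻¹ * (b * a * y * (b * a)⁻¹)) * (b * a) := by
          rw [pow_two]; group
      _ = 1 := by rw [this]; group
  have e7 := orderOf_dvd_of_pow_eq_one e6
  rw [h5] at e7
  omega

end Cfsg.Agent.RY
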