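import Cfsg.Agent.RY.I2

set_option autoImplicit false
set_option linter.unusedSectionVars false

namespace Cfsg.Agent.RY

open Cfsg.Agent.DT (cm nor cen cj)

universe u
variable {G : Type u} [Group G] [Finite G] {E K : Subgroup G}

namespace I3Aux

theorem four {V : Subgroup G} (hV : Nat.card V ≤ 4) {a b c : G} (ha : a ∈ V) (hb : b ∈ V) (hc : c ∈ V)
    (ha1 : a ≠ 1) (hb1 : b ≠ 1) (hab : a ≠ b) (ha2 : a * a = 1) (h1 : c ≠ 1) (h2 : c ≠ a) (h3 : c ≠ b) :
    c = a * b := by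
  classical
  by_contra h4
  have e1 : a * b ≠ 1 := fun e => hab (mul_left_cancel (ha2.trans e.symm))
  have e2 : a * b ≠ a := fun e => hb1 (mul_left_cancel (e.trans (mul_one a).symm))
  have e3 : a * b ≠ b := fun e => ha1 (mul_right_cancel (e.trans (one_mul b).symm))
  have hs : (({c, a * b, a, b, 1} : Finset G) : Set G) ⊆ (V : Set G) := by
    intro x hx
    simp only [Finset.coe_insert, Finset.coe_singleton, Set.mem_insert_iff, Set.mem_singleton_iff] at hx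
    rcases hx with rfl | rfl | rfl | rfl | rfl
    exacts [hc, V.mul_mem ha hb, ha, hb, V.one_mem]
  have h5 : ({c, a * b, a, b, 1} : Finset G).card = 5 := by
    rw [Finset.card_insert_of_notMem (by simp [h1, h2, h3, h4]),
      Finset.card_insert_of_notMem (by simp [e1, e2, e3]),
      Finset.card_insert_of_notMem (by simp [ha1, hab]),
      Finset.card_insert_of_notMem (by simp [hb1]), Finset.card_singleton]
  have := Set.ncard_le_ncard hs (Set.toFinite _)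
  rw [Set.ncard_coe_finset, h5] at this
  have e : (V : Set G).ncard = Nat.card V := (Nat.card_coe_set_eq (V : Set G)).symm
  omega

theorem ord2 {a : G} (h1 : a ≠ 1) (h2 : a * a = 1) : orderOf a = 2 :=
  orderOf_eq_prime (by rw [pow_two, h2]) h1

theorem sq_of {a : G} (h : orderOf a = 2) : a * a = 1 := by
  rw [← pow_two, ← h, pow_orderOf_eq_one]

theorem ne_of {a : G} (h : orderOf a = 2) : a ≠ 1 := by
  rintro rfl
  rw [orderOf_one] at h
  omega

theorem cen_inv {U : Subgroup G} (hU : IsPGroup 2 U) (hne : U ≠ ⊥) :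
    ∃ v ∈ U, v ≠ 1 ∧ v * v = 1 ∧ ∀ e ∈ U, Commute v e := by
  haveI : Nontrivial U := (Subgroup.nontrivial_iff_ne_bot U).2 hne
  haveI := hU.center_nontrivial
  have hc : IsPGroup 2 (Subgroup.center U) := hU.to_subgroup _
  obtain ⟨n, hn0, hn⟩ := (hc.nontrivial_iff_card).1 inferInstance
  have hd : 2 ∣ Nat.card (Subgroup.center U) := hn ▸ dvd_pow_self 2 hn0.ne'
  obtain ⟨v, hv⟩ := exists_prime_orderOf_dvd_card' 2 hd
  have ho : orderOf ((v : U) : G) = 2 := by rw [Subgroup.orderOf_coe, Subgroup.orderOf_coe, hv]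
  refine ⟨v, (v : U).2, ne_of ho, sq_of ho, fun e he => ?_⟩
  have := Subgroup.mem_center_iff.1 v.2 ⟨e, he⟩
  exact (congrArg Subtype.val this).symm

theorem card_le (h : CI K) {z τ : G} (hτ : Tau K τ z) : τ ∈ nor (om (sy K z)) ∧ Nat.card (om (sy K z)) ≤ 4 := by
  haveI := h.nm
  have hn : τ ∈ nor (om (sy K z)) := nor_le_nor_om _ (cen_le_nor_sy z (DT.mem_cen.2 hτ.2.1.symm))
  exact ⟨hn, hτ.card_le (el_om _) (fun a ha => sy_le z ha.1) hn⟩

end I3Aux

open I3Aux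

theorem CI.syl (h : CI K) {z : G} (hz : z ∈ K) (hz2 : orderOf z = 2) {U : Subgroup G} (hU : IsPGroup 2 U)
    (hle : sy K z ≤ U) (hK : U ≤ K) : U = sy K z := by
  haveI := h.nm
  by_contra hne
  have hzo := self_mem_sy hz hz2
  have hz1 := ne_of hz2
  obtain ⟨w, hwU, hw1, hw2, hwc⟩ := cen_inv hU fun e => hz1 (by
    have := hle hzo.1
    rwa [e, Subgroup.mem_bot] at this)
  have hwz : Commute w z := hwc z (hle hzo.1)
  have hwQ : w ∈ sy K z := Subgroup.subset_closure ⟨hK hwU, hwz, 1, by rw [pow_one, pow_two, hw2]⟩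
  have hwo : w ∈ om (sy K z) := ⟨hwQ, hw2, fun e he => hwc e (hle he)⟩
  have hzw : z ≠ w := fun e => hne (le_antisymm
    (le_sy hU fun a ha => ⟨hK ha, DT.mem_cen.2 (e ▸ (hwc a ha).symm)⟩) hle)
  obtain ⟨τ, hτ⟩ := h.exists_tau hz hz2
  obtain ⟨hτn, h4⟩ := card_le h hτ
  have conj1 : ∀ g a : G, a ≠ 1 → g * a * g⁻¹ ≠ 1 := fun g a ha e => ha (by
    have : a = g⁻¹ * (g * a * g⁻¹) * g := by group
    rw [this, e, mul_one, inv_mul_cancel])
  have inj : ∀ g a b : G, Commute g b → g * a * g⁻¹ = b → a = b := fun g a b hc e => by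
    have : a = g⁻¹ * (g * a * g⁻¹) * g := by group
    rw [this, e, mul_assoc, ← hc.eq, inv_mul_cancel_left]
  have e1 : τ * w * τ⁻¹ = z * w := by
    refine four h4 hzo hwo ((DT.mem_nor.1 hτn w).1 hwo) hz1 hw1 hzw (sq_of hz2) (conj1 _ _ hw1)
      (fun e => hzw (inj _ _ _ hτ.2.1.symm e).symm) fun e => ?_
    have hc : Commute w τ := by
      rw [mul_inv_eq_iff_eq_mul] at e
      exact e.symm
    rcases hτ.2.2 w (hK hwU) hw2 hwz hc with e | e
    exacts [hw1 e, hzw e.symm]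
  obtain ⟨n, hnU, hnn, hnQ⟩ := DT.nor_grow Nat.prime_two hU hle (Ne.symm hne)
  have e2 : n * z * n⁻¹ = z * w := by
    refine four h4 hzo hwo ((DT.mem_nor.1 (nor_le_nor_om _ hnn) z).1 hzo) hz1 hw1 hzw (sq_of hz2)
      (conj1 _ _ hz1) (fun e => hnQ ?_) fun e => hzw (inj _ _ _ (hwc n hnU).symm e)
    obtain ⟨k, hk⟩ := hU ⟨n, hnU⟩
    refine Subgroup.subset_closure ⟨hK hnU, ?_, k, congrArg Subtype.val hk⟩
    rw [mul_inv_eq_iff_eq_mul] at e
    exact e
  have e3 : z = n⁻¹ * τ * w * (n⁻¹ * τ)⁻¹ := by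
    have : n⁻¹ * τ * w * (n⁻¹ * τ)⁻¹ = n⁻¹ * (τ * w * τ⁻¹) * n := by group
    rw [this, e1, ← e2]
    group
  have hc : Nat.card (sy K z) = Nat.card (sy K w) := by
    rw [← DT.card_cj (n⁻¹ * τ) (sy K w), ← sy_cj, ← e3]
  have hUw : U ≤ sy K w := le_sy hU fun a ha => ⟨hK ha, DT.mem_cen.2 (hwc a ha).symm⟩
  exact hne (Subgroup.eq_of_le_of_card_ge hle (hc ▸ Subgroup.card_le_of_le hUw)).symm

theorem CI.sy_eq (h : CI K) {z v : G} (hz : z ∈ K) (hz2 : orderOf z = 2) (hv : v ∈ om (sy K z)) (hv1 : v ≠ 1) :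
    sy K v = sy K z := by
  have hvK : v ∈ K := (sy_le z hv.1).1
  exact h.syl hz hz2 (h.sy_two hvK (ord2 hv1 hv.2.1))
    (le_sy (h.sy_two hz hz2) fun a ha => ⟨(sy_le z ha).1, DT.mem_cen.2 (hv.2.2 a ha).symm⟩)
    fun a ha => (sy_le v ha).1

theorem CI.mem_om_of (h : CI K) {z v : G} (hv : v ∈ K) (hv2 : orderOf v = 2) (he : sy K v = sy K z) :
    v ∈ om (sy K z) := he ▸ self_mem_sy hv hv2

theorem CI.card_om (h : CI K) {z : G} (hz : z ∈ K) (hz2 : orderOf z = 2) :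
    Nat.card (om (sy K z)) = 2 ∨ Nat.card (om (sy K z)) = 4 := by
  obtain ⟨τ, hτ⟩ := h.exists_tau hz hz2
  have h4 := (card_le h hτ).2
  obtain ⟨k, hk⟩ := IsPGroup.iff_card.1 (el_om (sy K z)).two
  rw [hk] at h4 ⊢
  rcases k with _ | _ | _ | k
  · have := self_mem_sy hz hz2
    rw [Subgroup.card_eq_one.1 hk, Subgroup.mem_bot] at this
    exact absurd this (ne_of hz2)
  · exact Or.inl rfl
  · exact Or.inr rfl
  · have : 0 < 2 ^ k := by positivity
    rw [pow_succ, pow_succ, pow_succ] at h4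
    omega

theorem I3Aux.sylow (h : CI K) {z : G} (hz : z ∈ K) (hz2 : orderOf z = 2) :
    ∃ P : Sylow 2 ↥K, (P : Subgroup ↥K) = (sy K z).subgroupOf K := by
  refine ⟨⟨(sy K z).subgroupOf K, (h.sy_two hz hz2).comap_subtype, fun {Q} hQ hle => ?_⟩, rfl⟩
  have e := h.syl hz hz2 (hQ.map K.subtype)
    (fun a ha => ⟨⟨a, (sy_le z ha).1⟩, hle ha, rfl⟩) (Subgroup.map_subtype_le Q)
  rw [← e]
  exact (Subgroup.comap_map_eq_self_of_injective K.subtype_injective Q).symm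

theorem CI.conj_le (h : CI K) {z : G} (hz : z ∈ K) (hz2 : orderOf z = 2) {U : Subgroup G} (hU : IsPGroup 2 U)
    (hK : U ≤ K) : ∃ g ∈ K, cj g U ≤ sy K z := by
  obtain ⟨P, hP⟩ := I3Aux.sylow h hz hz2
  obtain ⟨P', hP'⟩ := (hU.comap_subtype (K := K)).exists_le_sylow
  obtain ⟨g, hg⟩ := MulAction.exists_smul_eq K P' P
  refine ⟨g, g.2, ?_⟩
  rintro _ ⟨a, ha, rfl⟩
  have h1 : (⟨a, hK ha⟩ : K) ∈ (P' : Subgroup K) := hP' ha
  have h2 : MulAut.conj g • (⟨a, hK ha⟩ : K) ∈ ((g • P' : Sylow 2 K) : Subgroup K) := by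
    rw [Sylow.coe_subgroup_smul]
    exact Subgroup.smul_mem_pointwise_smul _ _ _ h1
  rw [hg, hP] at h2
  exact h2

theorem CI.sylow (h : CI K) {z : G} (hz : z ∈ K) (hz2 : orderOf z = 2) :
    ∃ P : Sylow 2 ↥K, (P : Subgroup ↥K) = (sy K z).subgroupOf K := I3Aux.sylow h hz hz2

theorem CI.e8 (h : CI K) (hr : ¬ PRankLE 2 2 ↥K) {z : G} (hz : z ∈ K) (hz2 : orderOf z = 2) :
    ∃ V : Subgroup G, El V ∧ V ≤ sy K z ∧ 8 ≤ Nat.card V := by
  unfold PRankLE at hr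
  push Not at hr
  obtain ⟨A, hA, hA2, hc⟩ := hr
  have hel : El (A.map K.subtype) := by
    constructor
    · rintro _ ⟨a, ha, rfl⟩
      have := hA2 a ha
      rw [pow_two] at this
      exact congrArg Subtype.val this
    · rintro _ ⟨a, ha, rfl⟩ _ ⟨b, hb, rfl⟩
      have := hA.is_comm.comm ⟨a, ha⟩ ⟨b, hb⟩
      exact congrArg (fun x : A => ((x : K) : G)) this
  obtain ⟨g, -, hg⟩ := h.conj_le hz hz2 hel.two (Subgroup.map_subtype_le A)
  refine ⟨_, ⟨?_, ?_⟩, hg, ?_⟩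
  · rintro _ ⟨a, ha, rfl⟩
    rw [← map_mul, hel.1 a ha, map_one]
  · rintro _ ⟨a, ha, rfl⟩ _ ⟨b, hb, rfl⟩
    exact (hel.2 a ha b hb).map _
  · obtain ⟨k, hk⟩ := IsPGroup.iff_card.1 hel.two
    rw [DT.card_cj, hk]
    rw [← Subgroup.card_map_of_injective K.subtype_injective, hk] at hc
    have : 2 < k := (Nat.pow_lt_pow_iff_right (by norm_num)).1 hc
    exact Nat.pow_le_pow_right (n := 2) (by norm_num) (show 3 ≤ k from this)

end Cfsg.Agent.RY
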