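import Cfsg.Agent.RY.I3

set_option autoImplicit false
set_option linter.unusedSectionVars false

namespace Cfsg.Agent.RY

open Cfsg.Agent.DT (cm nor cen cj)

universe u
variable {G : Type u} [Group G] [Finite G] {E K : Subgroup G}

namespace I4aAux

theorem cj_one (R : Subgroup G) : cj 1 R = R := by
  ext a
  simp only [DT.mem_cj, inv_one, one_mul, mul_one]

theorem cj_le {g : G} {A B : Subgroup G} : cj g A ≤ cj g B ↔ A ≤ B :=
  Subgroup.map_le_map_iff_of_injective (MulAut.conj g).injective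

theorem cj_lt {g : G} {A B : Subgroup G} (h : A < B) : cj g A < cj g B :=
  lt_of_le_not_ge (cj_le.2 h.le) fun k => h.not_ge (cj_le.1 k)

theorem back (g : G) (A : Subgroup G) : cj g (cj g⁻¹ A) = A := by rw [DT.cj_cj, mul_inv_cancel, cj_one]

theorem back' (g : G) (A : Subgroup G) : cj g⁻¹ (cj g A) = A := by rw [DT.cj_cj, inv_mul_cancel, cj_one]

theorem ord (g : G) {z : G} (h : orderOf z = 2) : orderOf (g * z * g⁻¹) = 2 :=
  ((MulAut.conj g).orderOf_eq z).trans h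

theorem move {M T R : Subgroup G} (hT : IsPGroup 2 T) (hTM : T ≤ M)
    (hm : ∀ P : Subgroup G, IsPGroup 2 P → T ≤ P → P ≤ M → P ≤ T) (hR : IsPGroup 2 R) (hRM : R ≤ M) :
    ∃ g ∈ M, cj g R ≤ T := by
  let P : Sylow 2 M := ⟨T.subgroupOf M, hT.comap_subtype, fun {Q} hQ hle => le_antisymm (fun a ha =>
    hm _ (hQ.map M.subtype) (fun a ha => ⟨⟨a, hTM ha⟩, hle ha, rfl⟩) (Subgroup.map_subtype_le Q) ⟨a, ha, rfl⟩) hle⟩
  obtain ⟨P', hP'⟩ := (hR.comap_subtype (K := M)).exists_le_sylow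
  obtain ⟨g, hg⟩ := MulAction.exists_smul_eq M P' P
  refine ⟨g, g.2, ?_⟩
  rintro _ ⟨a, ha, rfl⟩
  have h1 : (⟨a, hRM ha⟩ : M) ∈ (P' : Subgroup M) := hP' ha
  have h2 : MulAut.conj g • (⟨a, hRM ha⟩ : M) ∈ ((g • P' : Sylow 2 M) : Subgroup M) := by
    rw [Sylow.coe_subgroup_smul]
    exact Subgroup.smul_mem_pointwise_smul _ _ _ h1
  rw [hg] at h2
  exact h2

theorem inv_mem {v a : G} (ha : a ∈ K) (h2 : a * a = 1) (hc : Commute a v) : a ∈ sy K v :=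
  Subgroup.subset_closure ⟨ha, hc, 1, by rw [pow_one, pow_two, h2]⟩

end I4aAux

open I4aAux I3Aux

theorem CI.exists_mx (h : CI K) {z u : G} (hz : z ∈ K) (hz2 : orderOf z = 2) (hu : u ∈ sy K z) (hu2 : u * u = 1)
    (hne : u ∉ om (sy K z)) : ∃ D : Subgroup G, Mx K z D ∧ sy K z ⊓ cen u ≤ D := by
  have u1 : u ≠ 1 := fun e => hne (e ▸ one_mem _)
  have uK : u ∈ K := (sy_le z hu).1
  have l0 : sy K z ⊓ cen u ≤ sy K z ⊓ sy K u := le_inf inf_le_left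
    (le_sy ((h.sy_two hz hz2).to_le inf_le_left) (inf_le_inf_right _ ((sy_le z).trans inf_le_left)))
  obtain ⟨D, hD, hm⟩ := Finite.exists_le_maximal
    (p := fun D : Subgroup G => ∃ v ∈ K, orderOf v = 2 ∧ sy K v ≠ sy K z ∧ D = sy K z ⊓ sy K v)
    ⟨u, uK, ord2 u1 hu2, fun e => hne (h.mem_om_of uK (ord2 u1 hu2) e), rfl⟩
  refine ⟨D, ⟨hD (l0 ⟨(self_mem_sy hz hz2).1, DT.mem_cen.2 (DT.mem_cen.1 (sy_le z hu).2).symm⟩), hm.1,
    fun U h1 h2 w wK w2 h3 => by_contra fun n => ?_⟩, l0.trans hD⟩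
  exact h1.not_ge ((le_inf h2 h3).trans (hm.2 ⟨w, wK, w2, n, rfl⟩ (h1.le.trans (le_inf h2 h3))))

theorem Mx.le {z : G} {D : Subgroup G} (h : Mx K z D) : D ≤ sy K z := by
  obtain ⟨-, ⟨v, -, -, -, rfl⟩, -⟩ := h
  exact inf_le_left

theorem Mx.cj [K.Normal] {z : G} {D : Subgroup G} (h : Mx K z D) (g : G) : Mx K (g * z * g⁻¹) (cj g D) := by
  obtain ⟨a, ⟨v, vK, v2, vn, e⟩, hm⟩ := h
  refine ⟨⟨z, a, rfl⟩, ⟨g * v * g⁻¹, ‹K.Normal›.conj_mem v vK g, ord g v2, fun k => vn ?_, ?_⟩,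
    fun U h1 h2 w wK w2 h3 => ?_⟩
  · rw [sy_cj, sy_cj] at k
    rw [← back' g (sy K v), k, back']
  · rw [sy_cj, sy_cj, e]
    exact Subgroup.map_inf _ _ _ (MulAut.conj g).injective
  · have := hm (DT.cj g⁻¹ U) (by rw [← back' g D]; exact cj_lt h1)
      (by rw [← back' g (sy K z), ← sy_cj]; exact cj_le.2 h2) (g⁻¹ * w * g⁻¹⁻¹)
      (‹K.Normal›.conj_mem w wK _) (ord _ w2) (by rw [sy_cj]; exact cj_le.2 h3)
    rw [sy_cj, ← this, sy_cj, back]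

theorem CI.mx_om (h : CI K) {z : G} (hz : z ∈ K) (hz2 : orderOf z = 2) {D : Subgroup G} (hD : Mx K z D) :
    om (sy K z) ≤ om D := by
  obtain ⟨a, ⟨v, vK, v2, -, rfl⟩, -⟩ := hD
  intro b hb
  have vS : v ∈ sy K z := I4aAux.inv_mem vK (sq_of v2) (DT.mem_cen.1 (sy_le v a.2).2).symm
  exact ⟨⟨hb.1, I4aAux.inv_mem (sy_le z hb.1).1 hb.2.1 (hb.2.2 v vS)⟩, hb.2.1, fun e he => hb.2.2 e he.1⟩

theorem CI.mx_cen (h : CI K) {z : G} (hz : z ∈ K) (hz2 : orderOf z = 2) {D : Subgroup G} (hD : Mx K z D) {v : G}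
    (hv : v ∈ om D) (hne : v ∉ om (sy K z)) : sy K z ⊓ cen v = D := by
  have v1 : v ≠ 1 := fun e => hne (e ▸ one_mem _)
  have vK : v ∈ K := (sy_le z (hD.le hv.1)).1
  have l : D ≤ sy K z ⊓ cen v := fun d hd => ⟨hD.le hd, DT.mem_cen.2 (hv.2.2 d hd).symm⟩
  by_contra n
  exact hne (h.mem_om_of vK (ord2 v1 hv.2.1) (hD.2.2 _ (lt_of_le_of_ne l (Ne.symm n)) inf_le_left v vK (ord2 v1 hv.2.1)
    (le_sy ((h.sy_two hz hz2).to_le inf_le_left) (inf_le_inf_right _ ((sy_le z).trans inf_le_left)))))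

theorem CI.mx_move (h : CI K) {z : G} (hz : z ∈ K) (hz2 : orderOf z = 2) {D : Subgroup G} (hD : Mx K z D) {v : G}
    (hv : v ∈ om D) (hv1 : v ≠ 1) : ∃ m ∈ K ⊓ nor D, m * v * m⁻¹ ∈ om (sy K z) := by
  have := h.nm
  by_cases hne : v ∈ om (sy K z)
  · exact ⟨1, one_mem _, by rwa [one_mul, inv_one, mul_one]⟩
  have v2 := ord2 hv1 hv.2.1
  have vK : v ∈ K := (sy_le z (hD.le hv.1)).1
  have S2 := h.sy_two hz hz2
  have SK : ∀ w, sy K w ≤ K := fun w => (sy_le w).trans inf_le_left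
  have grow : ∀ w ∈ K, orderOf w = 2 → D ≤ sy K w → D ≠ sy K w → D < sy K w ⊓ nor D := fun w wK w2 l n => by
    obtain ⟨g, g1, g2, g3⟩ := DT.nor_grow Nat.prime_two (h.sy_two wK w2) l n
    exact lt_of_le_not_ge (le_inf l Subgroup.le_normalizer) fun k => g3 (k ⟨g1, g2⟩)
  have t1 : D < sy K z ⊓ nor D := grow z hz hz2 hD.le fun e => by
    obtain ⟨w, wK, w2, wn, e'⟩ := hD.2.1
    exact wn (h.syl hz hz2 (h.sy_two wK w2) (e.symm.le.trans (e'.le.trans inf_le_right)) (SK w))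
  have r1 : D < sy K v ⊓ nor D := grow v vK v2
    (le_sy (S2.to_le hD.le) fun d hd => ⟨SK z (hD.le hd), DT.mem_cen.2 (hv.2.2 d hd).symm⟩) fun e =>
      hne (h.mem_om_of vK v2 (h.syl vK v2 S2 (e.symm.le.trans hD.le) (SK z)).symm)
  obtain ⟨m, hm, l⟩ := move (M := K ⊓ nor D) (S2.to_le (inf_le_left : sy K z ⊓ nor D ≤ _))
    (inf_le_inf_right _ (SK z)) (fun P P2 p1 p2 => by
      obtain ⟨g, gK, hg⟩ := h.conj_le hz hz2 P2 (p2.trans inf_le_left)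
      have q : P ≤ sy K (g⁻¹ * z * g⁻¹⁻¹) := by rw [sy_cj, ← back' g P]; exact cj_le.2 hg
      exact le_inf (q.trans (hD.2.2 _ t1 inf_le_left _ (this.conj_mem z hz _) (ord _ hz2) (p1.trans q)).le)
        (p2.trans inf_le_right))
    ((h.sy_two vK v2).to_le (inf_le_left : sy K v ⊓ nor D ≤ _)) (inf_le_inf_right _ (SK v))
  refine ⟨m, hm, h.mem_om_of (this.conj_mem v vK m) (ord m v2) (hD.2.2 (cj m (sy K v ⊓ nor D)) ?_
    (l.trans inf_le_left) _ (this.conj_mem v vK m) (ord m v2) ?_)⟩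
  · have := cj_lt (g := m) r1
    rwa [DT.cj_eq_self_iff.2 hm.2] at this
  · rw [sy_cj]
    exact cj_le.2 inf_le_left

theorem CI.mx_out (h : CI K) {z : G} (hz : z ∈ K) (hz2 : orderOf z = 2) {D : Subgroup G} (hD : Mx K z D) :
    ∃ v ∈ om D, v ∉ om (sy K z) := by
  obtain ⟨a, ⟨v, vK, v2, vn, rfl⟩, -⟩ := hD
  have vS : v ∈ sy K z := I4aAux.inv_mem vK (sq_of v2) (DT.mem_cen.1 (sy_le v a.2).2).symm
  exact ⟨v, ⟨⟨vS, (self_mem_sy vK v2).1⟩, sq_of v2, fun e he => (self_mem_sy vK v2).2.2 e he.2⟩,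
    fun k => vn (h.sy_eq hz hz2 k (ne_of v2))⟩

theorem CI.mx_inv (h : CI K) {z : G} (hz : z ∈ K) (hz2 : orderOf z = 2) {D F : Subgroup G} (hD : Mx K z D)
    (hF : F ≤ om (sy K z)) (hn : K ⊓ nor D ≤ nor F) : F = ⊥ := by
  have := h.nm
  refine (Subgroup.eq_bot_iff_forall F).2 fun f hf => by_contra fun f1 => ?_
  obtain ⟨v, hv, hne⟩ := h.mx_out hz hz2 hD
  have v1 : v ≠ 1 := fun e => hne (e ▸ one_mem _)
  obtain ⟨m, hm, l⟩ := h.mx_move hz hz2 hD hv v1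
  have c : ∀ a : G, a ≠ 1 → m * a * m⁻¹ ≠ 1 := fun a a1 k => a1 (conj_eq_one_iff.1 k)
  have e1 := h.sy_eq hz hz2 l (c v v1)
  have e2 := h.sy_eq hz hz2 (hF ((DT.mem_nor.1 (hn hm) f).1 hf)) (c f f1)
  rw [sy_cj] at e1
  rw [sy_cj, h.sy_eq hz hz2 (hF hf) f1] at e2
  refine hne (h.mem_om_of (sy_le z (hD.le hv.1)).1 (ord2 v1 hv.2.1) ?_)
  rw [← back' m (sy K v), e1.trans e2.symm, back']

end Cfsg.Agent.RY
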