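import Cfsg.Agent.RY.I3

set_option autoImplicit false
set_option linter.unusedSectionVars false

namespace Cfsg.Agent.RY.I4a2

open Cfsg.Agent.DT (cm nor cen cj)

universe u
variable {G : Type u} [Group G] [Finite G] {E K : Subgroup G}

theorem cj_inj (g : G) {A B : Subgroup G} (h : cj g A = cj g B) : A = B :=
  Subgroup.map_injective (MulAut.conj g).injective h

theorem ord_cj (g v : G) : orderOf (g * v * g⁻¹) = orderOf v := (MulAut.conj g).orderOf_eq v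

theorem mem_sy {a v : G} (ha : a ∈ K) (hc : Commute a v) (h2 : a * a = 1) : a ∈ sy K v :=
  Subgroup.subset_closure ⟨ha, hc, 1, by rw [pow_one, pow_two, h2]⟩

theorem into {M A B : Subgroup G} (hA : IsPGroup 2 A) (hB : IsPGroup 2 B) (h1 : A ≤ M) (h2 : B ≤ M) :
    ∃ m ∈ M, ∃ U : Subgroup G, IsPGroup 2 U ∧ U ≤ M ∧ A ≤ U ∧ cj m B ≤ U := by
  haveI : Fact (Nat.Prime 2) := ⟨Nat.prime_two⟩
  obtain ⟨P, hP⟩ := (hA.comap_subtype (K := M)).exists_le_sylow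
  obtain ⟨P', hP'⟩ := (hB.comap_subtype (K := M)).exists_le_sylow
  obtain ⟨m, hm⟩ := MulAction.exists_smul_eq M P' P
  refine ⟨m, m.2, (P : Subgroup M).map M.subtype, P.isPGroup'.map _, Subgroup.map_subtype_le _,
    fun a ha => ⟨⟨a, h1 ha⟩, hP ha, rfl⟩, ?_⟩
  rintro _ ⟨b, hb, rfl⟩
  refine ⟨m * ⟨b, h2 hb⟩ * m⁻¹, ?_, rfl⟩
  rw [← hm]
  exact Subgroup.smul_mem_pointwise_smul _ (MulAut.conj m) _ (hP' hb)

theorem exists_mx (h : CI K) {z u : G} (hz : z ∈ K) (hz2 : orderOf z = 2) (hu : u ∈ sy K z) (hu2 : u * u = 1)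
    (hne : u ∉ om (sy K z)) : ∃ D : Subgroup G, Mx K z D ∧ sy K z ⊓ cen u ≤ D := by
  have u1 : u ≠ 1 := fun e => hne (e ▸ one_mem _)
  have uK : u ∈ K := (sy_le z hu).1
  have uo := I3Aux.ord2 u1 hu2
  have h0 : sy K z ⊓ cen u ≤ sy K z ⊓ sy K u := le_inf inf_le_left (le_sy ((h.sy_two hz hz2).to_le inf_le_left)
    (inf_le_inf_right _ ((sy_le z).trans inf_le_left)))
  obtain ⟨D, hle, hD⟩ := exists_maximal_ge_of_wellFoundedGT
    (fun D : Subgroup G => ∃ v ∈ K, orderOf v = 2 ∧ sy K v ≠ sy K z ∧ D = sy K z ⊓ sy K v) _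
    ⟨u, uK, uo, fun e => hne (h.mem_om_of uK uo e), rfl⟩
  have hz' := self_mem_sy hz hz2
  refine ⟨D, ⟨hle (h0 ⟨hz'.1, DT.mem_cen.2 (hz'.2.2 u hu)⟩), hD.1, fun U h1 h2 w hw hw2 h3 => ?_⟩, h0.trans hle⟩
  by_contra e
  exact h1.not_ge ((le_inf h2 h3).trans (hD.2 ⟨w, hw, hw2, e, rfl⟩ (h1.le.trans (le_inf h2 h3))))

theorem le {z : G} {D : Subgroup G} (h : Mx K z D) : D ≤ sy K z := by
  obtain ⟨-, ⟨v, -, -, -, rfl⟩, -⟩ := h
  exact inf_le_left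

theorem mcj [K.Normal] {z : G} {D : Subgroup G} (h : Mx K z D) (g : G) : Mx K (g * z * g⁻¹) (cj g D) := by
  obtain ⟨h1, ⟨v, hv, hv2, hne, e⟩, h3⟩ := h
  refine ⟨⟨z, h1, rfl⟩, ⟨g * v * g⁻¹, Subgroup.Normal.conj_mem inferInstance v hv g, (ord_cj g v).trans hv2,
    fun e' => hne (cj_inj g (by rwa [sy_cj, sy_cj] at e')), ?_⟩, fun U a1 a2 w hw hw2 a3 => ?_⟩
  · rw [sy_cj, sy_cj, e]
    exact Subgroup.map_inf _ _ _ (MulAut.conj g).injective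
  · have c1 : ∀ A : Subgroup G, cj g⁻¹ (cj g A) = A := fun A => by
      rw [DT.cj_cj, inv_mul_cancel]; exact DT.cj_eq_self_iff.2 (one_mem _)
    have b := h3 (cj g⁻¹ U) (lt_of_le_of_ne (c1 D ▸ Subgroup.map_mono a1.le) fun e' =>
      a1.ne (cj_inj g⁻¹ (by rw [c1, e']))) (by
        rw [← c1 (sy K z), ← sy_cj]; exact Subgroup.map_mono a2)
      (g⁻¹ * w * g⁻¹⁻¹) (Subgroup.Normal.conj_mem inferInstance w hw _) ((ord_cj _ w).trans hw2)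
      (by rw [sy_cj]; exact Subgroup.map_mono a3)
    refine cj_inj g⁻¹ ?_
    rw [← sy_cj, b, sy_cj, c1]

theorem vv {z : G} {D : Subgroup G} (hD : Mx K z D) :
    ∃ v ∈ om D, v ∈ K ∧ orderOf v = 2 ∧ sy K v ≠ sy K z ∧ D = sy K z ⊓ sy K v := by
  obtain ⟨h1, ⟨v, hv, hv2, hne, e⟩, -⟩ := hD
  have c : ∀ d ∈ D, Commute v d := fun d hd => (DT.mem_cen.1 (sy_le v (e ▸ hd).2).2).symm
  exact ⟨v, ⟨e ▸ ⟨mem_sy hv (c z h1) (I3Aux.sq_of hv2), (self_mem_sy hv hv2).1⟩, I3Aux.sq_of hv2, c⟩,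
    hv, hv2, hne, e⟩

theorem mx_om (h : CI K) {z : G} (hz : z ∈ K) (hz2 : orderOf z = 2) {D : Subgroup G} (hD : Mx K z D) :
    om (sy K z) ≤ om D := by
  obtain ⟨v, hv, -, -, -, e⟩ := vv hD
  intro a ha
  exact ⟨e ▸ ⟨ha.1, mem_sy (sy_le z ha.1).1 (ha.2.2 v (le hD hv.1)) ha.2.1⟩, ha.2.1,
    fun d hd => ha.2.2 d (le hD hd)⟩

theorem mx_cen (h : CI K) {z : G} (hz : z ∈ K) (hz2 : orderOf z = 2) {D : Subgroup G} (hD : Mx K z D) {v : G}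
    (hv : v ∈ om D) (hne : v ∉ om (sy K z)) : sy K z ⊓ cen v = D := by
  have v1 : v ≠ 1 := fun e => hne (e ▸ one_mem _)
  have vK : v ∈ K := (sy_le z (le hD hv.1)).1
  have vo := I3Aux.ord2 v1 hv.2.1
  by_contra e
  exact hne (h.mem_om_of vK vo (hD.2.2 _ (lt_of_le_of_ne (le_inf (le hD) fun d hd =>
    DT.mem_cen.2 (hv.2.2 d hd).symm) (Ne.symm e)) inf_le_left v vK vo
    (le_sy ((h.sy_two hz hz2).to_le inf_le_left) (inf_le_inf_right _ ((sy_le z).trans inf_le_left)))))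

theorem mx_move (h : CI K) {z : G} (hz : z ∈ K) (hz2 : orderOf z = 2) {D : Subgroup G} (hD : Mx K z D) {v : G}
    (hv : v ∈ om D) (hv1 : v ≠ 1) : ∃ m ∈ K ⊓ nor D, m * v * m⁻¹ ∈ om (sy K z) := by
  haveI := h.nm
  by_cases hne : v ∈ om (sy K z)
  · exact ⟨1, one_mem _, by simpa using hne⟩
  have SK : sy K z ≤ K := (sy_le z).trans inf_le_left
  have vK : v ∈ K := SK (le hD hv.1)
  have vo := I3Aux.ord2 hv1 hv.2.1
  have S2 := h.sy_two hz hz2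
  have V2 := h.sy_two vK vo
  have Dv : D ≤ sy K v := le_sy (S2.to_le (le hD)) (le_inf ((le hD).trans SK) fun d hd =>
    DT.mem_cen.2 (hv.2.2 d hd).symm)
  obtain ⟨a, a1, a2, a3⟩ := DT.nor_grow Nat.prime_two S2 (le hD) fun e => hne (e ▸ hv)
  obtain ⟨b, b1, b2, b3⟩ := DT.nor_grow Nat.prime_two V2 Dv fun e =>
    hne (h.mem_om_of vK vo (h.syl vK vo S2 (e ▸ le hD) SK).symm)
  obtain ⟨m, hm, U, u1, u2, u3, u4⟩ := into (M := K ⊓ nor D) (A := sy K z ⊓ nor D) (B := sy K v ⊓ nor D)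
    (S2.to_le inf_le_left) (V2.to_le inf_le_left) (inf_le_inf_right _ SK)
    (inf_le_inf_right _ ((sy_le v).trans inf_le_left))
  have US : U ≤ sy K z := by
    obtain ⟨g, hg, e⟩ := h.conj_le hz hz2 u1 (u2.trans inf_le_left)
    have e2 : U ≤ sy K (g⁻¹ * z * g⁻¹⁻¹) := fun x hx => by
      rw [sy_cj, DT.mem_cj, inv_inv]
      exact e ⟨x, hx, rfl⟩
    rwa [hD.2.2 (sy K z ⊓ nor D) (lt_of_le_of_ne (le_inf (le hD) Subgroup.le_normalizer) fun e' =>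
      a3 (e' ▸ ⟨a1, a2⟩)) inf_le_left _ (Subgroup.Normal.conj_mem inferInstance z hz _)
      ((ord_cj _ z).trans hz2) (u3.trans e2)] at e2
  have mD : cj m D = D := DT.cj_eq_self_iff.2 hm.2
  have vK' : m * v * m⁻¹ ∈ K := Subgroup.Normal.conj_mem inferInstance v vK m
  refine ⟨m, hm, h.mem_om_of vK' ((ord_cj m v).trans vo) (hD.2.2 (cj m (sy K v ⊓ nor D)) (lt_of_le_of_ne
    (mD.ge.trans (Subgroup.map_mono (le_inf Dv Subgroup.le_normalizer))) fun e => b3 ?_) (u4.trans US) _ vK'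
    ((ord_cj m v).trans vo) (by rw [sy_cj]; exact Subgroup.map_mono inf_le_left))⟩
  rw [cj_inj m (mD.trans e)]
  exact ⟨b1, b2⟩

theorem mx_out (h : CI K) {z : G} (hz : z ∈ K) (hz2 : orderOf z = 2) {D : Subgroup G} (hD : Mx K z D) :
    ∃ v ∈ om D, v ∉ om (sy K z) := by
  obtain ⟨v, hv, -, v2, hne, -⟩ := vv hD
  exact ⟨v, hv, fun e => hne (h.sy_eq hz hz2 e (I3Aux.ne_of v2))⟩

theorem mx_inv (h : CI K) {z : G} (hz : z ∈ K) (hz2 : orderOf z = 2) {D F : Subgroup G} (hD : Mx K z D)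
    (hF : F ≤ om (sy K z)) (hn : K ⊓ nor D ≤ nor F) : F = ⊥ := by
  haveI := h.nm
  refine (Subgroup.eq_bot_iff_forall F).2 fun f hf => ?_
  by_contra f1
  obtain ⟨v, hv, vK, v2, hne, -⟩ := vv hD
  obtain ⟨m, hm, e⟩ := mx_move h hz hz2 hD hv (I3Aux.ne_of v2)
  have ne1 : ∀ x : G, x ≠ 1 → m * x * m⁻¹ ≠ 1 := fun x hx e => hx (by simpa using e)
  have e1 := h.sy_eq hz hz2 e (ne1 v (I3Aux.ne_of v2))
  have e2 := h.sy_eq hz hz2 (hF ((DT.mem_nor.1 (hn hm) f).1 hf)) (ne1 f f1)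
  rw [sy_cj, h.sy_eq hz hz2 (hF hf) f1] at e2
  rw [sy_cj] at e1
  exact hne (cj_inj m (e1.trans e2.symm))

end Cfsg.Agent.RY.I4a2
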