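import Cfsg.Agent.RY.I4a
import Cfsg.Agent.S3861

set_option autoImplicit false
set_option linter.unusedSectionVars false

namespace Cfsg.Agent.RY

open Cfsg.Agent.DT (cm nor cen cj)
open Cfsg.Agent.DT (mem_nor mem_cen mem_cj nor_grow fix_coset)

universe u
variable {G : Type u} [Group G] [Finite G] {E K : Subgroup G}

namespace I4bAux

theorem inv_pow {a : G} (k : ℕ) (h : a ^ 2 ^ k = 1) (h1 : a ≠ 1) : ∃ n : ℕ, a ^ n * a ^ n = 1 ∧ a ^ n ≠ 1 := by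
  induction k with
  | zero => exact (h1 (by simpa using h)).elim
  | succ k ih =>
    by_cases e : a ^ 2 ^ k = 1
    · exact ih e
    · exact ⟨2 ^ k, by rw [← pow_add, ← two_mul, ← pow_succ', h], e⟩

theorem sq_ne {y : G} (h1 : y ≠ 1) (ho : Odd (orderOf y)) {k : ℕ} : (y * y) ^ 2 ^ k ≠ 1 := fun e => by
  rw [← sq, ← pow_mul, ← pow_succ'] at e
  have h2 := orderOf_dvd_of_pow_eq_one e
  exact h1 (orderOf_eq_one_iff.1
    (Nat.Coprime.eq_one_of_dvd (Nat.Coprime.pow_right _ (Nat.coprime_two_right.2 ho)) h2))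

theorem card_le {A B C : Subgroup G} (f : A →* G) (hk : ∀ a, f a = 1 → (a : G) ∈ B) (hr : ∀ a, f a ∈ C) :
    Nat.card A ≤ Nat.card B * Nat.card C := by
  rw [← f.ker.card_mul_index, Subgroup.index_ker]
  refine Nat.mul_le_mul ?_ (Subgroup.card_le_of_le ?_)
  · exact Nat.card_le_card_of_injective (fun a : f.ker => (⟨a.1.1, hk a.1 a.2⟩ : B))
      fun a b e => Subtype.ext (Subtype.ext (congrArg (fun x : B => (x : G)) e))
  · rintro _ ⟨a, rfl⟩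
    exact hr a

variable (h : CI K) {z : G} (hz : z ∈ K) (hz2 : orderOf z = 2) {D : Subgroup G} (hD : Mx K z D)
include h hz hz2 hD

theorem into {U : Subgroup G} (hU : IsPGroup 2 U) (hK : U ≤ K) (hDU : D ≤ U) {x : G} (h1 : x ∈ U)
    (h2 : x ∈ sy K z) (h3 : x ∉ D) : U ≤ sy K z := by
  have := h.nm
  obtain ⟨g, hg, e⟩ := h.conj_le hz hz2 hU hK
  have e' : U ≤ sy K (g⁻¹ * z * g⁻¹⁻¹) := fun a ha => by
    rw [sy_cj, mem_cj]
    simpa using e (show g * a * g⁻¹ ∈ cj g U from ⟨a, ha, rfl⟩)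
  rw [← hD.2.2 (U ⊓ sy K z) (lt_of_le_of_ne (le_inf hDU hD.le) fun e => h3 (e ▸ ⟨h1, h2⟩)) inf_le_right _
    (K.mul_mem (K.mul_mem (K.inv_mem hg) hz) (K.inv_mem (K.inv_mem hg)))
    (by rw [← hz2]; exact (MulAut.conj g⁻¹).orderOf_eq z) (inf_le_left.trans e')]
  exact e'

theorem key {s v : G} (hs : s ∈ sy K z) (hsD : s ∉ D) (hv : v ∈ om D) (hc : Commute s v) :
    v ∈ om (sy K z) := by
  by_contra hne
  exact hsD (h.mx_cen hz hz2 hD hv hne ▸ (⟨hs, mem_cen.2 hc⟩ : s ∈ sy K z ⊓ cen v))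

theorem sq_mem {s : G} (hs : s ∈ sy K z ⊓ nor D) : s * s ∈ D := by
  by_contra hn
  obtain ⟨v0, hv0, hv1⟩ := h.mx_out hz hz2 hD
  obtain ⟨v, hv, hv', hc⟩ := fix_coset Nat.prime_two
    ((h.sy_two hz hz2).to_le ((Subgroup.zpowers_le).2 hs.1) : IsPGroup 2 (Subgroup.zpowers s))
    (el_om D).two (h.mx_om hz hz2 hD) (fun e => hv1 (e ▸ hv0))
    (fun a ha => nor_le_nor_om _ (Subgroup.le_normalizer (hD.le ha.1)))
    ((Subgroup.zpowers_le).2 (nor_le_nor_om _ hs.2))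
    ((Subgroup.zpowers_le).2 (nor_le_nor_om _ (Subgroup.le_normalizer hs.1)))
  obtain ⟨-, c2, cc⟩ := hc s (Subgroup.mem_zpowers s)
  refine hv' (key h hz hz2 hD (Subgroup.mul_mem _ hs.1 hs.1) hn hv ?_)
  have c3 := (cc s hs.1).eq
  set c := v * s * v⁻¹ * s⁻¹ with hc'
  have e1 : v * (s * s) = c * (s * c) * s * v := by rw [hc']; group
  rw [← c3, ← mul_assoc c c, c2, one_mul] at e1
  exact e1.symm

end I4bAux

open I4bAux

theorem CI.mx_real (h : CI K) {z : G} (hz : z ∈ K) (hz2 : orderOf z = 2) {D : Subgroup G} (hD : Mx K z D) :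
    ∃ y ∈ K ⊓ nor D, ∃ t ∈ sy K z ⊓ nor D, y ≠ 1 ∧ Odd (orderOf y) ∧ orderOf t = 2 ∧ t ∉ D ∧ Iv t y := by
  have hS := h.sy_two hz hz2
  obtain ⟨v, hv, hv2, hne, hDe⟩ := hD.2.1
  have hS' := h.sy_two hv hv2
  have hDv : D ≤ sy K v := hDe ▸ inf_le_right
  have SK : ∀ w, sy K w ≤ K := fun w => (sy_le w).trans inf_le_left
  obtain ⟨x, hx, hxn, hxD⟩ := nor_grow Nat.prime_two hS hD.le fun e =>
    hne (h.syl hz hz2 hS' (e ▸ hDv) (SK v))
  obtain ⟨x', hx', hxn', hxD'⟩ := nor_grow Nat.prime_two hS' hDv fun e =>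
    hne (h.syl hv hv2 hS (e ▸ hD.le) (SK z)).symm
  set M := K ⊓ nor D with hM
  have two : ∀ {U : Subgroup G}, IsPGroup 2 U → IsPGroup 2 (U.subgroupOf M) := fun hU =>
    hU.comap_of_injective M.subtype M.subtype_injective
  obtain ⟨P, hP⟩ := (two hS).exists_le_sylow
  have hPS : (P : Subgroup M).map M.subtype ≤ sy K z :=
    into h hz hz2 hD (P.2.map _) ((Subgroup.map_subtype_le _).trans inf_le_left)
      (fun d hd => ⟨⟨d, SK z (hD.le hd), Subgroup.le_normalizer hd⟩, hP (hD.le hd), rfl⟩)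
      (x := x) ⟨⟨x, SK z hx, hxn⟩, hP hx, rfl⟩ hx hxD
  have hn : ¬ (P : Subgroup M).Normal := fun hn => by
    obtain ⟨P', hP'⟩ := (two hS').exists_le_sylow
    have := Sylow.unique_of_normal P hn
    rw [Subsingleton.elim P' P] at hP'
    exact hxD' (hDe ▸ (⟨hPS ⟨⟨x', SK v hx', hxn'⟩, hP' hx', rfl⟩, hx'⟩ : x' ∈ sy K z ⊓ sy K v))
  rw [← S3861.result P] at hn
  push Not at hn
  obtain ⟨y, hy1, hyo, hc⟩ := hn
  obtain ⟨c, hc⟩ := isConj_iff.1 hc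
  obtain ⟨m, k, -, hk, hi⟩ := Iv.two (show Iv c y from hc)
  obtain ⟨P', hP'⟩ := (show IsPGroup 2 (Subgroup.zpowers (c ^ m)) from by
    rintro ⟨_, n, rfl⟩
    exact ⟨k, Subtype.ext (by
      simp only [SubgroupClass.coe_pow, OneMemClass.coe_one]
      rw [← zpow_natCast, ← zpow_mul, mul_comm, zpow_mul, zpow_natCast, hk, one_zpow])⟩).exists_le_sylow
  obtain ⟨g, hg⟩ := MulAction.exists_smul_eq M P' P
  have ht : g * c ^ m * g⁻¹ ∈ (P : Subgroup M) := by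
    rw [← hg]
    exact ⟨c ^ m, hP' (Subgroup.mem_zpowers _), rfl⟩
  set t := g * c ^ m * g⁻¹ with ht'
  set y' := g * y * g⁻¹ with hy'
  have i1 : Iv t y' := by
    have : t * y' * t⁻¹ = g * (c ^ m * y * (c ^ m)⁻¹) * g⁻¹ := by rw [ht', hy']; group
    rw [Iv, this, show c ^ m * y * (c ^ m)⁻¹ = y⁻¹ from hi, hy']; group
  have i2 : Iv (t : G) (y' : G) := congrArg Subtype.val i1
  have o1 : Odd (orderOf (y' : G)) := by
    rw [Subgroup.orderOf_coe, show orderOf y' = orderOf y from (MulAut.conj g).orderOf_eq y]; exact hyo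
  have n1 : (y' : G) ≠ 1 := fun e => hy1 (by
    have : y' = 1 := Subtype.ext e
    rw [hy'] at this
    simpa [mul_inv_eq_one] using this)
  have tS : (t : G) ∈ sy K z := hPS ⟨t, ht, rfl⟩
  have yy : (y' : G) * t * (y' : G)⁻¹ * (t : G)⁻¹ = y' * y' := by
    have : (y' : G) * t * (y' : G)⁻¹ * (t : G)⁻¹ = y' * (t * y' * (t : G)⁻¹)⁻¹ := by group
    rw [this, i2, inv_inv]
  have tD : (t : G) ∉ D := fun e => by
    obtain ⟨j, hj⟩ := hS ⟨y' * y', hD.le (yy ▸ D.mul_mem ((mem_nor.1 y'.2.2 _).1 e) (D.inv_mem e))⟩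
    exact sq_ne n1 o1 (congrArg Subtype.val hj)
  have tt : (t : G) * t = 1 := by
    by_contra e
    obtain ⟨j, hj⟩ := hS ⟨t * t, Subgroup.mul_mem _ tS tS⟩
    obtain ⟨n, h1, h2⟩ := inv_pow j (congrArg Subtype.val hj : ((t : G) * t) ^ 2 ^ j = 1) e
    refine h2 (h.oddc y'.2.1 n1 o1 i2 (K.pow_mem (K.mul_mem t.2.1 t.2.1) n) h1 (Commute.pow_right ?_ n))
    have : (t : G) * t * y' = t * (t * y' * (t : G)⁻¹) * (t : G)⁻¹ * (t * t) := by group
    have e2 : (t : G) * (y' : G)⁻¹ * (t : G)⁻¹ = (t * y' * (t : G)⁻¹)⁻¹ := by group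
    rw [i2, e2, i2, inv_inv] at this
    exact this.symm
  exact ⟨y', y'.2, t, ⟨tS, t.2.2⟩, n1, o1,
    orderOf_eq_prime (by rw [sq, tt]) (fun e => tD (e ▸ D.one_mem)), tD, i2⟩

theorem CI.mx_comm (h : CI K) {z : G} (hz : z ∈ K) (hz2 : orderOf z = 2) {D : Subgroup G} (hD : Mx K z D) {s v : G}
    (hs : s ∈ sy K z ⊓ nor D) (hv : v ∈ om D) : v * s * v⁻¹ * s⁻¹ ∈ om (sy K z) := by
  by_cases hsD : s ∈ D
  · rw [(hv.2.2 s hsD).eq, mul_inv_cancel_right, mul_inv_cancel]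
    exact Subgroup.one_mem _
  have hc : v * s * v⁻¹ * s⁻¹ ∈ om D := by
    rw [show v * s * v⁻¹ * s⁻¹ = v * (s * v⁻¹ * s⁻¹) by group]
    exact Subgroup.mul_mem _ hv ((mem_nor.1 (nor_le_nor_om _ hs.2) _).1 (Subgroup.inv_mem _ hv))
  refine key h hz hz2 hD hs.1 hsD hc ?_
  have e1 := (hv.2.2 _ (sq_mem h hz hz2 hD hs)).eq
  have e2 : s * (v * s * v⁻¹ * s⁻¹) = (v * s * v⁻¹ * s⁻¹)⁻¹ * (v * (s * s)) * v⁻¹ * s⁻¹ := by group
  rw [e1, inv_eq_of_mul_eq_one_right hc.2.1] at e2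
  exact e2.trans (by group)

theorem CI.mx_card (h : CI K) {z : G} (hz : z ∈ K) (hz2 : orderOf z = 2) {D : Subgroup G} (hD : Mx K z D) :
    Nat.card (om D) = Nat.card (om (sy K z)) ^ 2 := by
  obtain ⟨y, hy, t, ht, y1, yo, -, tD, hi⟩ := h.mx_real hz hz2 hD
  have hle := h.mx_om hz hz2 hD
  refine le_antisymm ?_ ?_
  · rw [sq]
    refine card_le (MonoidHom.mk' (fun v : om D => (v : G) * t * (v : G)⁻¹ * t⁻¹) fun a b => ?_)
      (fun a ha => key h hz hz2 hD ht.1 tD a.2 ?_) fun a => h.mx_comm hz hz2 hD ht a.2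
    · have c := (a.2.2.2 _ (hle (h.mx_comm hz hz2 hD ht b.2)).1).eq
      have c' := ((h.mx_comm hz hz2 hD ht b.2).2.2 _ (h.mx_comm hz hz2 hD ht a.2).1).eq
      rw [← c']
      have : (a : G) * b * t * ((a : G) * b)⁻¹ * t⁻¹ =
          a * (b * t * (b : G)⁻¹ * t⁻¹) * (t * (a : G)⁻¹ * t⁻¹) := by group
      rw [Subgroup.coe_mul, this, c]; group
    · have : (a : G) * t * (a : G)⁻¹ * t⁻¹ = 1 := ha
      rw [mul_inv_eq_one, mul_inv_eq_iff_eq_mul] at this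
      exact this.symm
  · have yV := nor_le_nor_om _ hy.2
    have key2 : ∀ a ∈ om (sy K z), ∀ b ∈ om (sy K z), a = y * b * y⁻¹ → a = 1 := by
      intro a ha b hb e
      have yy : y * t * y⁻¹ * t⁻¹ = y * y := by
        rw [show y * t * y⁻¹ * t⁻¹ = y * (t * y * t⁻¹)⁻¹ by group, hi, inv_inv]
      refine h.oddc (K.mul_mem hy.1 hy.1) (fun e => sq_ne y1 yo (k := 0) (by simpa using e))
        (yo.of_dvd_nat (by rw [← sq]; exact orderOf_pow_dvd 2)) (t := t) ?_ ((sy_le z ha.1).1) ha.2.1 ?_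
      · rw [Iv, show t * (y * y) * t⁻¹ = t * y * t⁻¹ * (t * y * t⁻¹) by group, hi, mul_inv_rev]
      · rw [← yy]
        refine Commute.mul_left ?_ (ha.2.2 t ht.1).symm.inv_left
        have := (hb.2.2 t ht.1).eq
        rw [e]
        change y * t * y⁻¹ * (y * b * y⁻¹) = y * b * y⁻¹ * (y * t * y⁻¹)
        calc _ = y * (t * b) * y⁻¹ := by group
          _ = _ := by rw [← this]; group
    rw [sq, ← Nat.card_prod]
    refine Nat.card_le_card_of_injective (fun p : om (sy K z) × om (sy K z) =>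
      (⟨p.1 * (y * p.2 * y⁻¹), Subgroup.mul_mem _ (hle p.1.2) ((mem_nor.1 yV _).1 (hle p.2.2))⟩ : om D))
      fun p q e => ?_
    have e' : (p.1 : G) * (y * p.2 * y⁻¹) = q.1 * (y * q.2 * y⁻¹) := congrArg Subtype.val e
    have e1 : (q.1 : G)⁻¹ * p.1 = y * (q.2 * (p.2 : G)⁻¹) * y⁻¹ := by
      calc _ = (q.1 : G)⁻¹ * (p.1 * (y * p.2 * y⁻¹)) * (y * (p.2 : G)⁻¹ * y⁻¹) := by group
        _ = _ := by rw [e']; group
    have e2 := key2 _ (Subgroup.mul_mem _ (Subgroup.inv_mem _ q.1.2) p.1.2) _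
      (Subgroup.mul_mem _ q.2.2 (Subgroup.inv_mem _ p.2.2)) e1
    rw [inv_mul_eq_one] at e2
    rw [← e2, mul_right_inj, mul_left_inj, mul_right_inj] at e'
    exact Prod.ext (Subtype.ext e2.symm) (Subtype.ext e')

theorem CI.mx_index (h : CI K) {z : G} (hz : z ∈ K) (hz2 : orderOf z = 2) {D : Subgroup G} (hD : Mx K z D) :
    Nat.card (sy K z ⊓ nor D : Subgroup G) ≤ Nat.card D * Nat.card (om (sy K z)) := by
  obtain ⟨v, hv, hv1⟩ := h.mx_out hz hz2 hD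
  refine card_le (MonoidHom.mk' (fun s : (sy K z ⊓ nor D : Subgroup G) => v * s * v⁻¹ * (s : G)⁻¹)
    fun a b => ?_) (fun a ha => ?_) fun a => h.mx_comm hz hz2 hD a.2 hv
  · have c2 := ((h.mx_comm hz hz2 hD b.2 hv).2.2 _ (Subgroup.inv_mem _ a.2.1)).eq
    have : v * ((a : G) * b) * v⁻¹ * ((a : G) * b)⁻¹ =
        v * a * v⁻¹ * (v * b * v⁻¹ * (b : G)⁻¹ * (a : G)⁻¹) := by group
    rw [Subgroup.coe_mul, this, c2, ← mul_assoc]
  · have : v * a * v⁻¹ * (a : G)⁻¹ = 1 := ha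
    rw [mul_inv_eq_one, mul_inv_eq_iff_eq_mul] at this
    exact h.mx_cen hz hz2 hD hv hv1 ▸ (⟨a.2.1, mem_cen.2 this.symm⟩ : (a : G) ∈ sy K z ⊓ cen v)

end Cfsg.Agent.RY
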