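import Cfsg.Agent.RY.I4a

set_option autoImplicit false
set_option linter.unusedSectionVars false

namespace Cfsg.Agent.RY.I4b2

open Cfsg.Agent.DT (cm nor cen cj)

universe u
variable {G : Type u} [Group G] [Finite G] {E K : Subgroup G}

theorem sq_mem (h : CI K) {z : G} (hz : z ∈ K) (hz2 : orderOf z = 2) {D : Subgroup G} (hD : Mx K z D) {s : G}
    (hs : s ∈ sy K z ⊓ nor D) : s * s ∈ D := by
  obtain ⟨v0, hv0, hn0⟩ := h.mx_out hz hz2 hD
  have hle := h.mx_om hz hz2 hD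
  have nz : ∀ g : G, (∀ c ∈ om (sy K z), Commute c g) → g ∈ nor (om (sy K z)) := fun g hg =>
    Subgroup.centralizer_le_normalizer _ fun c hc => hg c hc
  obtain ⟨v, hv, hn, hc⟩ := DT.fix_coset Nat.prime_two (E := Subgroup.zpowers s) (Q := om D) (N := om (sy K z))
    ((h.sy_two hz hz2).to_le (Subgroup.zpowers_le.2 hs.1)) (el_om D).two hle (fun e => hn0 (e ▸ hv0))
    (fun g hg => nz g fun c hc => (el_om D).2 c (hle hc) g hg)
    (Subgroup.zpowers_le.2 (nor_le_nor_om D hs.2)) (Subgroup.zpowers_le.2 (nz s fun c hc => hc.2.2 s hs.1))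
  obtain ⟨-, c2, cc⟩ := hc s (Subgroup.mem_zpowers s)
  have e := (cc s hs.1).eq
  rw [← h.mx_cen hz hz2 hD hv hn]
  refine ⟨mul_mem hs.1 hs.1, DT.mem_cen.2 ?_⟩
  generalize hc' : v * s * v⁻¹ * s⁻¹ = c at c2 e
  have e1 : v * s * v⁻¹ = c * s := by rw [← hc']; group
  have e2 : v * (s * s) * v⁻¹ = s * s := by
    calc v * (s * s) * v⁻¹ = (v * s * v⁻¹) * (v * s * v⁻¹) := by group
      _ = c * (s * c) * s := by rw [e1]; group
      _ = s * s := by rw [← e, ← mul_assoc, c2, one_mul]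
  exact (mul_inv_eq_iff_eq_mul.1 e2).symm

theorem mx_comm (h : CI K) {z : G} (hz : z ∈ K) (hz2 : orderOf z = 2) {D : Subgroup G} (hD : Mx K z D) {s v : G}
    (hs : s ∈ sy K z ⊓ nor D) (hv : v ∈ om D) : v * s * v⁻¹ * s⁻¹ ∈ om (sy K z) := by
  by_contra hn
  have hv' : s * v⁻¹ * s⁻¹ ∈ om D := (DT.mem_nor.1 (nor_le_nor_om D hs.2) _).1 (inv_mem hv)
  have hw : v * s * v⁻¹ * s⁻¹ ∈ om D := by simpa only [mul_assoc] using mul_mem hv hv'
  have vi : v⁻¹ = v := inv_eq_of_mul_eq_one_right hv.2.1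
  have e1 := (hv.2.2 _ (sq_mem h hz hz2 hD hs)).eq
  have e2 := (hv.2.2 _ hv'.1).eq
  have hsD : s ∈ D := by
    rw [← h.mx_cen hz hz2 hD hw hn]
    refine ⟨hs.1, DT.mem_cen.2 ?_⟩
    rw [vi] at e2 ⊢
    show s * (v * s * v * s⁻¹) = v * s * v * s⁻¹ * s
    calc s * (v * s * v * s⁻¹) = s * (v * (s * v * s⁻¹)) := by group
      _ = (s * s * v) * s⁻¹ * v := by rw [e2]; group
      _ = v * s * v * s⁻¹ * s := by rw [← e1]; group
  apply hn
  rw [(hv.2.2 s hsD).eq]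
  simp

theorem mx_index (h : CI K) {z : G} (hz : z ∈ K) (hz2 : orderOf z = 2) {D : Subgroup G} (hD : Mx K z D) :
    Nat.card (sy K z ⊓ nor D : Subgroup G) ≤ Nat.card D * Nat.card (om (sy K z)) := by
  obtain ⟨v, hv, hn⟩ := h.mx_out hz hz2 hD
  let φ : (sy K z ⊓ nor D : Subgroup G) →* om (sy K z) := MonoidHom.mk' (fun s => ⟨_, mx_comm h hz hz2 hD s.2 hv⟩)
    fun s s' => Subtype.ext (by
      have e := ((mx_comm h hz hz2 hD s'.2 hv).2.2 _ (inv_mem s.2.1)).eq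
      show v * (s * s') * v⁻¹ * ((s : G) * s')⁻¹ = v * s * v⁻¹ * (s : G)⁻¹ * (v * s' * v⁻¹ * (s' : G)⁻¹)
      rw [mul_assoc (v * s * v⁻¹), ← e]; group)
  have k : Nat.card φ.ker ≤ Nat.card D := by
    refine Nat.card_le_card_of_injective (fun x => (⟨x.1.1, ?_⟩ : D)) fun x y e => Subtype.ext (Subtype.ext (Subtype.mk.inj e))
    refine (h.mx_cen hz hz2 hD hv hn).le ⟨x.1.2.1, DT.mem_cen.2 ?_⟩
    have e : v * x.1.1 * v⁻¹ * x.1.1⁻¹ = 1 := congrArg Subtype.val x.2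
    rw [mul_inv_eq_one, mul_inv_eq_iff_eq_mul] at e
    exact e.symm
  rw [← φ.ker.card_mul_index, Subgroup.index_ker]
  exact Nat.mul_le_mul k (Subgroup.card_le_card_group _)

end Cfsg.Agent.RY.I4b2
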