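import Cfsg.Agent.RY.I4b

set_option autoImplicit false
set_option linter.unusedSectionVars false

namespace Cfsg.Agent.RY

open Cfsg.Agent.DT (cm nor cen cj)

universe u
variable {G : Type u} [Group G] [Finite G] {E K : Subgroup G}

namespace I4cAux
open Cfsg.Agent.DT

theorem om_le (D : Subgroup G) : om D ≤ D := fun _ h => h.1

theorem card_rel {H L : Subgroup G} (h : H ≤ L) : Nat.card H * H.relIndex L = Nat.card L := by
  rw [← Nat.card_congr (Subgroup.subgroupOfEquivOfLe h).toEquiv]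
  exact (H.subgroupOf L).card_mul_index

theorem onto {V Z : Subgroup G} {u : G} (hZ : Z ≤ V) (hc : Nat.card V = Nat.card Z ^ 2)
    (h1 : ∀ v ∈ V, u * v * u⁻¹ * v⁻¹ ∈ Z) (h2 : ∀ a ∈ Z, ∀ v ∈ V, Commute a v)
    (h3 : ∀ v ∈ V, Commute v u ↔ v ∈ Z) {a : G} (ha : a ∈ Z) : ∃ v ∈ V, u * v * u⁻¹ * v⁻¹ = a := by
  let f : V →* Z := MonoidHom.mk' (fun v => ⟨u * v * u⁻¹ * (v : G)⁻¹, h1 v v.2⟩) fun v w => Subtype.ext (by
    have := (h2 _ (h1 w w.2) v v.2).eq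
    show u * ((v : G) * w) * u⁻¹ * ((v : G) * w)⁻¹ = u * v * u⁻¹ * (v : G)⁻¹ * (u * w * u⁻¹ * (w : G)⁻¹)
    calc _ = u * v * u⁻¹ * (v : G)⁻¹ * ((v : G) * (u * w * u⁻¹ * (w : G)⁻¹) * (v : G)⁻¹) := by group
      _ = _ := by rw [← this, mul_inv_cancel_right])
  have k : f.ker = Z.subgroupOf V := by
    ext v
    rw [MonoidHom.mem_ker, Subgroup.mem_subgroupOf, ← h3 v v.2, Subtype.ext_iff]
    show u * v * u⁻¹ * (v : G)⁻¹ = 1 ↔ _
    rw [mul_inv_eq_one, mul_inv_eq_iff_eq_mul]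
    exact ⟨fun e => e.symm, fun e => e.symm⟩
  have c1 := f.ker.card_mul_index
  rw [Subgroup.index_ker, k, Nat.card_congr (Subgroup.subgroupOfEquivOfLe hZ).toEquiv, hc, pow_two] at c1
  have c2 := Nat.eq_of_mul_eq_mul_left Nat.card_pos c1
  obtain ⟨v, hv⟩ : (⟨a, ha⟩ : Z) ∈ f.range := by
    rw [Subgroup.eq_top_of_card_eq _ c2]; trivial
  exact ⟨v, v.2, congrArg Subtype.val hv⟩

end I4cAux
open I4cAux

theorem CI.mx_el (h : CI K) {z : G} (hz : z ∈ K) (hz2 : orderOf z = 2) {D D' : Subgroup G} (hD : Mx K z D)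
    (hD' : Mx K z D') (hn : D ≤ nor D') (hle : om D' ≤ nor D) (hne : ¬ om D' ≤ D) :
    om D = D ∧ (Nat.card (om (sy K z)) = 4 → Big K z D (om D')) := by
  have zV := h.mx_om hz hz2 hD
  have zV' := h.mx_om hz hz2 hD'
  have pD : IsPGroup 2 D := (h.sy_two hz hz2).to_le hD.le
  have c2 : ∀ v ∈ om D, v ∈ D' → v ∈ om (sy K z) := fun v hv hv' => by
    by_contra e
    exact hne fun w hw => (h.mx_cen hz hz2 hD hv e).le ⟨hD'.le hw.1, DT.mem_cen.2 (hw.2.2 v hv')⟩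
  have c1 : ∀ w ∈ om D', w ∈ D → w ∈ om (sy K z) := fun w hw hw' => by
    by_contra e
    obtain ⟨v, hv, hv0⟩ := h.mx_out hz hz2 hD
    exact hv0 (c2 v hv ((h.mx_cen hz hz2 hD' hw e).le ⟨hD.le hv.1, DT.mem_cen.2 (hv.2.2 w hw')⟩))
  obtain ⟨u, hu, huD⟩ := SetLike.not_le_iff_exists.1 hne
  have u0 : u ∉ om (sy K z) := fun e => huD (zV e).1
  have cu := h.mx_cen hz hz2 hD' hu u0
  have cm1 : ∀ d ∈ D, u * d * u⁻¹ * d⁻¹ ∈ om (sy K z) := fun d hd => h.mx_comm hz hz2 hD' ⟨hD.le hd, hn hd⟩ hu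
  have sq : ∀ d ∈ D, d * d ∈ D' := fun d hd => by
    obtain ⟨v, hv, e⟩ := onto zV (h.mx_card hz hz2 hD) (fun v hv => cm1 v hv.1)
      (fun a ha v hv => ha.2.2 v (hD.le hv.1)) (fun v hv => ⟨fun e => c2 v hv (cu.le ⟨hD.le hv.1, DT.mem_cen.2 e⟩),
        fun e => e.2.2 u (hD'.le hu.1)⟩) (cm1 d hd)
    have hvd := (hv.2.2 d hd).eq
    have e1 : v⁻¹ * d ∈ D' := cu.le ⟨hD.le (mul_mem (inv_mem hv.1) hd), DT.mem_cen.2 (by
      show v⁻¹ * d * u = u * (v⁻¹ * d)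
      have e2 : u * d * u⁻¹ = u * v * u⁻¹ * v⁻¹ * d := by rw [e]; group
      calc v⁻¹ * d * u = u * v⁻¹ * u⁻¹ * (u * v * u⁻¹ * v⁻¹ * d) * u := by group
        _ = _ := by rw [← e2]; group)⟩
    have e3 : d * d = v⁻¹ * d * (v⁻¹ * d) := by
      have i : v⁻¹ = v := inv_eq_of_mul_eq_one_right hv.2.1
      rw [i]
      calc d * d = (v * v) * d * d := by rw [hv.2.1, one_mul]
        _ = v * (v * d) * d := by group
        _ = v * (d * v) * d := by rw [hvd]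
        _ = _ := by group
    rw [e3]; exact mul_mem e1 e1
  set F : Subgroup G := Subgroup.closure {g | ∃ d ∈ D, g = d * d} with hF
  have FD : F ≤ D := (Subgroup.closure_le _).2 (by rintro _ ⟨d, hd, rfl⟩; exact mul_mem hd hd)
  have FD' : F ≤ D' := (Subgroup.closure_le _).2 (by rintro _ ⟨d, hd, rfl⟩; exact sq d hd)
  have cF : ∀ g ∈ nor D, ∀ a ∈ F, g * a * g⁻¹ ∈ F := fun g hg a ha => by
    have : F ≤ F.comap (MulAut.conj g).toMonoidHom := (Subgroup.closure_le _).2 (by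
      rintro _ ⟨d, hd, rfl⟩
      exact Subgroup.subset_closure ⟨g * d * g⁻¹, (DT.mem_nor.1 hg d).1 hd, by
        show g * (d * d) * g⁻¹ = _
        group⟩)
    exact this ha
  have nF : nor D ≤ nor F := fun g hg => DT.mem_nor.2 fun a => ⟨cF g hg a, fun e => by
    have := cF g⁻¹ (inv_mem hg) _ e
    rwa [show g⁻¹ * (g * a * g⁻¹) * g⁻¹⁻¹ = a by group] at this⟩
  have F0 : F ⊓ om D = ⊥ := h.mx_inv hz hz2 hD (fun a ha => c2 a ha.2 (FD' ha.1))
    fun g hg => DT.nor_inf_le_nor_inf _ _ ⟨nF hg.2, nor_le_nor_om D hg.2⟩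
  have Fb : F = ⊥ := by
    by_contra e
    obtain ⟨a, ha, a1, ac⟩ : ∃ a ∈ F, a ≠ 1 ∧ ∀ d ∈ D, Commute a d := by
      have nb : ∀ X : Subgroup G, X ≤ nor (⊥ : Subgroup G) := fun X =>
        le_top.trans (Subgroup.normalizer_eq_top _).ge
      obtain ⟨a, ha, a1, ac⟩ := DT.fix_coset (N := ⊥) Nat.prime_two pD (pD.to_le FD) bot_le (Ne.symm e) (nb _)
        (fun g hg => nF (Subgroup.le_normalizer hg)) (nb _)
      refine ⟨a, ha, fun e => a1 (Subgroup.mem_bot.2 e), fun d hd => ?_⟩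
      have := Subgroup.mem_bot.1 (ac d hd)
      rwa [mul_inv_eq_one, mul_inv_eq_iff_eq_mul] at this
    obtain ⟨k, hk⟩ := pD ⟨a, FD ha⟩
    have hk' : a ^ 2 ^ k = 1 := congrArg Subtype.val hk
    clear hk
    induction k generalizing a with
    | zero => exact a1 (by simpa using hk')
    | succ k ih =>
      by_cases q : a * a = 1
      · exact a1 (Subgroup.mem_bot.1 (F0.le ⟨ha, FD ha, q, ac⟩))
      · exact ih (a * a) (mul_mem ha ha) q (fun d hd => (ac d hd).mul_left (ac d hd))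
          (by rw [← pow_two, ← pow_mul, ← pow_succ', hk'])
  have ex : ∀ d ∈ D, d * d = 1 := fun d hd => Subgroup.mem_bot.1 (Fb.le (Subgroup.subset_closure ⟨d, hd, rfl⟩))
  have oD : om D = D := le_antisymm (om_le D) fun d hd => ⟨hd, ex d hd, fun e he => by
    show d * e = e * d
    rw [← inv_eq_of_mul_eq_one_right (ex _ (mul_mem hd he)), mul_inv_rev, inv_eq_of_mul_eq_one_right (ex d hd),
      inv_eq_of_mul_eq_one_right (ex e he)]⟩
  refine ⟨oD, fun h4 => ?_⟩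
  have cV : Nat.card D = 16 := by rw [← oD, h.mx_card hz hz2 hD, h4]; norm_num
  have cW : Nat.card (om D') = 16 := by rw [h.mx_card hz hz2 hD', h4]; norm_num
  have inf : D ⊓ om D' = om (sy K z) := le_antisymm (fun a ha => c1 a ha.2 ha.1) (le_inf (zV.trans (om_le D)) zV')
  have sle : D ⊔ om D' ≤ sy K z ⊓ nor D :=
    sup_le (le_inf hD.le Subgroup.le_normalizer) (le_inf ((om_le D').trans hD'.le) hle)
  have i1 := h.mx_index hz hz2 hD
  have i2 := card_rel (inf_le_right : D ⊓ om D' ≤ om D')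
  rw [Subgroup.inf_relIndex_right, inf, h4, cW] at i2
  have i3 := card_rel (le_sup_left : D ≤ D ⊔ om D')
  have i4 : D.relIndex (om D') ≤ D.relIndex (D ⊔ om D') :=
    Subgroup.relIndex_le_of_le_right le_sup_right Subgroup.index_ne_zero_of_finite
  have i5 := Subgroup.card_le_of_le sle
  rw [cV, h4] at i1
  rw [cV] at i3
  refine ⟨hD, oD ▸ el_om D, el_om D', cV, cW, h4, inf, Subgroup.eq_of_le_of_card_ge sle (by omega), by omega,
    fun v hv w hw e => ?_, fun s hs => ?_, fun v hv w hw => ?_⟩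
  · by_cases w0 : w ∈ om (sy K z)
    · exact Or.inr (zV w0).1
    · exact Or.inl (zV' (c2 v (oD.ge hv) ((h.mx_cen hz hz2 hD' hw w0).le ⟨hD.le hv, DT.mem_cen.2 e⟩)))
  · rw [sup_comm] at hs
    obtain ⟨w, hw, v, hv, e⟩ := (DT.mem_sup_nor hle).1 hs
    exact ⟨w * v * w⁻¹, (DT.mem_nor.1 (hle hw) v).1 hv, w, hw, by rw [e]; group⟩
  · exact h.mx_comm hz hz2 hD ⟨hD'.le hw.1, hle hw⟩ (oD.ge hv)

end Cfsg.Agent.RY
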