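import Cfsg.Agent.RY.I4b

set_option autoImplicit false
set_option linter.unusedSectionVars false

namespace Cfsg.Agent.RY

open Cfsg.Agent.DT (cm nor cen cj)

universe u
variable {G : Type u} [Group G] [Finite G] {E K : Subgroup G}

namespace I4dAux

theorem two_mul_le {A B : Subgroup G} (h : A ≤ B) (hne : A ≠ B) : 2 * Nat.card A ≤ Nat.card B := by
  obtain ⟨k, hk⟩ := Subgroup.card_dvd_of_le h
  have hB : 0 < Nat.card B := Nat.card_pos
  have k0 : k ≠ 0 := by rintro rfl; omega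
  have k1 : k ≠ 1 := by
    rintro rfl
    exact hne (Subgroup.eq_of_le_of_card_ge h (by omega))
  rw [hk, mul_comm]
  exact Nat.mul_le_mul_left _ (by omega)

theorem exists_sq {S T : Subgroup G} (hS : IsPGroup 2 S) (hle : T ≤ S) (hne : T ≠ S) :
    ∃ n ∈ S, n ∈ nor T ∧ n ∉ T ∧ n * n ∈ T := by
  classical
  obtain ⟨g, hgS, hgn, hgT⟩ := DT.nor_grow Nat.prime_two hS hle hne
  have hex : ∃ k : ℕ, g ^ 2 ^ k ∈ T := by
    obtain ⟨k, hk⟩ := hS ⟨g, hgS⟩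
    exact ⟨k, by rw [show g ^ 2 ^ k = 1 from congrArg Subtype.val hk]; exact T.one_mem⟩
  have h0 : Nat.find hex ≠ 0 := fun e => hgT (by simpa [e] using Nat.find_spec hex)
  obtain ⟨j, hj⟩ := Nat.exists_eq_succ_of_ne_zero h0
  refine ⟨g ^ 2 ^ j, pow_mem hgS _, pow_mem hgn _, Nat.find_min hex (by omega), ?_⟩
  have := Nat.find_spec hex
  rwa [hj, pow_succ, pow_mul, sq] at this

/-- the elements of `S` centralizing `w` modulo `om S`. -/
def W1 (S : Subgroup G) (w : G) : Subgroup G where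
  carrier := {s | s ∈ S ∧ s * w * s⁻¹ * w⁻¹ ∈ om S}
  one_mem' := ⟨S.one_mem, by simpa using (om S).one_mem⟩
  mul_mem' := by
    rintro s t ⟨hs, hs'⟩ ⟨ht, ht'⟩
    refine ⟨S.mul_mem hs ht, ?_⟩
    have e : s * t * w * (s * t)⁻¹ * w⁻¹ = s * (t * w * t⁻¹ * w⁻¹) * s⁻¹ * (s * w * s⁻¹ * w⁻¹) := by group
    rw [e, ← (ht'.2.2 s hs).eq, mul_inv_cancel_right]
    exact mul_mem ht' hs'
  inv_mem' := by
    rintro s ⟨hs, hs'⟩
    refine ⟨S.inv_mem hs, ?_⟩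
    have e : s⁻¹ * w * s⁻¹⁻¹ * w⁻¹ = s⁻¹ * (s * w * s⁻¹ * w⁻¹)⁻¹ * s⁻¹⁻¹ := by group
    rw [e, ← (((om S).inv_mem hs').2.2 _ (S.inv_mem hs)).eq, mul_inv_cancel_right]
    exact inv_mem hs'

theorem card_W1 (S : Subgroup G) (w : G) :
    Nat.card (W1 S w) ≤ Nat.card (S ⊓ cen w : Subgroup G) * Nat.card (om S) := by
  let φ : W1 S w →* G := MonoidHom.mk' (fun s => s.1 * w * s.1⁻¹ * w⁻¹) (fun s t => by
    have e : s.1 * t.1 * w * (s.1 * t.1)⁻¹ * w⁻¹ =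
        s.1 * (t.1 * w * t.1⁻¹ * w⁻¹) * s.1⁻¹ * (s.1 * w * s.1⁻¹ * w⁻¹) := by group
    rw [Subgroup.coe_mul, e, ← (t.2.2.2.2 s.1 s.2.1).eq, mul_inv_cancel_right]
    exact (t.2.2.2.2 _ s.2.2.1).eq)
  have h1 : Nat.card φ.range ≤ Nat.card (om S) := Subgroup.card_le_of_le (by
    rintro _ ⟨s, rfl⟩
    exact s.2.2)
  have h2 : Nat.card φ.ker ≤ Nat.card (S ⊓ cen w : Subgroup G) := by
    rw [← Subgroup.card_map_of_injective (K := φ.ker) (W1 S w).subtype_injective]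
    refine Subgroup.card_le_of_le ?_
    rintro _ ⟨s, hs, rfl⟩
    refine ⟨s.2.1, DT.mem_cen.2 ?_⟩
    have : s.1 * w * s.1⁻¹ * w⁻¹ = 1 := hs
    rwa [mul_inv_eq_one, mul_inv_eq_iff_eq_mul] at this
  rw [← φ.ker.card_mul_index, Subgroup.index_ker]
  exact Nat.mul_le_mul h2 h1

theorem W1_le_nor (S : Subgroup G) (w : G) : W1 S w ≤ S ⊓ nor (S ⊓ cen w) := by
  rintro s ⟨hs, hs'⟩
  refine ⟨hs, Subgroup.mem_normalizer_fintype (S := ((S ⊓ cen w : Subgroup G) : Set G)) fun a ha => ?_⟩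
  have haS : s * a * s⁻¹ ∈ S := mul_mem (mul_mem hs ha.1) (inv_mem hs)
  refine ⟨haS, DT.mem_cen.2 ?_⟩
  have h1 : Commute (s * a * s⁻¹) (s * w * s⁻¹) := by
    have := (DT.mem_cen.1 ha.2).eq
    show s * a * s⁻¹ * (s * w * s⁻¹) = s * w * s⁻¹ * (s * a * s⁻¹)
    calc s * a * s⁻¹ * (s * w * s⁻¹) = s * (a * w) * s⁻¹ := by group
      _ = s * (w * a) * s⁻¹ := by rw [this]
      _ = _ := by group
  have h2 := (hs'.2.2 _ haS).symm.inv_right.mul_right h1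
  have e : (s * w * s⁻¹ * w⁻¹)⁻¹ * (s * w * s⁻¹) = w := by group
  rwa [e] at h2

end I4dAux

open I4dAux

theorem CI.mx_pair (h : CI K) {z : G} (hz : z ∈ K) (hz2 : orderOf z = 2) {D0 : Subgroup G} (h0 : Mx K z D0) :
    ∃ D : Subgroup G, Mx K z D ∧ (sy K z ≤ nor D ∨
      ∃ D' : Subgroup G, Mx K z D' ∧ D ≤ nor D' ∧ om D' ≤ nor D ∧ ¬ om D' ≤ D) := by
  haveI := h.nm
  obtain ⟨D, hD, hmax⟩ := Set.exists_max_image {D : Subgroup G | Mx K z D}
    (fun D => toLex (Nat.card D, Nat.card (sy K z ⊓ nor D : Subgroup G))) (Set.toFinite _) ⟨D0, h0⟩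
  replace hD : Mx K z D := hD
  refine ⟨D, hD, ?_⟩
  by_contra hcon
  rw [not_or] at hcon
  obtain ⟨hc1, hc2⟩ := hcon
  set S := sy K z with hS
  set T := S ⊓ nor D with hT
  have hS2 : IsPGroup 2 S := h.sy_two hz hz2
  obtain ⟨n, hnS, hnT, hn, hn2⟩ := exists_sq hS2 (inf_le_left : T ≤ S) fun e => hc1 (e.symm.le.trans inf_le_right)
  have hnz : n * z * n⁻¹ = z := by
    rw [(DT.mem_cen.1 (sy_le z hnS).2).eq, mul_inv_cancel_right]
  have hD' : Mx K z (cj n D) := by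
    have := hD.cj n
    rwa [hnz] at this
  have hTT : cj n T = T := DT.cj_eq_self_iff.2 hnT
  have hDT : D ≤ T := le_inf hD.le Subgroup.le_normalizer
  have hTn : T ≤ nor (cj n D) := by
    rw [DT.nor_cj, ← hTT]
    exact Subgroup.map_mono inf_le_right
  have hD'T : cj n D ≤ T := by
    rw [← hTT]
    exact Subgroup.map_mono hDT
  have hne : cj n D ≠ D := fun e => hn ⟨hnS, DT.cj_eq_self_iff.1 e⟩
  have hV' : om (cj n D) ≤ D := by
    by_contra hV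
    exact hc2 ⟨cj n D, hD', hDT.trans hTn, fun a ha => (hD'T ha.1).2, hV⟩
  obtain ⟨v, hv, hvZ⟩ := h.mx_out hz hz2 hD
  have hv' : n * v * n⁻¹ ∈ om (cj n D) := by
    rw [om_cj, DT.mem_cj]
    simpa [mul_assoc] using hv
  set v' := n * v * n⁻¹ with hv'd
  have hvv : Commute v v' := hv.2.2 _ (hV' hv')
  have hwS : v * v' ∈ S := hD.le (mul_mem hv.1 (hV' hv'))
  have hw2 : v * v' * (v * v') = 1 := by
    rw [mul_assoc, ← mul_assoc v' v v', ← hvv.eq, mul_assoc, hv'.2.1, mul_one, hv.2.1]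
  have hwZ : v * v' ∉ om S := fun hw => by
    have h1 : v' ∈ om D := by
      have := mul_mem (inv_mem hv) (h.mx_om hz hz2 hD hw)
      rwa [inv_mul_cancel_left] at this
    have h2 : v' ∉ om S := fun h2 => hvZ (by
      have := mul_mem hw (inv_mem h2)
      rwa [mul_inv_cancel_right] at this)
    exact hne ((h.mx_cen hz hz2 hD' hv' h2).symm.trans (h.mx_cen hz hz2 hD h1 h2))
  have c1 : ∀ s ∈ T, s * v * s⁻¹ * v⁻¹ ∈ om S := fun s hs => by
    have := inv_mem (h.mx_comm hz hz2 hD hs hv)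
    rwa [show (v * s * v⁻¹ * s⁻¹)⁻¹ = s * v * s⁻¹ * v⁻¹ by group] at this
  have c2 : ∀ s ∈ T, s * v' * s⁻¹ * v'⁻¹ ∈ om S := fun s hs => by
    have := inv_mem (h.mx_comm hz hz2 hD' ⟨hs.1, hTn hs⟩ hv')
    rwa [show (v' * s * v'⁻¹ * s⁻¹)⁻¹ = s * v' * s⁻¹ * v'⁻¹ by group] at this
  have hvS : v ∈ S := hD.le hv.1
  have hv'S : v' ∈ S := hD.le (hV' hv')
  have hTW : T ≤ W1 S (v * v') := fun s hs => by
    refine ⟨hs.1, ?_⟩
    have e : s * (v * v') * s⁻¹ * (v * v')⁻¹ =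
        s * v * s⁻¹ * v⁻¹ * (v * (s * v' * s⁻¹ * v'⁻¹) * v⁻¹) := by group
    rw [e, ← ((c2 s hs).2.2 v hvS).eq, mul_inv_cancel_right]
    exact mul_mem (c1 s hs) (c2 s hs)
  have hnW : n ∈ W1 S (v * v') := by
    refine ⟨hnS, ?_⟩
    have e : n * (v * v') * n⁻¹ * (v * v')⁻¹ =
        v' * (n * n * v * (n * n)⁻¹ * v⁻¹) * (v * v') * v'⁻¹ * v'⁻¹ * v⁻¹ := by
      rw [hv'd]; group
    rw [e, ← ((c1 _ hn2).2.2 v' hv'S).eq, mul_assoc (n * n * v * (n * n)⁻¹ * v⁻¹), ← mul_assoc v' v v', ← hvv.eq]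
    have e2 : n * n * v * (n * n)⁻¹ * v⁻¹ * (v * v' * v') * v'⁻¹ * v'⁻¹ * v⁻¹ = n * n * v * (n * n)⁻¹ * v⁻¹ := by
      group
    rw [e2]
    exact c1 _ hn2
  have k1 := two_mul_le hTW fun e => hn (e.ge hnW)
  have k2 : 2 * Nat.card D ≤ Nat.card T := two_mul_le hDT fun e => by
    obtain ⟨y, -, t, ht, -, -, -, htD, -⟩ := h.mx_real hz hz2 hD
    exact htD (e ▸ ht)
  have k3 := card_W1 S (v * v')
  have k4 : Nat.card (om S) ≤ 4 := by rcases h.card_om hz hz2 with e | e <;> rw [← hS] at e <;> omega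
  have k5 : Nat.card D ≤ Nat.card (S ⊓ cen (v * v') : Subgroup G) := by
    have := Nat.mul_le_mul_left (Nat.card (S ⊓ cen (v * v') : Subgroup G)) k4
    omega
  obtain ⟨D3, hD3, hle⟩ := h.exists_mx hz hz2 hwS hw2 hwZ
  have k6 := Subgroup.card_le_of_le hle
  have hm := Prod.Lex.toLex_le_toLex.1 (hmax D3 hD3)
  have hpos : 0 < Nat.card T := Nat.card_pos
  rcases hm with hm | ⟨hm1, hm2⟩
  · simp only at hm
    rw [← hS] at k6
    omega
  · simp only at hm1 hm2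
    have e3 : S ⊓ cen (v * v') = D3 := Subgroup.eq_of_le_of_card_ge hle (by omega)
    have k7 := Subgroup.card_le_of_le (W1_le_nor S (v * v'))
    rw [e3] at k7
    omega

end Cfsg.Agent.RY
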