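import Cfsg.Agent.RY.I4b
import Cfsg.Agent.S3779

set_option autoImplicit false
set_option linter.unusedSectionVars false

namespace Cfsg.Agent.RY

open Cfsg.Agent.DT (cm nor cen cj)
open scoped commutatorElement

universe u
variable {G : Type u} [Group G] [Finite G] {E K : Subgroup G}

namespace I5qAux

theorem alg {A : Type*} [CommGroup A] {z b11 b12 b13 b21 b22 b23 b31 b32 b33 : A} (hz : z * z = 1)
    (h1 : b11 = z) (h2 : b22 = z) (h3 : b33 = z) (h12 : b11 * b21 * (b12 * b22) = z)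
    (h13 : b11 * b31 * (b13 * b33) = z) (h23 : b22 * b32 * (b23 * b33) = z)
    (h : b11 * b21 * b31 * (b12 * b22 * b32) * (b13 * b23 * b33) = z) : z = 1 := by
  subst h1
  have k : ∀ {x y : A}, b11 * x * (y * b11) = b11 → x * y = b11 := by
    intro x y hh
    have e : b11 * x * (y * b11) = x * y * (b11 * b11) := by ac_rfl
    rw [e, hz, mul_one] at hh
    exact hh
  rw [h2] at h12 h23 h
  rw [h3] at h13 h23 h
  have e : b11 * b21 * b31 * (b12 * b11 * b32) * (b13 * b23 * b11) =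
      (b11 * b11) * (b11 * (b21 * b12)) * ((b31 * b13) * (b32 * b23)) := by ac_rfl
  rw [e, k h12, k h13, k h23, hz, one_mul, one_mul] at h
  exact h.symm

theorem fin {H : Type*} [Group H] (hc : ∀ a b e : H, Commute ⁅a, b⁆ e) {z x1 x2 x3 y1 y2 y3 : H} (hz : z * z = 1)
    (h1 : ⁅x1, y1⁆ = z) (h2 : ⁅x2, y2⁆ = z) (h3 : ⁅x3, y3⁆ = z) (h12 : ⁅x1 * x2, y1 * y2⁆ = z)
    (h13 : ⁅x1 * x3, y1 * y3⁆ = z) (h23 : ⁅x2 * x3, y2 * y3⁆ = z)
    (h : ⁅x1 * x2 * x3, y1 * y2 * y3⁆ = z) : z = 1 := by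
  have hm : ∀ a b : H, ⁅a, b⁆ ∈ Subgroup.center H := fun a b =>
    Subgroup.mem_center_iff.2 fun e => (hc a b e).symm.eq
  let b : H → H → Subgroup.center H := fun a c => ⟨⁅a, c⁆, hm a c⟩
  have hl : ∀ a a' c : H, b (a * a') c = b a c * b a' c := by
    intro a a' c
    apply Subtype.ext
    show ⁅a * a', c⁆ = ⁅a, c⁆ * ⁅a', c⁆
    have e : ⁅a * a', c⁆ = a * ⁅a', c⁆ * a⁻¹ * ⁅a, c⁆ := by
      simp only [commutatorElement_def]; group
    rw [e, ← (hc a' c a).eq, mul_inv_cancel_right, (hc a' c ⁅a, c⁆).eq]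
  have hr : ∀ a c c' : H, b a (c * c') = b a c * b a c' := by
    intro a c c'
    apply Subtype.ext
    show ⁅a, c * c'⁆ = ⁅a, c⁆ * ⁅a, c'⁆
    have e : ⁅a, c * c'⁆ = ⁅a, c⁆ * (c * ⁅a, c'⁆ * c⁻¹) := by
      simp only [commutatorElement_def]; group
    rw [e, ← (hc a c' c).eq, mul_inv_cancel_right]
  have hzm : z ∈ Subgroup.center H := h1 ▸ hm x1 y1
  have k : ∀ {a c : H}, ⁅a, c⁆ = z → b a c = ⟨z, hzm⟩ := fun hh => Subtype.ext hh
  have k12 := k h12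
  have k13 := k h13
  have k23 := k h23
  have kk := k h
  simp only [hl, hr] at k12 k13 k23 kk
  have : (⟨z, hzm⟩ : Subgroup.center H) = 1 :=
    @alg (Subgroup.center H) { (inferInstance : Group (Subgroup.center H)) with
      mul_comm := fun a c => Subtype.ext (Subgroup.mem_center_iff.1 c.2 a) } _ _ _ _ _ _ _ _ _ _
      (Subtype.ext hz) (k h1) (k h2) (k h3) k12 k13 k23 kk
  exact congrArg Subtype.val this

theorem five {V : Subgroup G} (h4 : Nat.card V = 4) {a b c d : G} (ha : a ∈ V) (hb : b ∈ V) (hc : c ∈ V)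
    (hd : d ∈ V) (a1 : a ≠ 1) (b1 : b ≠ 1) (c1 : c ≠ 1) (d1 : d ≠ 1) (ab : a ≠ b) (ac : a ≠ c) (ad : a ≠ d)
    (bc : b ≠ c) (bd : b ≠ d) (cd : c ≠ d) : False := by
  classical
  have hs : ((({1, a, b, c, d} : Finset G)) : Set G) ⊆ (V : Set G) := by
    intro x hx
    simp only [Finset.coe_insert, Finset.coe_singleton, Set.mem_insert_iff, Set.mem_singleton_iff] at hx
    rcases hx with rfl | rfl | rfl | rfl | rfl
    exacts [V.one_mem, ha, hb, hc, hd]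
  have h5 : ({1, a, b, c, d} : Finset G).card = 5 := by
    rw [Finset.card_insert_of_notMem, Finset.card_insert_of_notMem, Finset.card_insert_of_notMem,
      Finset.card_insert_of_notMem, Finset.card_singleton]
    · simpa using cd
    · simp [bc, bd]
    · simp [ab, ac, ad]
    · simp [a1.symm, b1.symm, c1.symm, d1.symm]
  have h := Set.ncard_le_ncard hs (Set.toFinite _)
  rw [Set.ncard_coe_finset, h5] at h
  have e : (V : Set G).ncard = 4 := by rw [← h4]; rfl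
  omega

theorem out {V W : Subgroup G} (h4 : Nat.card V = 4) (hW : 16 < Nat.card W) (s1 s2 s3 s4 : G) :
    ∃ w ∈ W, s1 * w ∉ V ∧ s2 * w ∉ V ∧ s3 * w ∉ V ∧ s4 * w ∉ V := by
  by_contra hn
  have e : (V : Set G).ncard = 4 := by rw [← h4]; rfl
  have k : ∀ s : G, {w : G | s * w ∈ V}.ncard ≤ 4 := by
    intro s
    rw [← e]
    exact Set.ncard_le_ncard_of_injOn (fun w => s * w) (fun w hw => hw)
      (fun a _ b _ hab => mul_left_cancel hab) (Set.toFinite _)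
  have hs : (W : Set G) ⊆ {w : G | s1 * w ∈ V} ∪ {w : G | s2 * w ∈ V} ∪ ({w : G | s3 * w ∈ V} ∪
      {w : G | s4 * w ∈ V}) := by
    intro w hw
    by_contra hh
    simp only [Set.mem_union, Set.mem_ofPred_eq, not_or] at hh
    exact hn ⟨w, hw, hh.1.1, hh.1.2, hh.2.1, hh.2.2⟩
  have h := Set.ncard_le_ncard hs (Set.toFinite _)
  have u1 := Set.ncard_union_le ({w : G | s1 * w ∈ V} ∪ {w : G | s2 * w ∈ V}) ({w : G | s3 * w ∈ V} ∪
      {w : G | s4 * w ∈ V})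
  have u2 := Set.ncard_union_le {w : G | s1 * w ∈ V} {w : G | s2 * w ∈ V}
  have u3 := Set.ncard_union_le {w : G | s3 * w ∈ V} {w : G | s4 * w ∈ V}
  have e' : (W : Set G).ncard = Nat.card W := rfl
  have := k s1
  have := k s2
  have := k s3
  have := k s4
  omega

theorem iv_pow {t y : G} (h : Iv t y) (n : ℕ) : Iv t (y ^ n) := by
  unfold Iv at h ⊢
  rw [← conj_pow, h, inv_pow]

theorem cls (h : CI K) {z : G} (hz : z ∈ K) (hz2 : orderOf z = 2) (h2 : Nat.card (om (sy K z)) = 2)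
    {D : Subgroup G} (hD : Mx K z D) : ∀ a b e : D, Commute ⁅a, b⁆ e := by
  obtain ⟨y, hy, t, -, hy1, ho, -, -, ht⟩ := h.mx_real hz hz2 hD
  have h4 : Nat.card (om D) = 4 := by rw [h.mx_card hz hz2 hD, h2]; rfl
  have hzV : z ∈ om D := h.mx_om hz hz2 hD (self_mem_sy hz hz2)
  have hz1 : z ≠ 1 := by
    rintro rfl
    simp at hz2
  have hzz : z * z = 1 := hzV.2.1
  have hDK : D ≤ K := fun d hd => (sy_le z (hD.le hd)).1
  have hn : ∀ v ∈ om D, y * v * y⁻¹ ∈ om D := fun v hv => (DT.mem_nor.1 (nor_le_nor_om D hy.2) v).1 hv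
  have pw : ∀ n : ℕ, y ^ n ≠ 1 → y ^ n * z * (y ^ n)⁻¹ ≠ z := by
    intro n hn1 he
    exact hz1 (h.oddc (K.pow_mem hy.1 n) hn1 (ho.of_dvd_nat (orderOf_pow_dvd n)) (iv_pow ht n) hz hzz
      (mul_inv_eq_iff_eq_mul.1 he))
  have hy2 : y ^ 2 ≠ 1 := by
    intro h0
    have := orderOf_dvd_of_pow_eq_one h0
    rcases (Nat.dvd_prime Nat.prime_two).1 this with h1 | h1
    · exact hy1 (orderOf_eq_one_iff.1 h1)
    · rw [h1] at ho
      exact absurd ho (by decide)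
  have hy3 : y ^ 3 = 1 := by
    by_contra h3
    have p1 := pw 1 (by rwa [pow_one])
    have p2 := pw 2 hy2
    have p3 := pw 3 h3
    rw [pow_one] at p1
    have e2 : y ^ 2 * z * (y ^ 2)⁻¹ = y * (y * z * y⁻¹) * y⁻¹ := by
      simp only [pow_succ, pow_zero, one_mul, mul_inv_rev, mul_assoc]
    have e3 : y ^ 3 * z * (y ^ 3)⁻¹ = y * (y * (y * z * y⁻¹) * y⁻¹) * y⁻¹ := by
      simp only [pow_succ, pow_zero, one_mul, mul_inv_rev, mul_assoc]
    rw [e2] at p2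
    rw [e3] at p3
    have inj : ∀ {a b : G}, a ≠ b → y * a * y⁻¹ ≠ y * b * y⁻¹ := fun hab he =>
      hab (mul_left_cancel (mul_right_cancel he))
    have n1 : ∀ {a : G}, a ≠ 1 → y * a * y⁻¹ ≠ 1 := fun ha he => inj ha (by rw [he]; group)
    exact five h4 hzV (hn _ hzV) (hn _ (hn _ hzV)) (hn _ (hn _ (hn _ hzV))) hz1 (n1 hz1) (n1 (n1 hz1))
      (n1 (n1 (n1 hz1))) p1.symm p2.symm p3.symm (inj p1.symm) (inj p2.symm) (inj (inj p1.symm))
  have fp : ∀ d ∈ D, Commute y d → d = 1 := by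
    intro d hd hc
    obtain ⟨k, hk⟩ := h.sy_two hz hz2 ⟨d, hD.le hd⟩
    have hk' : d ^ 2 ^ k = 1 := congrArg Subtype.val hk
    clear hk
    induction k with
    | zero => simpa using hk'
    | succ k ih =>
      apply ih
      exact h.oddc hy.1 hy1 ho ht (K.pow_mem (hDK hd) _) (by rw [← pow_two, ← pow_mul, ← pow_succ, hk'])
        (hc.pow_right _)
  let α : MulAut D := D.normalizerMonoidHom ⟨y, hy.2⟩
  have hα : ∀ d : D, ((α d : D) : G) = y * d * y⁻¹ := fun d => rfl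
  have fp' : ∀ d : D, α d = d → d = 1 := fun d hd =>
    Subtype.ext (fp d d.2 (mul_inv_eq_iff_eq_mul.1 ((hα d).symm.trans (congrArg Subtype.val hd))))
  have : Fact (Nat.Prime 3) := ⟨Nat.prime_three⟩
  have h3 : orderOf α = 3 := by
    apply orderOf_eq_prime
    · have : (⟨y, hy.2⟩ : nor D) ^ 3 = 1 := Subtype.ext hy3
      show (D.normalizerMonoidHom ⟨y, hy.2⟩) ^ 3 = 1
      rw [← map_pow, this, map_one]
    · intro h1
      exact hz1 (congrArg Subtype.val (fp' ⟨z, hD.1⟩ (by rw [h1]; rfl)))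
  have hl := (Cfsg.Agent.S3779.result Nat.prime_three α h3 fp').2.1 rfl
  intro a b e
  rw [← commutatorElement_eq_one_iff_commute, ← Subgroup.mem_bot, ← hl]
  exact Subgroup.commutator_mem_commutator
    (Subgroup.commutator_mem_commutator (Subgroup.mem_top a) (Subgroup.mem_top b)) (Subgroup.mem_top e)

end I5qAux

open I5qAux in
theorem CI.two_quad (h : CI K) {z τ : G} (hz : z ∈ K) (hz2 : orderOf z = 2) (h2 : Nat.card (om (sy K z)) = 2)
    {D W : Subgroup G} (hD : Mx K z D) (hτ : Tau K τ z) (hn : τ ∈ nor D) (hW : El W) (hle : W ≤ D) :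
    Nat.card W ≤ 16 := by
  by_contra hlt
  have hc := cls h hz hz2 h2 hD
  have h4 : Nat.card (om D) = 4 := by rw [h.mx_card hz hz2 hD, h2]; rfl
  have hzV : z ∈ om D := h.mx_om hz hz2 hD (self_mem_sy hz hz2)
  have hz1 : z ≠ 1 := by
    rintro rfl
    simp at hz2
  have hDK : D ≤ K ⊓ cen z := fun d hd => sy_le z (hD.le hd)
  have hττ : τ * τ = 1 := by rw [← pow_two, ← hτ.1, pow_orderOf_eq_one]
  have hτi : τ⁻¹ = τ := inv_eq_of_mul_eq_one_right hττ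
  have hnD : ∀ d ∈ D, τ * d * τ⁻¹ ∈ D := fun d hd => (DT.mem_nor.1 hn d).1 hd
  have back : ∀ x : G, τ * (τ * x * τ⁻¹) * τ⁻¹ = x := by
    intro x
    calc τ * (τ * x * τ⁻¹) * τ⁻¹ = (τ * τ) * x * (τ * τ)⁻¹ := by group
      _ = x := by rw [hττ]; group
  have cj' : ∀ {x y : G}, Commute x y → Commute (τ * x * τ⁻¹) (τ * y * τ⁻¹) := by
    intro x y hxy
    show _ = _
    calc τ * x * τ⁻¹ * (τ * y * τ⁻¹) = τ * (x * y) * τ⁻¹ := by group
      _ = τ * (y * x) * τ⁻¹ := by rw [hxy.eq]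
      _ = _ := by group
  have hc' : ∀ a ∈ D, ∀ b ∈ D, ∀ e ∈ D, Commute ⁅a, b⁆ e := fun a ha b hb e he =>
    congrArg Subtype.val (hc ⟨a, ha⟩ ⟨b, hb⟩ ⟨e, he⟩).eq
  have key : ∀ a ∈ W, a ∉ om D → ⁅a, τ * a * τ⁻¹⁆ = z := by
    intro a ha hna
    have haD := hle ha
    have hbD := hnD a haD
    have haa : a * a = 1 := hW.1 a ha
    have hq : ⁅a, τ * a * τ⁻¹⁆ ∈ D := by
      rw [commutatorElement_def]
      exact D.mul_mem (D.mul_mem (D.mul_mem haD hbD) (D.inv_mem haD)) (D.inv_mem hbD)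
    have hsq : ⁅a, τ * a * τ⁻¹⁆ * ⁅a, τ * a * τ⁻¹⁆ = 1 := by
      have e : ⁅a * a, τ * a * τ⁻¹⁆ = a * ⁅a, τ * a * τ⁻¹⁆ * a⁻¹ * ⁅a, τ * a * τ⁻¹⁆ := by
        simp only [commutatorElement_def]; group
      rw [haa, ← (hc' a haD _ hbD a haD).eq, mul_inv_cancel_right] at e
      rw [← e]; simp
    have hfix : Commute ⁅a, τ * a * τ⁻¹⁆ τ := by
      have e : τ * ⁅a, τ * a * τ⁻¹⁆ * τ⁻¹ = ⁅τ * a * τ⁻¹, τ * (τ * a * τ⁻¹) * τ⁻¹⁆ := by
        simp only [commutatorElement_def]; group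
      rw [back, ← commutatorElement_inv a (τ * a * τ⁻¹), inv_eq_of_mul_eq_one_right hsq] at e
      exact (mul_inv_eq_iff_eq_mul.1 e).symm
    rcases hτ.2.2 _ (hDK hq).1 hsq (DT.mem_cen.1 (hDK hq).2) hfix with h1 | h1
    · exfalso
      have hab : Commute a (τ * a * τ⁻¹) := commutatorElement_eq_one_iff_commute.1 h1
      let C : Subgroup G := D ⊓ cen a ⊓ cen (τ * a * τ⁻¹)
      have f : ∀ x ∈ C, τ * x * τ⁻¹ ∈ C := by
        rintro x ⟨⟨x1, x2⟩, x3⟩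
        refine ⟨⟨hnD x x1, DT.mem_cen.2 ?_⟩, DT.mem_cen.2 (cj' (DT.mem_cen.1 x2))⟩
        have := cj' (DT.mem_cen.1 x3)
        rwa [back] at this
      have hτC : τ ∈ nor C := DT.mem_nor.2 fun x => ⟨f x, fun hx => back x ▸ f _ hx⟩
      have hcard := hτ.card_le (el_om C) (fun x hx => hDK hx.1.1.1) (nor_le_nor_om C hτC)
      have hVC : om D ≤ om C := fun v hv =>
        ⟨⟨⟨hv.1, DT.mem_cen.2 (hv.2.2 a haD)⟩, DT.mem_cen.2 (hv.2.2 _ hbD)⟩, hv.2.1, fun e he => hv.2.2 e he.1.1⟩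
      have heq : om D = om C := Subgroup.eq_of_le_of_card_ge hVC (by rw [h4]; exact hcard)
      apply hna
      rw [heq]
      exact ⟨⟨⟨haD, DT.mem_cen.2 (Commute.refl a)⟩, DT.mem_cen.2 hab⟩, haa,
        fun e he => (DT.mem_cen.1 he.1.2).symm⟩
    · exact h1
  have hlt' : 16 < Nat.card W := not_le.1 hlt
  obtain ⟨x1, m1, n1, -⟩ := out h4 hlt' 1 1 1 1
  obtain ⟨x2, m2, n2, n12, -⟩ := out h4 hlt' 1 x1 1 1
  obtain ⟨x3, m3, n3, n13, n23, n123⟩ := out h4 hlt' 1 x1 x2 (x1 * x2)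
  rw [one_mul] at n1 n2 n3
  have mu : ∀ x y : G, τ * (x * y) * τ⁻¹ = τ * x * τ⁻¹ * (τ * y * τ⁻¹) := fun x y => by group
  have q12 := key _ (W.mul_mem m1 m2) n12
  have q13 := key _ (W.mul_mem m1 m3) n13
  have q23 := key _ (W.mul_mem m2 m3) n23
  have q123 := key _ (W.mul_mem (W.mul_mem m1 m2) m3) n123
  rw [mu] at q12 q13 q23
  rw [mu, mu x1 x2] at q123
  have : (⟨z, hD.1⟩ : D) = 1 :=
    fin hc (x1 := ⟨x1, hle m1⟩) (x2 := ⟨x2, hle m2⟩) (x3 := ⟨x3, hle m3⟩) (y1 := ⟨_, hnD _ (hle m1)⟩)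
      (y2 := ⟨_, hnD _ (hle m2)⟩) (y3 := ⟨_, hnD _ (hle m3)⟩) (Subtype.ext hzV.2.1)
      (Subtype.ext (key _ m1 n1)) (Subtype.ext (key _ m2 n2)) (Subtype.ext (key _ m3 n3))
      (Subtype.ext q12) (Subtype.ext q13) (Subtype.ext q23) (Subtype.ext q123)
  exact hz1 (congrArg Subtype.val this)

end Cfsg.Agent.RY
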