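import Cfsg.Agent.RY.I4b

set_option autoImplicit false
set_option linter.unusedSectionVars false

namespace Cfsg.Agent.RY

open Cfsg.Agent.DT (cm nor cen cj)

universe u
variable {G : Type u} [Group G] [Finite G] {E K : Subgroup G}

namespace I5wAux

open Cfsg.Agent.DT (mem_nor mem_cen cm_le_of cop_decomp)

theorem ext {W : Subgroup G} (hW : El W) {x : G} (hx : x * x = 1) (hc : ∀ w ∈ W, Commute x w) (hn : x ∉ W) :
    ∃ W' : Subgroup G, El W' ∧ (∀ g, g ∈ W' ↔ ∃ w ∈ W, g = w ∨ g = w * x) ∧ 2 * Nat.card W ≤ Nat.card W' := by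
  have hxi : x⁻¹ = x := inv_eq_of_mul_eq_one_right hx
  let W' : Subgroup G :=
    { carrier := {g | ∃ w ∈ W, g = w ∨ g = w * x}
      one_mem' := ⟨1, W.one_mem, Or.inl rfl⟩
      mul_mem' := by
        rintro g h ⟨w1, h1, rfl | rfl⟩ ⟨w2, h2, rfl | rfl⟩
        · exact ⟨_, W.mul_mem h1 h2, Or.inl rfl⟩
        · exact ⟨_, W.mul_mem h1 h2, Or.inr (mul_assoc _ _ _).symm⟩
        · refine ⟨_, W.mul_mem h1 h2, Or.inr ?_⟩
          rw [mul_assoc, (hc _ h2).eq, mul_assoc]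
        · refine ⟨_, W.mul_mem h1 h2, Or.inl ?_⟩
          rw [mul_assoc, ← mul_assoc x, (hc _ h2).eq, mul_assoc w2, hx, mul_one]
      inv_mem' := by
        rintro g ⟨w, h1, rfl | rfl⟩
        · exact ⟨_, W.inv_mem h1, Or.inl rfl⟩
        · refine ⟨_, W.inv_mem h1, Or.inr ?_⟩
          rw [mul_inv_rev, hxi, (hc _ (W.inv_mem h1)).eq] }
  have hm : ∀ g, g ∈ W' ↔ ∃ w ∈ W, g = w ∨ g = w * x := fun g => Iff.rfl
  refine ⟨W', ⟨?_, ?_⟩, hm, ?_⟩
  · intro g hg
    obtain ⟨w, h1, rfl | rfl⟩ := (hm g).1 hg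
    · exact hW.1 _ h1
    · rw [mul_assoc, ← mul_assoc x, (hc _ h1).eq, mul_assoc w, hx, mul_one, hW.1 _ h1]
  · intro g hg h hh
    obtain ⟨w1, h1, rfl | rfl⟩ := (hm g).1 hg <;> obtain ⟨w2, h2, rfl | rfl⟩ := (hm h).1 hh
    · exact hW.2 _ h1 _ h2
    · exact (hW.2 _ h1 _ h2).mul_right (hc _ h1).symm
    · exact (hW.2 _ h1 _ h2).mul_left (hc _ h2)
    · exact ((hW.2 _ h1 _ h2).mul_right (hc _ h1).symm).mul_left ((hc _ h2).mul_right (Commute.refl x))
  · have hle : W ≤ W' := fun w hw => (hm w).2 ⟨w, hw, Or.inl rfl⟩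
    obtain ⟨k, hk⟩ := Subgroup.card_dvd_of_le hle
    have hpos : 0 < Nat.card W' := Nat.card_pos
    have hk1 : k ≠ 1 := by
      rintro rfl
      have e : W = W' := Subgroup.eq_of_le_of_card_ge hle (by omega)
      exact hn (e ▸ (hm x).2 ⟨1, W.one_mem, Or.inr (one_mul x).symm⟩)
    have hk0 : k ≠ 0 := by rintro rfl; omega
    rw [hk, mul_comm 2]
    exact Nat.mul_le_mul_left _ (by omega)

/-- the commutator. -/
def c (u d : G) : G := u * d * u⁻¹ * d⁻¹

theorem c_mul (u1 u2 d : G) : c (u1 * u2) d = u1 * c u2 d * u1⁻¹ * c u1 d := by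
  unfold c; group

theorem c_mul' (u d e : G) : c u (d * e) = c u d * (d * c u e * d⁻¹) := by
  unfold c; group

theorem c_cj (y u d : G) : c (y * u * y⁻¹) (y * d * y⁻¹) = y * c u d * y⁻¹ := by
  unfold c; group

theorem c_inv (u d : G) : c d u = (c u d)⁻¹ := by
  unfold c; group

theorem c_one {u d : G} : c u d = 1 ↔ Commute u d := by
  unfold c
  rw [mul_inv_eq_one, mul_inv_eq_iff_eq_mul]; rfl

theorem two_elt (h : CI K) {y t g : G} (hy : y ∈ K) (hy1 : y ≠ 1) (ho : Odd (orderOf y)) (ht : Iv t y)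
    {P : Subgroup G} (hP : IsPGroup 2 P) (hPK : P ≤ K) (hg : g ∈ P) (hc : Commute g y) : g = 1 := by
  obtain ⟨k, hk⟩ := hP ⟨g, hg⟩
  have hk' : g ^ 2 ^ k = 1 := by simpa using congrArg Subtype.val hk
  clear hk
  induction k with
  | zero => simpa using hk'
  | succ n ih =>
    apply ih
    refine h.oddc hy hy1 ho ht (hPK (P.pow_mem hg _)) ?_ (hc.pow_left _).symm
    rw [← pow_add, ← hk']; congr 1; ring

theorem iv_pow {t y : G} (h : Iv t y) (n : ℕ) : Iv t (y ^ n) := by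
  unfold Iv at h ⊢
  rw [← conj_pow, h, inv_pow]

end I5wAux

open I5wAux Cfsg.Agent.DT in
theorem CI.two_w (h : CI K) {z : G} (hz : z ∈ K) (hz2 : orderOf z = 2) (h2 : Nat.card (om (sy K z)) = 2)
    {D D' : Subgroup G} (hD : Mx K z D) (hD' : Mx K z D') (hS : sy K z ≤ nor D) (hne : D' ≠ D) (hle : om D ≤ D') :
    ∃ W : Subgroup G, El W ∧ W ≤ D ∧ 32 ≤ Nat.card W := by
  have hzS : z ∈ om (sy K z) := self_mem_sy hz hz2
  have hz1 : z ≠ 1 := by rintro rfl; simp at hz2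
  have hzz : z * z = 1 := (mem_om.1 hzS).2.1
  have hZ : ∀ w ∈ om (sy K z), w = 1 ∨ w = z := by
    intro w hw
    obtain ⟨u, -, hu⟩ := (Nat.card_eq_two_iff' (1 : om (sy K z))).1 h2
    by_cases h1 : w = 1
    · exact Or.inl h1
    · right
      have e1 := hu ⟨w, hw⟩ (fun e => h1 (congrArg Subtype.val e))
      have e2 := hu ⟨z, hzS⟩ (fun e => hz1 (congrArg Subtype.val e))
      exact congrArg Subtype.val (e1.trans e2.symm)
  obtain ⟨a, haV, haZ⟩ := h.mx_out hz hz2 hD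
  have hcen := h.mx_cen hz hz2 hD haV haZ
  have hD'S : D' ≤ sy K z := hD'.le
  have hSK : sy K z ≤ K := fun g hg => (sy_le z hg).1
  have hD'2 : IsPGroup 2 D' := (h.sy_two hz hz2).to_le hD'S
  have ca : ∀ d ∈ D', c a d = 1 ∨ c a d = z := fun d hd =>
    hZ _ (h.mx_comm hz hz2 hD ⟨hD'S hd, hS (hD'S hd)⟩ haV)
  obtain ⟨d0, hd0, hd0a⟩ : ∃ d0 ∈ D', c a d0 = z := by
    by_contra hn
    push Not at hn
    have hle' : D' ≤ D := by
      intro d hd
      rw [← hcen]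
      exact ⟨hD'S hd, mem_cen.2 (c_one.1 ((ca d hd).resolve_right (hn d hd))).symm⟩
    obtain ⟨v, hv, hv2, hvS, hDv⟩ := hD.2.1
    exact hvS (hD'.2.2 D (lt_of_le_of_ne hle' hne) hD.le v hv hv2 (by rw [hDv]; exact inf_le_right))
  obtain ⟨y, ⟨hyK, hyn⟩, t, -, hy1, hyo, -, -, hiv⟩ := h.mx_real hz hz2 hD'
  have hyn : y ∈ nor D' := hyn
  have hyK : y ∈ K := hyK
  have cjD : ∀ d ∈ D', y * d * y⁻¹ ∈ D' := fun d hd => (mem_nor.1 hyn d).1 hd
  have cjD' : ∀ d ∈ D', ∃ e ∈ D', d = y * e * y⁻¹ := fun d hd =>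
    ⟨y⁻¹ * d * y, (mem_nor.1 hyn _).2 (by simpa [mul_assoc] using hd), by group⟩
  have cjV : ∀ d ∈ om D', y * d * y⁻¹ ∈ om D' := fun d hd => (mem_nor.1 (nor_le_nor_om D' hyn) d).1 hd
  have hzV : z ∈ om D' := h.mx_om hz hz2 hD' hzS
  have hy2 : y ^ 2 ≠ 1 := by
    intro e
    have h1 := orderOf_dvd_of_pow_eq_one e
    rcases (Nat.dvd_prime Nat.prime_two).1 h1 with h3 | h3
    · exact hy1 (orderOf_eq_one_iff.1 h3)
    · rw [h3] at hyo; exact absurd hyo (by decide)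
  obtain ⟨z1, hz1d⟩ : ∃ z1, z1 = y * z * y⁻¹ := ⟨_, rfl⟩
  obtain ⟨z2, hz2d⟩ : ∃ z2, z2 = y * z1 * y⁻¹ := ⟨_, rfl⟩
  obtain ⟨a1, ha1d⟩ : ∃ a1, a1 = y * a * y⁻¹ := ⟨_, rfl⟩
  obtain ⟨a2, ha2d⟩ : ∃ a2, a2 = y * a1 * y⁻¹ := ⟨_, rfl⟩
  have hz1V : z1 ∈ om D' := hz1d ▸ cjV z hzV
  have hz2V : z2 ∈ om D' := hz2d ▸ cjV z1 hz1V
  have n10 : z1 ≠ z := by
    intro e
    refine hz1 (h.oddc hyK hy1 hyo hiv hz hzz ?_)
    rw [hz1d, mul_inv_eq_iff_eq_mul] at e
    exact e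
  have n11 : z1 ≠ 1 := by
    intro e; rw [hz1d] at e; exact hz1 (by simpa [mul_inv_eq_iff_eq_mul] using e)
  have n21 : z2 ≠ 1 := by
    intro e; rw [hz2d] at e; exact n11 (by simpa [mul_inv_eq_iff_eq_mul] using e)
  have n12 : z2 ≠ z1 := by
    intro e
    apply n10
    have : y * z1 * y⁻¹ = y * z * y⁻¹ := by rw [← hz2d, ← hz1d, e]
    simpa using this
  have n20 : z2 ≠ z := by
    intro e
    refine hz1 (h.oddc (K.pow_mem hyK 2) hy2 (hyo.of_dvd_nat (orderOf_pow_dvd 2)) (iv_pow hiv 2) hz hzz ?_)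
    have e' : y ^ 2 * z * (y ^ 2)⁻¹ = z := by
      conv_rhs => rw [← e, hz2d, hz1d]
      rw [pow_two]; group
    rw [mul_inv_eq_iff_eq_mul] at e'
    exact e'
  have haD : a ∈ D' := hle haV
  have ha1D : a1 ∈ D' := ha1d ▸ cjD a haD
  have ha2D : a2 ∈ D' := ha2d ▸ cjD a1 ha1D
  have haa : a * a = 1 := (mem_om.1 haV).2.1
  have haa1 : a1 * a1 = 1 := by
    have : a1 * a1 = y * (a * a) * y⁻¹ := by rw [ha1d]; group
    rw [this, haa]; group
  have haa2 : a2 * a2 = 1 := by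
    have : a2 * a2 = y * (a1 * a1) * y⁻¹ := by rw [ha2d]; group
    rw [this, haa1]; group
  have ca1 : ∀ d ∈ D', c a1 d = 1 ∨ c a1 d = z1 := by
    intro d hd
    obtain ⟨e, he, rfl⟩ := cjD' d hd
    rw [ha1d, c_cj]
    rcases ca e he with h3 | h3 <;> rw [h3]
    · left; group
    · right; exact hz1d.symm
  have ca2 : ∀ d ∈ D', c a2 d = 1 ∨ c a2 d = z2 := by
    intro d hd
    obtain ⟨e, he, rfl⟩ := cjD' d hd
    rw [ha2d, c_cj]
    rcases ca1 e he with h3 | h3 <;> rw [h3]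
    · left; group
    · right; exact hz2d.symm
  have hzi : z⁻¹ = z := inv_eq_of_mul_eq_one_right hzz
  have c01 : Commute a a1 := by
    rcases ca a1 ha1D with h3 | h3
    · exact c_one.1 h3
    · exfalso
      have h4 := ca1 a haD
      rw [c_inv, h3, hzi] at h4
      rcases h4 with h4 | h4
      · exact hz1 h4
      · exact n10 h4.symm
  have c02 : Commute a a2 := by
    rcases ca a2 ha2D with h3 | h3
    · exact c_one.1 h3
    · exfalso
      have h4 := ca2 a haD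
      rw [c_inv, h3, hzi] at h4
      rcases h4 with h4 | h4
      · exact hz1 h4
      · exact n20 h4.symm
  have c12 : Commute a1 a2 := by
    apply c_one.1
    have : c a1 a2 = y * c a a1 * y⁻¹ := by rw [← c_cj, ← ha1d, ← ha2d]
    rw [this, c_one.2 c01]; group
  have vc : ∀ v ∈ om D', ∀ d ∈ D', Commute v d := fun v hv => (mem_om.1 hv).2.2
  have vfix : ∀ u ∈ D', ∀ v ∈ om D', u * v * u⁻¹ = v := fun u hu v hv => by
    rw [← (vc v hv u hu).eq]; group
  have omD : om D' ≤ D' := fun v hv => (mem_om.1 hv).1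
  have caV : ∀ d ∈ D', c a d ∈ om D' := fun d hd => by
    rcases ca d hd with h3 | h3 <;> rw [h3]
    exacts [one_mem _, hzV]
  have ca1V : ∀ d ∈ D', c a1 d ∈ om D' := fun d hd => by
    rcases ca1 d hd with h3 | h3 <;> rw [h3]
    exacts [one_mem _, hz1V]
  have cv : ∀ v ∈ om D', ∀ d ∈ D', c v d = 1 := fun v hv d hd => c_one.2 (vc v hv d hd)
  have cva : ∀ v ∈ om D', ∀ d ∈ D', c (v * a) d = c a d := fun v hv d hd => by
    rw [c_mul, vfix v (omD hv) _ (caV d hd), cv v hv d hd, mul_one]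
  have hd1 : c a1 (y * d0 * y⁻¹) = z1 := by rw [ha1d, c_cj, hd0a, hz1d]
  have hd2 : c a2 (y * (y * d0 * y⁻¹) * y⁻¹) = z2 := by rw [ha2d, c_cj, hd1, hz2d]
  have hd1D := cjD d0 hd0
  have hd2D := cjD _ hd1D
  have c4 : Nat.card (om D') = 4 := by rw [h.mx_card hz hz2 hD', h2]; norm_num
  obtain ⟨W1, e1, m1, k1⟩ := ext (el_om D') haa (fun w hw => (vc w hw a haD).symm) (fun hv => by
    rw [cv a hv d0 hd0] at hd0a; exact hz1 hd0a.symm)
  obtain ⟨W2, e2, m2, k2⟩ := ext e1 haa1 (fun w hw => by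
      obtain ⟨v, hv, rfl | rfl⟩ := (m1 w).1 hw
      · exact (vc _ hv a1 ha1D).symm
      · exact (vc _ hv a1 ha1D).symm.mul_right c01.symm) (fun hw => by
      obtain ⟨v, hv, e | e⟩ := (m1 a1).1 hw
      · rw [e, cv v hv _ hd1D] at hd1; exact n11 hd1.symm
      · rw [e, cva v hv _ hd1D] at hd1
        rcases ca _ hd1D with h3 | h3 <;> rw [h3] at hd1
        · exact n11 hd1.symm
        · exact n10 hd1.symm)
  have hn2 : a2 ∉ W2 := by
    intro hw
    obtain ⟨w, hw1, e⟩ := (m2 a2).1 hw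
    obtain ⟨v, hv, e'⟩ := (m1 w).1 hw1
    have hvD := omD hv
    rcases e with e | e <;> rcases e' with e' | e' <;> rw [e'] at e
    · rw [e, cv v hv _ hd2D] at hd2; exact n21 hd2.symm
    · rw [e, cva v hv _ hd2D] at hd2
      rcases ca _ hd2D with h3 | h3 <;> rw [h3] at hd2
      · exact n21 hd2.symm
      · exact n20 hd2.symm
    · rw [e, c_mul, vfix v hvD _ (ca1V _ hd2D), cv v hv _ hd2D, mul_one] at hd2
      rcases ca1 _ hd2D with h3 | h3 <;> rw [h3] at hd2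
      · exact n21 hd2.symm
      · exact n12 hd2.symm
    · have key : ∀ d ∈ D', c a d = 1 ↔ c a (y * d * y⁻¹) = 1 := by
        intro d hd
        have hd' := cjD d hd
        have h5 : c a1 (y * d * y⁻¹) = 1 ↔ c a d = 1 := by
          rw [ha1d, c_cj]; simp [mul_inv_eq_iff_eq_mul]
        rw [← h5]
        have h6 := ca2 _ hd'
        rw [e, c_mul, vfix _ (D'.mul_mem hvD haD) _ (ca1V _ hd'), cva v hv _ hd'] at h6
        rcases ca _ hd' with h3 | h3 <;> rcases ca1 _ hd' with h4 | h4 <;> rw [h3, h4] at h6 ⊢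
        · exfalso
          rw [mul_one] at h6
          rcases h6 with h6 | h6
          · exact n11 h6
          · exact n12 h6.symm
        · exfalso
          rw [one_mul] at h6
          rcases h6 with h6 | h6
          · exact hz1 h6
          · exact n20 h6.symm
        · exact ⟨fun h7 => absurd h7 n11, fun h7 => absurd h7 hz1⟩
      have keyn : ∀ n : ℕ, ∀ d ∈ D', c a d = 1 ↔ c a (y ^ n * d * (y ^ n)⁻¹) = 1 := by
        intro n
        induction n with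
        | zero => intro d _; simp
        | succ n ih =>
          intro d hd
          have e3 : y ^ (n + 1) * d * (y ^ (n + 1))⁻¹ = y ^ n * (y * d * y⁻¹) * (y ^ n)⁻¹ := by
            rw [pow_succ]; group
          rw [e3, key d hd, ih _ (cjD d hd)]
      have ho1 : orderOf y ≠ 1 := fun e => hy1 (orderOf_eq_one_iff.1 e)
      have hp : (orderOf y).minFac.Prime := Nat.minFac_prime ho1
      have hpd : (orderOf y).minFac ∣ orderOf y := Nat.minFac_dvd _
      have hord : orderOf (y ^ (orderOf y / (orderOf y).minFac)) = (orderOf y).minFac :=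
        orderOf_pow_orderOf_div (orderOf_pos y).ne' hpd
      obtain ⟨n, hn⟩ : ∃ n, n = orderOf y / (orderOf y).minFac := ⟨_, rfl⟩
      rw [← hn] at hord
      have hodd : Odd (orderOf y).minFac := hyo.of_dvd_nat hpd
      have hp2 : (orderOf y).minFac ≠ 2 := fun e => by rw [e] at hodd; exact absurd hodd (by decide)
      have hyn' : y ^ n ∈ nor D' := (nor D').pow_mem hyn n
      obtain ⟨b, hb, g, hg, hgy, hbg⟩ := cop_decomp hp Nat.prime_two hp2 hD'2
        (by rw [← hord]; exact pow_orderOf_eq_one _) hyn' hd0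
      have hg1 : g = 1 := two_elt h (K.pow_mem hyK n) (fun e => by
        rw [e, orderOf_one] at hord; exact hp.one_lt.ne hord) (hord ▸ hodd) (iv_pow hiv n) hD'2
        (hD'S.trans hSK) hg hgy
      have hcm : cm D' (y ^ n) ≤ D' ⊓ cen a := by
        apply cm_le_of
        · refine mem_nor.2 fun d => ⟨fun hd => ⟨(mem_nor.1 hyn' d).1 hd.1, ?_⟩, fun hd => ?_⟩
          · exact mem_cen.2 (c_one.1 ((keyn n d hd.1).1 (c_one.2 (mem_cen.1 hd.2).symm))).symm
          · have hd' := (mem_nor.1 hyn' d).2 hd.1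
            exact ⟨hd', mem_cen.2 (c_one.1 ((keyn n d hd').2 (c_one.2 (mem_cen.1 hd.2).symm))).symm⟩
        · intro d hd
          have hf : y ^ n * d⁻¹ * (y ^ n)⁻¹ ∈ D' := (mem_nor.1 hyn' _).1 (D'.inv_mem hd)
          have e4 : d * y ^ n * d⁻¹ * (y ^ n)⁻¹ = d * (y ^ n * d⁻¹ * (y ^ n)⁻¹) := by group
          rw [e4]
          refine ⟨D'.mul_mem hd hf, mem_cen.2 (c_one.1 ?_).symm⟩
          rw [c_mul', vfix d hd _ (caV _ hf)]
          have h8 := keyn n _ (D'.inv_mem hd)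
          have h9 : c a d⁻¹ = 1 ↔ c a d = 1 := by
            rw [c_one, c_one]; exact Commute.inv_right_iff
          rw [h9] at h8
          rcases ca d hd with h3 | h3
          · rw [h3, h8.1 h3, one_mul]
          · rcases ca _ hf with h4 | h4
            · exact absurd ((h8.2 h4).symm.trans h3).symm hz1
            · rw [h3, h4, hzz]
      rw [hg1, mul_one] at hbg
      have := c_one.2 (mem_cen.1 (hcm hb).2).symm
      rw [← hbg, hd0a] at this
      exact hz1 this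
  obtain ⟨W3, e3, m3, k3⟩ := ext e2 haa2 (fun w hw => by
      obtain ⟨w1, hw1, e⟩ := (m2 w).1 hw
      have hc1 : Commute a2 w1 := by
        obtain ⟨v, hv, rfl | rfl⟩ := (m1 w1).1 hw1
        · exact (vc _ hv a2 ha2D).symm
        · exact (vc _ hv a2 ha2D).symm.mul_right c02.symm
      rcases e with rfl | rfl
      · exact hc1
      · exact hc1.mul_right c12.symm) hn2
  have l1 : W1 ≤ D' := by
    intro w hw
    obtain ⟨v, hv, rfl | rfl⟩ := (m1 w).1 hw
    exacts [omD hv, D'.mul_mem (omD hv) haD]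
  have l2 : W2 ≤ D' := by
    intro w hw
    obtain ⟨v, hv, rfl | rfl⟩ := (m2 w).1 hw
    exacts [l1 hv, D'.mul_mem (l1 hv) ha1D]
  have l3 : W3 ≤ D' := by
    intro w hw
    obtain ⟨v, hv, rfl | rfl⟩ := (m3 w).1 hw
    exacts [l2 hv, D'.mul_mem (l2 hv) ha2D]
  have a3 : a ∈ W3 := (m3 a).2 ⟨a, (m2 a).2 ⟨a, (m1 a).2 ⟨1, one_mem _, Or.inr (one_mul a).symm⟩, Or.inl rfl⟩,
    Or.inl rfl⟩
  refine ⟨W3, e3, fun w hw => ?_, by omega⟩
  rw [← hcen]
  exact ⟨hD'S (l3 hw), mem_cen.2 (e3.2 w hw a a3)⟩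

end Cfsg.Agent.RY
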