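import Cfsg.Agent.RY.I4c
import Cfsg.Agent.RY.I4d
import Cfsg.Agent.RY.I5q
import Cfsg.Agent.RY.I5w

set_option autoImplicit false
set_option linter.unusedSectionVars false

namespace Cfsg.Agent.RY

open Cfsg.Agent.DT (cm nor cen cj)

universe u
variable {G : Type u} [Group G] [Finite G] {E K : Subgroup G}

namespace I5Aux

theorem om_le (D : Subgroup G) : om D ≤ D := fun _ h => h.1

theorem el_sup {A D : Subgroup G} (hA : El A) (le : A ≤ D) : El (A ⊔ om D) := by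
  have hn : A ≤ nor (om D) := le.trans (Subgroup.le_normalizer.trans (nor_le_nor_om D))
  refine ⟨fun g hg => ?_, fun g hg g' hg' => ?_⟩
  · obtain ⟨a, ha, b, hb, rfl⟩ := (DT.mem_sup_nor hn).1 hg
    have c : Commute b a := hb.2.2 a (le ha)
    rw [mul_assoc, ← mul_assoc b a b, c.eq, mul_assoc, hb.2.1, mul_one, hA.1 a ha]
  · obtain ⟨a, ha, b, hb, rfl⟩ := (DT.mem_sup_nor hn).1 hg
    obtain ⟨a', ha', b', hb', rfl⟩ := (DT.mem_sup_nor hn).1 hg'
    exact ((hA.2 a ha a' ha').mul_right (hb'.2.2 a (le ha)).symm).mul_left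
      ((hb.2.2 a' (le ha')).mul_right (hb.2.2 b' hb'.1))

end I5Aux

theorem CI.two_small (h : CI K) {z : G} (hz : z ∈ K) (hz2 : orderOf z = 2) (h2 : Nat.card (om (sy K z)) = 2)
    {D D' : Subgroup G} (hD : Mx K z D) (hD' : Mx K z D') (hS : sy K z ≤ nor D) (hne : D' ≠ D) (hle : om D ≤ D') :
    False := by
  have := h.nm
  obtain ⟨τ, hτ⟩ := h.exists_tau hz hz2
  have ez : τ * z * τ⁻¹ = z := by rw [← hτ.2.1.eq, mul_inv_cancel_right]
  have t2 : τ * τ = 1 := by rw [← sq, ← hτ.1, pow_orderOf_eq_one]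
  have hD2 : Mx K z (cj τ D) := by
    have := hD.cj τ
    rwa [ez] at this
  by_cases e : cj τ D = D
  · obtain ⟨W, hW, le, c⟩ := h.two_w hz hz2 h2 hD hD' hS hne hle
    have := h.two_quad hz hz2 h2 hD hτ (DT.cj_eq_self_iff.1 e) hW le
    omega
  have eS : cj τ (sy K z) = sy K z := by rw [← sy_cj, ez]
  have hS2 : sy K z ≤ nor (cj τ D) := by
    rw [DT.nor_cj, ← eS]
    exact Subgroup.map_mono hS
  by_cases l : om (cj τ D) ≤ D
  · have el := I5Aux.el_sup (el_om _) l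
    have n : τ ∈ nor (om (cj τ D) ⊔ om D) := by
      refine DT.cj_eq_self_iff.1 ?_
      have e1 : cj τ (om (cj τ D)) = om D := by
        rw [om_cj, DT.cj_cj, t2]
        exact DT.cj_eq_self_iff.2 (one_mem _)
      rw [show cj τ (om (cj τ D) ⊔ om D) = cj τ (om (cj τ D)) ⊔ cj τ (om D) from Subgroup.map_sup _ _ _, e1,
        ← om_cj, sup_comm]
    have c := hτ.card_le el ((sup_le l (I5Aux.om_le D)).trans (hD.le.trans (sy_le z))) n
    have c1 := h.mx_card hz hz2 hD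
    have e2 : om D = om (cj τ D) ⊔ om D :=
      Subgroup.eq_of_le_of_card_ge le_sup_right (by rw [c1, h2]; exact c)
    obtain ⟨v, hv, nv⟩ := h.mx_out hz hz2 hD2
    exact e ((h.mx_cen hz hz2 hD2 hv nv).symm.trans
      (h.mx_cen hz hz2 hD (e2 ▸ Subgroup.mem_sup_left hv) nv))
  · have e1 := (h.mx_el hz hz2 hD hD2 (hD.le.trans hS2) ((I5Aux.om_le _).trans (hD2.le.trans hS)) l).1
    obtain ⟨v, hv, v2, nv, ev⟩ := hD'.2.1
    exact nv (hD.2.2 D' (lt_of_le_of_ne (e1 ▸ hle) hne.symm) hD'.le v hv v2 (ev ▸ inf_le_right))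

end Cfsg.Agent.RY
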