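import Cfsg.Agent.RY.I5
import Cfsg.Agent.H4.MaxClass

set_option autoImplicit false
set_option linter.unusedSectionVars false

namespace Cfsg.Agent.RY

open Cfsg.Agent.DT (cm nor cen cj)

universe u
variable {G : Type u} [Group G] [Finite G] {E K : Subgroup G}

theorem I5bAux.aux (hG : IsPGroup 2 G) {t : G} (t2 : t * t = 1) (h4 : Nat.card (cen t) ≤ 4) {V : Subgroup G}
    (hV : El V) (t1 : t ≠ 1) : Nat.card V ≤ 4 := by
  have : Fact (Nat.Prime 2) := ⟨Nat.prime_two⟩
  have top : (∀ s, Commute s t) → Nat.card V ≤ 4 := fun c =>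
    (Subgroup.card_le_of_le (fun s _ => DT.mem_cen.2 (c s))).trans h4
  by_cases cyc : IsCyclic G
  · exact top fun s => (cyc.commGroup.mul_comm s t : _)
  set A := commutator G with hA
  have i4 : 4 ≤ A.index := H4.sq_le_index_commutator hG cyc
  have ti : t⁻¹ = t := inv_eq_of_mul_eq_one_right t2
  let g : G ⧸ cen t → A := fun q => ⟨q.out * t * q.out⁻¹ * t⁻¹,
    Subgroup.commutator_mem_commutator (Subgroup.mem_top _) (Subgroup.mem_top _)⟩
  have gi : Function.Injective g := fun q q' e => by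
    have e1 : q.out * t * q.out⁻¹ = q'.out * t * q'.out⁻¹ := mul_right_cancel (congrArg Subtype.val e)
    rw [← q.out_eq, ← q'.out_eq]
    refine QuotientGroup.eq.2 (DT.mem_cen.2 ?_)
    change q.out⁻¹ * q'.out * t = t * (q.out⁻¹ * q'.out)
    calc q.out⁻¹ * q'.out * t = q.out⁻¹ * (q'.out * t * q'.out⁻¹) * q'.out := by group
      _ = _ := by rw [← e1]; group
  have c1 := (cen t).card_mul_index
  have c2 := A.card_mul_index
  have c3 : (cen t).index ≤ Nat.card A := Nat.card_le_card_of_injective g gi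
  have pA : 0 < Nat.card A := Nat.card_pos
  have c4 : Nat.card A ≤ (cen t).index := by nlinarith
  have c5 : A.index ≤ 4 := by nlinarith
  have gs : Function.Surjective g := ((Nat.bijective_iff_injective_and_card g).2 ⟨gi, le_antisymm c3 c4⟩).2
  have ex : ∀ a ∈ A, ∃ s : G, s * t * s⁻¹ * t⁻¹ = a := fun a ha => by
    obtain ⟨q, e⟩ := gs ⟨a, ha⟩
    exact ⟨_, congrArg Subtype.val e⟩
  have tA : t ∉ A := fun h => by
    obtain ⟨s, e⟩ := ex t h
    rw [mul_inv_eq_iff_eq_mul, t2, mul_inv_eq_one, mul_eq_left] at e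
    exact t1 e
  have le : A ⊓ V ≤ cen t := fun a ha => by
    obtain ⟨s, e⟩ := ex a ha.1
    have a2 : a⁻¹ = a := inv_eq_of_mul_eq_one_right (hV.1 a ha.2)
    have : t * a * t⁻¹ = a⁻¹ := by
      rw [← e, ti]
      calc t * (s * t * s⁻¹ * t) * t = t * s * t * s⁻¹ * (t * t) := by group
        _ = t⁻¹ * s * t⁻¹ * s⁻¹ := by rw [t2, ti, mul_one]
        _ = _ := by group
    rw [a2, mul_inv_eq_iff_eq_mul] at this
    exact DT.mem_cen.2 this.symm
  have c6 : Nat.card (A ⊓ V : Subgroup G) ≤ 2 := by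
    obtain ⟨k, hk⟩ := Subgroup.card_dvd_of_le le
    by_contra hc
    have k1 : k = 1 := by
      have : 0 < Nat.card (cen t) := Nat.card_pos
      rcases k with _ | _ | k
      · omega
      · rfl
      · nlinarith
    rw [k1, mul_one] at hk
    have := Subgroup.eq_of_le_of_card_ge le hk.le
    exact tA (this.ge (DT.mem_cen.2 (Commute.refl t))).1
  have c7 : Nat.card (A ⊓ V : Subgroup G) * A.relIndex V = Nat.card V := by
    rw [← (A.subgroupOf V).card_mul_index, ← Subgroup.inf_subgroupOf_right,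
      Nat.card_congr (Subgroup.subgroupOfEquivOfLe (inf_le_right : A ⊓ V ≤ V)).toEquiv,
      Subgroup.inf_subgroupOf_right]
    rfl
  have c8 : A.relIndex V * (V ⊔ A).index = A.index := by
    rw [← Subgroup.relIndex_sup_right V A]
    exact Subgroup.relIndex_mul_index le_sup_right
  by_cases one : (V ⊔ A).index = 1
  · have e : V = ⊤ := frattini_nongenerating (by
      rw [eq_top_iff, ← Subgroup.index_eq_one.1 one]
      exact sup_le_sup_left (H3.commutator_le_frattini hG) _)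
    exact top fun s => hV.2 s (e ▸ Subgroup.mem_top _) t (e ▸ Subgroup.mem_top _)
  · have : (V ⊔ A).index ≠ 0 := Subgroup.index_ne_zero_of_finite
    have c9 : A.relIndex V ≤ 2 := by
      have : 2 ≤ (V ⊔ A).index := by omega
      nlinarith
    nlinarith

theorem rank_of_four {S V : Subgroup G} (hS : IsPGroup 2 S) {t : G} (ht : t ∈ S) (ht2 : orderOf t = 2)
    (h4 : Nat.card (S ⊓ cen t : Subgroup G) ≤ 4) (hV : El V) (hle : V ≤ S) : Nat.card V ≤ 4 := by
  rw [← Nat.card_congr (Subgroup.subgroupOfEquivOfLe hle).toEquiv]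
  refine I5bAux.aux hS (t := ⟨t, ht⟩) (Subtype.ext ?_) ?_
    ⟨fun a ha => Subtype.ext (hV.1 a.1 ha), fun a ha b hb => Subtype.ext (hV.2 a.1 ha b.1 hb)⟩ fun e => ?_
  · change t * t = 1
    rw [← sq, ← ht2, pow_orderOf_eq_one]
  · refine le_trans ?_ h4
    rw [← Nat.card_congr (Subgroup.subgroupOfEquivOfLe (inf_le_left : S ⊓ cen t ≤ S)).toEquiv]
    exact Subgroup.card_le_of_le fun s hs =>
      ⟨s.2, DT.mem_cen.2 (congrArg Subtype.val (DT.mem_cen.1 hs).eq)⟩
  · have : t = 1 := congrArg Subtype.val e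
    rw [this, orderOf_one] at ht2
    omega

theorem I5bAux.om_le (D : Subgroup G) : om D ≤ D := fun _ h => h.1

theorem CI.two_rank (h : CI K) {z : G} (hz : z ∈ K) (hz2 : orderOf z = 2) (h2 : Nat.card (om (sy K z)) = 2)
    {V : Subgroup G} (hV : El V) (hle : V ≤ sy K z) : Nat.card V ≤ 4 := by
  have : Fact (Nat.Prime 2) := ⟨Nat.prime_two⟩
  by_cases c : V ≤ om (sy K z)
  · have := Subgroup.card_le_of_le c
    omega
  obtain ⟨u, hu, hu'⟩ := SetLike.not_le_iff_exists.1 c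
  obtain ⟨D0, h0, -⟩ := h.exists_mx hz hz2 (hle hu) (hV.1 u hu) hu'
  obtain ⟨D, hD, hS | ⟨D', hD', n1, n2, n3⟩⟩ := h.mx_pair hz hz2 h0
  · obtain ⟨-, -, t, ht, -, -, t2, tD, -⟩ := h.mx_real hz hz2 hD
    obtain ⟨D', hD', le⟩ := h.exists_mx hz hz2 ht.1 (by rw [← sq, ← t2, pow_orderOf_eq_one])
      fun q => tD (I5bAux.om_le _ (h.mx_om hz hz2 hD q))
    have ne : D' ≠ D := fun e => tD (e ▸ le ⟨ht.1, DT.mem_cen.2 (Commute.refl t)⟩)
    have e := (h.mx_el hz hz2 hD' hD (hD'.le.trans hS) (fun v hv => Subgroup.mem_normalizer_fintype (S := (D' : Set G)) fun d hd => by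
      have e : v * d * v⁻¹ = v * d * v⁻¹ * d⁻¹ * d := by group
      rw [e]
      exact D'.mul_mem (I5bAux.om_le _ (h.mx_om hz hz2 hD'
        (h.mx_comm hz hz2 hD ⟨hD'.le hd, hS (hD'.le hd)⟩ hv))) hd)
      (h.two_small hz hz2 h2 hD hD' hS ne)).1
    have c4 := h.mx_card hz hz2 hD'
    rw [e, h2] at c4
    exact rank_of_four (h.sy_two hz hz2) ht.1 t2 ((Subgroup.card_le_of_le le).trans c4.le) hV hle
  · have e := (h.mx_el hz hz2 hD hD' n1 n2 n3).1
    have c4 := h.mx_card hz hz2 hD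
    rw [e, h2] at c4
    obtain ⟨v, hv, hv'⟩ := h.mx_out hz hz2 hD
    refine rank_of_four (h.sy_two hz hz2) (hD.le hv.1) (orderOf_eq_prime (by rw [sq]; exact hv.2.1)
      fun q => hv' (q ▸ one_mem _)) ?_ hV hle
    rw [h.mx_cen hz hz2 hD hv hv']
    exact c4.le

theorem CI.big (h : CI K) {z : G} (hz : z ∈ K) (hz2 : orderOf z = 2) (h4 : Nat.card (om (sy K z)) = 4)
    {D0 : Subgroup G} (h0 : Mx K z D0) : ∃ V W : Subgroup G, Big K z V W := by
  have := h.nm
  obtain ⟨D, hD, hS | ⟨D', hD', n1, n2, n3⟩⟩ := h.mx_pair hz hz2 h0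
  · obtain ⟨τ, hτ⟩ := h.exists_tau hz hz2
    have τ2 : τ * τ = 1 := by rw [← sq, ← hτ.1, pow_orderOf_eq_one]
    have hD' := hD.cj τ
    rw [← hτ.2.1.eq, mul_inv_cancel_right] at hD'
    have τS : cj τ (sy K z) = sy K z := DT.cj_eq_self_iff.2 (cen_le_nor_sy z (DT.mem_cen.2 hτ.2.1.symm))
    have hS' : sy K z ≤ nor (cj τ D) := by
      rw [DT.nor_cj, ← τS]
      exact Subgroup.map_mono hS
    refine ⟨_, _, (h.mx_el hz hz2 hD hD' (hD.le.trans hS') (((I5bAux.om_le _).trans hD'.le).trans hS)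
      fun le => ?_).2 h4⟩
    have nn : om (cj τ D) ≤ nor (om D) := le.trans (Subgroup.le_normalizer.trans (nor_le_nor_om D))
    have cc : ∀ a ∈ om (cj τ D), ∀ b ∈ om D, Commute a b := fun a ha b hb => (hb.2.2 a (le ha)).symm
    have el : El (om (cj τ D) ⊔ om D) := by
      refine ⟨fun g hg => ?_, fun g hg g' hg' => ?_⟩
      · obtain ⟨a, ha, b, hb, rfl⟩ := (DT.mem_sup_nor nn).1 hg
        rw [(cc a ha b hb).symm.mul_mul_mul_comm, ha.2.1, hb.2.1, one_mul]
      · obtain ⟨a, ha, b, hb, rfl⟩ := (DT.mem_sup_nor nn).1 hg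
        obtain ⟨a', ha', b', hb', rfl⟩ := (DT.mem_sup_nor nn).1 hg'
        exact (((el_om _).2 a ha a' ha').mul_right (cc a ha b' hb')).mul_left
          ((cc a' ha' b hb).symm.mul_right ((el_om _).2 b hb b' hb'))
    have c := hτ.card_le el (sup_le (((I5bAux.om_le _).trans hD'.le).trans (sy_le z))
      (((I5bAux.om_le _).trans hD.le).trans (sy_le z))) (DT.cj_eq_self_iff.1 (by
        have e1 : cj τ (om (cj τ D)) = om D := by
          rw [om_cj, DT.cj_cj, τ2]
          exact DT.cj_eq_self_iff.2 (one_mem _)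
        change Subgroup.map _ _ = _
        rw [Subgroup.map_sup, sup_comm]
        exact congrArg₂ _ (om_cj τ D).symm e1))
    have c' := Subgroup.card_le_of_le (le_sup_right : om D ≤ om (cj τ D) ⊔ om D)
    rw [h.mx_card hz hz2 hD, h4] at c'
    omega
  · exact ⟨_, _, (h.mx_el hz hz2 hD hD' n1 n2 n3).2 h4⟩

end Cfsg.Agent.RY
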