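import Cfsg.Agent.RY.Defs
import Cfsg.Agent.H81.Levi

/-! Project RY: a 2-group with a fixed point free automorphism of order three has class at most two. -/

set_option autoImplicit false
set_option linter.unusedSectionVars false

namespace Cfsg.Agent.RY.I5q2

open Cfsg.Agent.DT (cm nor cen cj mem_nor)
open scoped commutatorElement

universe u
variable {G : Type u} [Group G] [Finite G]

theorem coset {D : Subgroup G} {y : G} (hy : y ∈ nor D) (h3 : y ^ 3 = 1)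
    (hf : ∀ d ∈ D, Commute y d → d = 1) {f : G} (hfD : f ∈ D) : (f * y) ^ 3 = 1 := by
  let φ : D → D := fun d => ⟨(d : G)⁻¹ * (y * d * y⁻¹), D.mul_mem (D.inv_mem d.2) ((mem_nor.1 hy _).1 d.2)⟩
  have hinj : Function.Injective φ := by
    intro a b hab
    have e : (a : G)⁻¹ * (y * a * y⁻¹) = (b : G)⁻¹ * (y * b * y⁻¹) := congrArg Subtype.val hab
    have h1 := hf ((b : G) * (a : G)⁻¹) (D.mul_mem b.2 (D.inv_mem a.2)) (by
      show y * ((b : G) * (a : G)⁻¹) = (b : G) * (a : G)⁻¹ * y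
      calc y * ((b : G) * (a : G)⁻¹) = b * ((b : G)⁻¹ * (y * b * y⁻¹)) * y * (a : G)⁻¹ := by group
        _ = b * ((a : G)⁻¹ * (y * a * y⁻¹)) * y * (a : G)⁻¹ := by rw [e]
        _ = _ := by group)
    exact Subtype.ext (mul_inv_eq_one.1 h1).symm
  obtain ⟨d, hd⟩ := (Finite.injective_iff_surjective.1 hinj) ⟨f, hfD⟩
  have e : (d : G)⁻¹ * (y * d * y⁻¹) = f := congrArg Subtype.val hd
  calc (f * y) ^ 3 = (d : G)⁻¹ * y ^ 3 * d := by rw [← e, pow_three, pow_three]; simp [mul_assoc]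
    _ = 1 := by rw [h3]; group

/-- commutators of elements of `D` are central in `D`. -/
theorem cls2 {D : Subgroup G} (hD : IsPGroup 2 D) {y : G} (hy : y ∈ nor D) (h3 : y ^ 3 = 1)
    (hf : ∀ d ∈ D, Commute y d → d = 1) {a b : G} (ha : a ∈ D) (hb : b ∈ D) {e : G} (he : e ∈ D) :
    Commute (a * b * a⁻¹ * b⁻¹) e := by
  have hle : D ≤ nor D := Subgroup.le_normalizer
  let N : Subgroup (nor D) := D.subgroupOf (nor D)
  haveI hN : N.Normal := Subgroup.normal_in_normalizer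
  have hc := H81.commute_conj_of_coset (N := N) (y := ⟨y, hy⟩) (fun f hfN =>
    Subtype.ext (coset hy h3 hf (f := (f : G)) hfN))
  have h3' : ∀ x : N, x ^ 3 = 1 → x = 1 := by
    intro x hx
    obtain ⟨k, hk⟩ := hD ⟨((x : nor D) : G), x.2⟩
    have hk0 : ((x : nor D) : G) ^ 2 ^ k = 1 := congrArg Subtype.val hk
    have hk' : x ^ 2 ^ k = 1 := Subtype.ext (Subtype.ext hk0)
    have h1 := orderOf_dvd_of_pow_eq_one hx
    have h2 := orderOf_dvd_of_pow_eq_one hk'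
    have hco : Nat.Coprime 3 (2 ^ k) := Nat.Coprime.pow_right _ (by norm_num)
    exact orderOf_eq_one_iff.1 (Nat.eq_one_of_dvd_coprimes hco h1 h2)
  have hz := H81.commutator_mem_center_of_commute_conj hc h3'
  let a' : N := ⟨⟨a, hle ha⟩, ha⟩
  let b' : N := ⟨⟨b, hle hb⟩, hb⟩
  let e' : N := ⟨⟨e, hle he⟩, he⟩
  have hm : ⁅a', b'⁆ ∈ commutator N := Subgroup.commutator_mem_commutator trivial trivial
  have := Subgroup.mem_center_iff.1 (hz hm) e'
  exact (congrArg (fun x : N => ((x : nor D) : G)) this).symm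

theorem cls {D : Subgroup G} (hD : IsPGroup 2 D) {y : G} (hy : y ∈ nor D) (h3 : y ^ 3 = 1)
    (hf : ∀ d ∈ D, Commute y d → d = 1) :
    ∀ a ∈ D, ∀ b ∈ D, a * a = 1 → b * b = 1 → a * b * a⁻¹ * b⁻¹ ∈ om D := by
  intro a ha b hb ha2 _
  refine mem_om.2 ⟨D.mul_mem (D.mul_mem (D.mul_mem ha hb) (D.inv_mem ha)) (D.inv_mem hb), ?_,
    fun e he => cls2 hD hy h3 hf ha hb he⟩
  have h1 := (cls2 hD hy h3 hf ha hb ha).eq
  have h2 : a * (a * b * a⁻¹ * b⁻¹) * a⁻¹ * (a * b * a⁻¹ * b⁻¹) = (a * a) * b * (a * a)⁻¹ * b⁻¹ := by group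
  rw [← h1, mul_inv_cancel_right, ha2] at h2
  rw [h2]; group

end Cfsg.Agent.RY.I5q2
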