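import Cfsg.Agent.RY.I4b

set_option autoImplicit false
set_option linter.unusedSectionVars false

namespace Cfsg.Agent.RY.I5w2

open Cfsg.Agent.DT (cm nor cen cj mem_cj mem_cen mem_nor card_cj)

universe u
variable {G : Type u} [Group G] [Finite G] {E K : Subgroup G}

theorem ext {X : Subgroup G} {u : G} (hX : El X) (hu : u * u = 1) (hc : X ≤ cen u) (hn : u ∉ X) :
    ∃ Y : Subgroup G, El Y ∧ (∀ w ∈ Y, w ∈ X ∨ w * u ∈ X) ∧ (∀ H : Subgroup G, X ≤ H → u ∈ H → Y ≤ H) ∧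
      2 * Nat.card X ≤ Nat.card Y := by
  have c : ∀ x ∈ X, x * u = u * x := fun x hx => (mem_cen.1 (hc hx)).eq
  have c' : ∀ w, w * u ∈ X → w * u = u * w := fun w hw => by
    have := c _ hw
    rw [← mul_assoc] at this
    exact mul_right_cancel this
  have iu : u⁻¹ = u := inv_eq_of_mul_eq_one_right hu
  let Y : Subgroup G :=
    { carrier := {w | w ∈ X ∨ w * u ∈ X}
      one_mem' := .inl X.one_mem
      mul_mem' := by
        rintro a b (ha | ha) (hb | hb)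
        · exact .inl (X.mul_mem ha hb)
        · exact .inr (by rw [mul_assoc]; exact X.mul_mem ha hb)
        · exact .inr (by rw [mul_assoc, c b hb, ← mul_assoc]; exact X.mul_mem ha hb)
        · refine .inl ?_
          have := X.mul_mem ha hb
          rwa [c' b hb, mul_assoc, ← mul_assoc u, hu, one_mul] at this
      inv_mem' := by
        rintro a (ha | ha)
        · exact .inl (X.inv_mem ha)
        · refine .inr ?_
          have := X.inv_mem ha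
          rwa [c' a ha, mul_inv_rev, iu] at this }
  have dec : ∀ w ∈ Y, ∃ x ∈ X, w = x ∨ w = x * u := by
    rintro w (hw | hw)
    · exact ⟨w, hw, .inl rfl⟩
    · exact ⟨w * u, hw, .inr (by rw [mul_assoc, hu, mul_one])⟩
  have le : X ≤ Y := fun _ h => .inl h
  refine ⟨Y, ⟨fun w hw => ?_, fun a ha b hb => ?_⟩, fun _ h => h, fun H h1 h2 w hw => ?_, ?_⟩
  · obtain ⟨x, hx, rfl | rfl⟩ := dec w hw
    · exact hX.1 _ hx
    · rw [mul_assoc, ← mul_assoc u, ← c x hx, mul_assoc, hu, mul_one, hX.1 _ hx]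
  · obtain ⟨x, hx, e⟩ := dec a ha
    obtain ⟨y, hy, e'⟩ := dec b hb
    have h1 := hX.2 x hx y hy
    have h2 : Commute x u := c x hx
    have h3 : Commute u y := (c y hy).symm
    rcases e with rfl | rfl <;> rcases e' with rfl | rfl
    · exact h1
    · exact h1.mul_right h2
    · exact h1.mul_left h3
    · exact (h1.mul_right h2).mul_left (h3.mul_right (Commute.refl u))
  · obtain ⟨x, hx, rfl | rfl⟩ := dec w hw
    · exact h1 hx
    · exact H.mul_mem (h1 hx) h2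
  · obtain ⟨k, hk⟩ := Subgroup.card_dvd_of_le le
    have p : 0 < Nat.card Y := Nat.card_pos
    have k1 : k ≠ 1 := fun e => hn (by
      rw [Subgroup.eq_of_le_of_card_ge le (by rw [hk, e, mul_one])]
      exact .inr (by rw [hu]; exact X.one_mem))
    have k0 : k ≠ 0 := fun e => by rw [hk, e] at p; simp at p
    rw [hk, mul_comm]
    exact Nat.mul_le_mul_left _ (by omega)

theorem nofix (h : CI K) {y t : G} (hy : y ∈ K) (hy1 : y ≠ 1) (ho : Odd (orderOf y)) (ht : Iv t y) (k : ℕ) :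
    ∀ d ∈ K, d ^ 2 ^ k = 1 → Commute y d → d = 1 := by
  induction k with
  | zero => intro d _ e _; simpa using e
  | succ k ih =>
    intro d hd e hc
    have := ih (d ^ 2) (K.pow_mem hd 2) (by rw [← pow_mul, ← pow_succ', e]) (hc.pow_right 2)
    exact h.oddc hy hy1 ho ht hd (by rw [← sq, this]) hc

theorem key (h : CI K) {D : Subgroup G} (hK : D ≤ K) (h2 : IsPGroup 2 D) {a z d0 g t : G}
    (hχ : ∀ d ∈ D, a * d * a⁻¹ * d⁻¹ = 1 ∨ a * d * a⁻¹ * d⁻¹ = z) (h0 : d0 ∈ D) (h0' : ¬ Commute a d0)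
    (hg : g ∈ K) (hg1 : g ≠ 1) (ho : Odd (orderOf g)) (ht : Iv t g) (hn : g ∈ nor D)
    (H : ∀ d ∈ D, Commute a d → Commute (g * a * g⁻¹) d) : False := by
  have nD : ∀ d ∈ D, g⁻¹ * d * g ∈ D := fun d hd => by
    have := (mem_nor.1 ((nor D).inv_mem hn) d).1 hd
    rwa [inv_inv] at this
  have le : D ⊓ cen a ≤ cj g (D ⊓ cen a) := fun d hd => by
    refine mem_cj.2 ⟨nD d hd.1, mem_cen.2 ?_⟩
    have e := (H d hd.1 (mem_cen.1 hd.2).symm).eq
    show _ = _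
    calc g⁻¹ * d * g * a = g⁻¹ * (d * (g * a * g⁻¹)) * g := by group
      _ = _ := by rw [← e]; group
  have eq := Subgroup.eq_of_le_of_card_ge le (card_cj _ _).le
  have out : ∀ d ∈ D, ¬ Commute a d → a * d * a⁻¹ = z * d := fun d hd e => by
    rcases hχ d hd with e' | e'
    · exact (e (by show _ = _; rw [mul_inv_eq_one, mul_inv_eq_iff_eq_mul] at e'; exact e')).elim
    · rw [← e']; group
  let f : D → D := fun d => ⟨(d : G)⁻¹ * (g⁻¹ * d * g), D.mul_mem (D.inv_mem d.2) (nD _ d.2)⟩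
  have inj : Function.Injective f := fun d e he => by
    have he' : (d : G)⁻¹ * (g⁻¹ * d * g) = (e : G)⁻¹ * (g⁻¹ * e * g) := congrArg Subtype.val he
    obtain ⟨k, hk⟩ := h2 (e * d⁻¹)
    have := nofix h hg hg1 ho ht k ((e : G) * (d : G)⁻¹) (hK (e * d⁻¹).2) (congrArg Subtype.val hk) (by
      show _ = _
      calc g * ((e : G) * (d : G)⁻¹) = g * e * ((d : G)⁻¹ * (g⁻¹ * d * g)) * g⁻¹ * (d : G)⁻¹ * g := by group
        _ = _ := by rw [he']; group)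
    exact Subtype.ext (mul_inv_eq_one.1 this).symm
  obtain ⟨d, hd⟩ := Finite.injective_iff_surjective.1 inj ⟨d0, h0⟩
  have hd' : (d : G)⁻¹ * (g⁻¹ * d * g) = d0 := congrArg Subtype.val hd
  apply h0'
  rw [← hd']
  by_cases c : Commute a d
  · have : (d : G) ∈ cj g (D ⊓ cen a) := le ⟨d.2, mem_cen.2 c.symm⟩
    exact c.inv_right.mul_right (mem_cen.1 (mem_cj.1 this).2).symm
  · have c' : ¬ Commute a (g⁻¹ * d * g) := fun e => by
      have : (d : G) ∈ cj g (D ⊓ cen a) := mem_cj.2 ⟨nD _ d.2, mem_cen.2 e.symm⟩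
      rw [← eq] at this
      exact c (mem_cen.1 this.2).symm
    have e1 := out _ d.2 c
    have e2 := out _ (nD _ d.2) c'
    show _ = _
    calc a * ((d : G)⁻¹ * (g⁻¹ * d * g)) = (a * d * a⁻¹)⁻¹ * (a * (g⁻¹ * d * g) * a⁻¹) * a := by group
      _ = _ := by rw [e1, e2]; group

theorem cjχ {D : Subgroup G} {a z g : G} (hχ : ∀ d ∈ D, a * d * a⁻¹ * d⁻¹ = 1 ∨ a * d * a⁻¹ * d⁻¹ = z)
    (hn : g ∈ nor D) : ∀ d ∈ D, g * a * g⁻¹ * d * (g * a * g⁻¹)⁻¹ * d⁻¹ = 1 ∨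
      g * a * g⁻¹ * d * (g * a * g⁻¹)⁻¹ * d⁻¹ = g * z * g⁻¹ := fun d hd => by
  have nD : g⁻¹ * d * g ∈ D := by
    have := (mem_nor.1 ((nor D).inv_mem hn) d).1 hd
    rwa [inv_inv] at this
  have e : g * a * g⁻¹ * d * (g * a * g⁻¹)⁻¹ * d⁻¹ = g * (a * (g⁻¹ * d * g) * a⁻¹ * (g⁻¹ * d * g)⁻¹) * g⁻¹ := by group
  rw [e]
  rcases hχ _ nD with e' | e' <;> rw [e']
  · exact .inl (by group)
  · exact .inr rfl

theorem cmt {a b z w : G} (h1 : a * b * a⁻¹ * b⁻¹ = 1 ∨ a * b * a⁻¹ * b⁻¹ = z)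
    (h2 : b * a * b⁻¹ * a⁻¹ = 1 ∨ b * a * b⁻¹ * a⁻¹ = w) (hz : z * z = 1) (hne : z ≠ w) : Commute a b := by
  have fin : a * b * a⁻¹ * b⁻¹ = 1 → Commute a b := fun e' => by
    show _ = _
    rw [mul_inv_eq_one, mul_inv_eq_iff_eq_mul] at e'; exact e'
  have e : b * a * b⁻¹ * a⁻¹ = (a * b * a⁻¹ * b⁻¹)⁻¹ := by group
  rw [e] at h2
  rcases h1 with h1 | h1
  · exact fin h1
  · rcases h2 with h2 | h2
    · exact fin (inv_eq_one.1 h2)
    · rw [h1, inv_eq_of_mul_eq_one_right hz] at h2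
      exact (hne h2).elim

theorem two_w (h : CI K) {z : G} (hz : z ∈ K) (hz2 : orderOf z = 2) (h2 : Nat.card (om (sy K z)) = 2)
    {D D' : Subgroup G} (hD : Mx K z D) (hD' : Mx K z D') (hS : sy K z ≤ nor D) (hne : D' ≠ D) (hle : om D ≤ D') :
    ∃ W : Subgroup G, El W ∧ W ≤ D ∧ 32 ≤ Nat.card W := by
  have zz : z * z = 1 := by rw [← sq, ← hz2, pow_orderOf_eq_one]
  have z1 : z ≠ 1 := fun e => by rw [e, orderOf_one] at hz2; omega
  have two : ∀ u ∈ om (sy K z), u = 1 ∨ u = z := fun u hu => by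
    obtain ⟨w, -, hw⟩ := (Nat.card_eq_two_iff' (1 : om (sy K z))).1 h2
    by_cases e : u = 1
    · exact .inl e
    · exact .inr (congrArg Subtype.val ((hw ⟨u, hu⟩ fun e' => e (congrArg Subtype.val e')).trans
        (hw ⟨z, self_mem_sy hz hz2⟩ fun e' => z1 (congrArg Subtype.val e')).symm))
  obtain ⟨a, ha, ha'⟩ := h.mx_out hz hz2 hD
  have hc := h.mx_cen hz hz2 hD ha ha'
  have aD : a ∈ D' := hle ha
  have hχ : ∀ d ∈ D', a * d * a⁻¹ * d⁻¹ = 1 ∨ a * d * a⁻¹ * d⁻¹ = z := fun d hd =>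
    two _ (h.mx_comm hz hz2 hD ⟨hD'.le hd, hS (hD'.le hd)⟩ ha)
  obtain ⟨d0, h0, h0'⟩ : ∃ d ∈ D', ¬ Commute a d := by
    by_contra e
    push Not at e
    have l : D' ≤ D := fun d hd => hc ▸ (⟨hD'.le hd, mem_cen.2 (e d hd).symm⟩ : d ∈ sy K z ⊓ cen a)
    obtain ⟨-, ⟨v, hv, hv2, hv3, hv4⟩, -⟩ := hD
    exact hv3 (hD'.2.2 D (lt_of_le_of_ne l hne) (hv4 ▸ inf_le_left) v hv hv2 (hv4 ▸ inf_le_right))
  obtain ⟨y, ⟨yK, yn⟩, t, -, y1, yo, -, -, ht⟩ := h.mx_real hz hz2 hD'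
  have DK : D' ≤ K := fun d hd => (sy_le z (hD'.le hd)).1
  have D2 : IsPGroup 2 D' := (h.sy_two hz hz2).to_le hD'.le
  have o2 : orderOf (y * y) = orderOf y := by
    rw [← sq]; exact (Nat.coprime_two_right.2 yo).orderOf_pow
  have yy1 : y * y ≠ 1 := fun e => y1 (orderOf_eq_one_iff.1 (by rw [← o2, e, orderOf_one]))
  have yyo : Odd (orderOf (y * y)) := o2 ▸ yo
  have ht2 : Iv t (y * y) := by
    have e : t * y * t⁻¹ = y⁻¹ := ht
    show _ = _
    rw [← conj_mul, e, mul_inv_rev]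
  have yyn : y * y ∈ nor D' := (nor D').mul_mem yn yn
  have n1 : z ≠ y * z * y⁻¹ := fun e => z1 (h.oddc yK y1 yo ht hz zz (by
    show _ = _; rw [eq_mul_inv_iff_mul_eq] at e; exact e.symm))
  have n2 : z ≠ y * y * z * (y * y)⁻¹ := fun e => z1 (h.oddc (K.mul_mem yK yK) yy1 yyo ht2 hz zz (by
    show _ = _; rw [eq_mul_inv_iff_mul_eq] at e; exact e.symm))
  have n3 : y * z * y⁻¹ ≠ y * y * z * (y * y)⁻¹ := fun e => n1 (by
    calc z = y⁻¹ * (y * z * y⁻¹) * y := by group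
      _ = y⁻¹ * (y * y * z * (y * y)⁻¹) * y := congrArg (fun u => y⁻¹ * u * y) e
      _ = _ := by group)
  have χ1 := cjχ hχ yn
  have χ2 := cjχ hχ yyn
  have k1 := key h DK D2 hχ h0 h0' yK y1 yo ht yn
  have k2 := key h DK D2 hχ h0 h0' (K.mul_mem yK yK) yy1 yyo ht2 yyn
  have a1D := (mem_nor.1 yn a).1 aD
  have a2D := (mem_nor.1 yyn a).1 aD
  have aa : a * a = 1 := ha.2.1
  have s1 : y * a * y⁻¹ * (y * a * y⁻¹) = 1 := by rw [conj_mul, aa]; group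
  have s2 : y * y * a * (y * y)⁻¹ * (y * y * a * (y * y)⁻¹) = 1 := by rw [conj_mul, aa]; group
  have w1 : y * z * y⁻¹ * (y * z * y⁻¹) = 1 := by rw [conj_mul, zz]; group
  have w2 : y * y * z * (y * y)⁻¹ ≠ 1 := fun e => z1 (conj_eq_one_iff.1 e)
  generalize y * a * y⁻¹ = a1 at *
  generalize y * y * a * (y * y)⁻¹ = a2 at *
  generalize y * z * y⁻¹ = u1 at *
  generalize y * y * z * (y * y)⁻¹ = u2 at *
  have c01 : Commute a a1 := cmt (hχ _ a1D) (χ1 _ aD) zz n1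
  have c02 : Commute a a2 := cmt (hχ _ a2D) (χ2 _ aD) zz n2
  have c12 : Commute a1 a2 := cmt (χ1 _ a2D) (χ2 _ a1D) w1 n3
  have vc : ∀ d ∈ D', om D' ≤ cen d := fun d hd v hv => mem_cen.2 (hv.2.2 d hd)
  obtain ⟨Y1, e1, -, l1, p1⟩ := ext (el_om D') aa (vc a aD) fun e => h0' (e.2.2 d0 h0)
  have q1 : ∀ d ∈ D', Commute a d → Y1 ≤ cen d := fun d hd e => l1 _ (vc d hd) (mem_cen.2 e)
  obtain ⟨Y2, e2, m2, l2, p2⟩ := ext e1 s1 (q1 _ a1D c01) fun e => k1 fun d hd c => mem_cen.1 (q1 d hd c e)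
  obtain ⟨Y3, e3, -, l3, p3⟩ := ext e2 s2 (l2 _ (q1 _ a2D c02) (mem_cen.2 c12)) fun e => k2 fun d hd c => by
    rcases m2 _ e with e' | e'
    · exact mem_cen.1 (q1 d hd c e')
    · have e4 := (mem_cen.1 (q1 d hd c e')).eq
      rcases χ2 d hd with e5 | e5
      · show _ = _
        rw [mul_inv_eq_one, mul_inv_eq_iff_eq_mul] at e5; exact e5
      · have i2 : a2⁻¹ = a2 := inv_eq_of_mul_eq_one_right s2
        have e6 : a1 * d * a1⁻¹ * d⁻¹ = u2 := by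
          rw [← e5]
          calc a1 * d * a1⁻¹ * d⁻¹ = a2⁻¹ * (a2 * a1 * d) * a1⁻¹ * d⁻¹ := by group
            _ = a2⁻¹ * d * a2 * d⁻¹ := by rw [e4]; group
            _ = _ := by rw [i2]
        rcases χ1 d hd with e7 | e7
        · exact (w2 (e6 ▸ e7)).elim
        · exact (n3 (e7.symm.trans e6)).elim
  have mD : ∀ d ∈ D', Commute a d → d ∈ D := fun d hd c =>
    hc ▸ (⟨hD'.le hd, mem_cen.2 c.symm⟩ : d ∈ sy K z ⊓ cen a)
  refine ⟨Y3, e3, l3 _ (l2 _ (l1 _ (fun v hv => mD v hv.1 (hv.2.2 a aD).symm) ha.1) (mD _ a1D c01)) (mD _ a2D c02), ?_⟩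
  have := h.mx_card hz hz2 hD'
  rw [h2] at this
  omega

end Cfsg.Agent.RY.I5w2
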