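import Cfsg.Agent.RY.I7a
import Cfsg.Agent.RY.I4b

set_option autoImplicit false
set_option linter.unusedSectionVars false

namespace Cfsg.Agent.RY

open Cfsg.Agent.DT (cm nor cen cj)

universe u
variable {G : Type u} [Group G] [Finite G] {E K : Subgroup G}

namespace I7Aux

open Cfsg.Agent.DT (mem_cj mem_nor cj_cj cj_eq_self_iff)

/-- the block through `v`. -/
def ph (K : Subgroup G) (v : G) : Subgroup G := om (sy K v)

/-- the set of blocks. -/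
def Om (K V : Subgroup G) : Type u := {Z : Subgroup G // ∃ v ∈ V, v ≠ 1 ∧ Z = ph K v}

theorem ph_cj [K.Normal] (g v : G) : ph K (g * v * g⁻¹) = cj g (ph K v) := by
  rw [ph, ph, sy_cj, om_cj]

theorem cj_ne {g v : G} (h : v ≠ 1) : g * v * g⁻¹ ≠ 1 := fun e => h (by
  have : v = g⁻¹ * (g * v * g⁻¹) * g := by group
  rw [this, e]; group)

instance act (K V : Subgroup G) [K.Normal] : MulAction ↥(K ⊓ nor V) (Om K V) where
  smul m Z := ⟨cj (m : G) Z.1, by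
    obtain ⟨v, hv, h1, e⟩ := Z.2
    exact ⟨m * v * (m : G)⁻¹, (mem_nor.1 m.2.2 v).1 hv, cj_ne h1, by rw [ph_cj, e]⟩⟩
  one_smul Z := Subtype.ext (cj_eq_self_iff.2 (one_mem _))
  mul_smul a b Z := Subtype.ext (cj_cj (a : G) (b : G) Z.1).symm

theorem smul_val {V : Subgroup G} [K.Normal] (m : ↥(K ⊓ nor V)) (Z : Om K V) :
    (m • Z).1 = cj (m : G) Z.1 := rfl

section
variable (h : CI K) {z : G} (hz : z ∈ K) (hz2 : orderOf z = 2) {V W : Subgroup G} (hB : Big K z V W)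
include h hz hz2 hB

theorem omV {v : G} (hv : v ∈ V) : v ∈ om V := ⟨hv, hB.elV.1 v hv, hB.elV.2 v hv⟩

theorem zV : ph K z ≤ V := by rw [ph, ← hB.inf]; exact inf_le_left

theorem vK {v : G} (hv : v ∈ V) : v ∈ K := (sy_le z (hB.mx.le hv)).1

theorem v2 {v : G} (hv : v ∈ V) (h1 : v ≠ 1) : orderOf v = 2 :=
  orderOf_eq_prime (by rw [pow_two]; exact hB.elV.1 v hv) h1

theorem ph_eq {u v : G} (hv : v ∈ V) (h1 : v ≠ 1) (hu : u ∈ ph K v) (hu1 : u ≠ 1) : ph K u = ph K v := by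
  rw [ph, ph, h.sy_eq (vK h hz hz2 hB hv) (v2 h hz hz2 hB hv h1) hu hu1]

theorem z1 : z ≠ 1 := by
  rintro rfl
  simp at hz2

theorem zm : z ∈ V := zV h hz hz2 hB (self_mem_sy hz hz2)

theorem move {v : G} (hv : v ∈ V) (h1 : v ≠ 1) : ∃ m ∈ K ⊓ nor V, cj m (ph K v) = ph K z := by
  haveI := h.nm
  obtain ⟨m, hm, e⟩ := h.mx_move hz hz2 hB.mx (omV h hz hz2 hB hv) h1
  exact ⟨m, hm, by rw [← ph_cj]; exact ph_eq h hz hz2 hB (zm h hz hz2 hB) (z1 h hz hz2 hB) e (cj_ne h1)⟩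

theorem ph_le {v : G} (hv : v ∈ V) (h1 : v ≠ 1) : ph K v ≤ V := by
  obtain ⟨m, hm, e⟩ := move h hz hz2 hB hv h1
  intro u hu
  refine (mem_nor.1 hm.2 u).2 (zV h hz hz2 hB ?_)
  rw [← e, mem_cj]
  simpa [mul_assoc] using hu

theorem ph_card {v : G} (hv : v ∈ V) (h1 : v ≠ 1) : Nat.card (ph K v) = 4 := by
  obtain ⟨m, -, e⟩ := move h hz hz2 hB hv h1
  have := hB.cZ
  change Nat.card (ph K z) = 4 at this
  rw [← e] at this
  rw [← this]
  exact (Subgroup.card_map_of_injective (MulAut.conj m).injective).symm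

theorem card_Om : Nat.card (Om K V) = 5 := by
  classical
  haveI := Fintype.ofFinite G
  have cs : ∀ H : Subgroup G, (Finset.univ.filter fun u => u ∈ H ∧ u ≠ 1).card = Nat.card H - 1 := by
    intro H
    have : (Finset.univ.filter fun u => u ∈ H ∧ u ≠ 1) = (Finset.univ.filter fun u => u ∈ H).erase 1 := by
      ext u; simp [and_comm]
    rw [this, Finset.card_erase_of_mem (by simp), Nat.card_eq_fintype_card, Fintype.card_subtype]
  let s := Finset.univ.filter fun u => u ∈ V ∧ u ≠ 1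
  have h1 := Finset.card_eq_sum_card_image (ph K) s
  have h2 : ∀ Z ∈ s.image (ph K), (s.filter fun u => ph K u = Z).card = 3 := by
    intro Z hZ
    obtain ⟨v, hv, rfl⟩ := Finset.mem_image.1 hZ
    obtain ⟨hv, hv1⟩ : v ∈ V ∧ v ≠ 1 := by simpa [s] using hv
    have : (s.filter fun u => ph K u = ph K v) = Finset.univ.filter fun u => u ∈ ph K v ∧ u ≠ 1 := by
      ext u
      simp only [s, Finset.mem_filter, Finset.mem_univ, true_and]
      constructor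
      · rintro ⟨⟨a, b⟩, c⟩
        exact ⟨c ▸ self_mem_sy (vK h hz hz2 hB a) (v2 h hz hz2 hB a b), b⟩
      · rintro ⟨a, b⟩
        exact ⟨⟨ph_le h hz hz2 hB hv hv1 a, b⟩, ph_eq h hz hz2 hB hv hv1 a b⟩
    rw [this, cs, ph_card h hz hz2 hB hv hv1]
  rw [Finset.sum_congr rfl h2, Finset.sum_const, smul_eq_mul, cs, hB.cV] at h1
  have h3 : Nat.card (Om K V) = (s.image (ph K)).card := by
    rw [← Fintype.card_coe, ← Nat.card_eq_fintype_card]
    refine Nat.card_congr (Equiv.subtypeEquivRight fun Z => ?_)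
    simp only [s, Finset.mem_image, Finset.mem_filter, Finset.mem_univ, true_and]
    exact ⟨fun ⟨v, a, b, c⟩ => ⟨v, ⟨a, b⟩, c.symm⟩, fun ⟨v, ⟨a, b⟩, c⟩ => ⟨v, a, b, c.symm⟩⟩
  omega

theorem wS {w : G} (hw : w ∈ W) : w ∈ sy K z ⊓ nor V := by
  rw [← hB.sup]; exact (le_sup_right : W ≤ V ⊔ W) hw

theorem wM {w : G} (hw : w ∈ W) : w ∈ K ⊓ nor V :=
  ⟨(sy_le z (wS h hz hz2 hB hw).1).1, (wS h hz hz2 hB hw).2⟩

theorem fix {w v : G} (hw : w ∈ W) (hwV : w ∉ V) (hv : v ∈ V) (h1 : v ≠ 1) :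
    cj w (ph K v) = ph K v ↔ ph K v = ph K z := by
  constructor
  · intro e
    have hn := cj_eq_self_iff.1 e
    have hvv : v ∈ ph K v := self_mem_sy (vK h hz hz2 hB hv) (v2 h hz hz2 hB hv h1)
    have key : ∀ u ∈ ph K v, u ≠ 1 → Commute u w → ph K v = ph K z := by
      intro u hu hu1 hc
      have huV := ph_le h hz hz2 hB hv h1 hu
      have huW := (hB.cen u huV w hw hc).resolve_right hwV
      have : u ∈ ph K z := by rw [ph, ← hB.inf]; exact ⟨huV, huW⟩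
      rw [← ph_eq h hz hz2 hB hv h1 hu hu1,
        ph_eq h hz hz2 hB (zm h hz hz2 hB) (z1 h hz hz2 hB) this hu1]
    by_cases hc : w * v * w⁻¹ = v
    · exact key v hvv h1 (mul_inv_eq_iff_eq_mul.1 hc).symm
    · have hv' := (mem_nor.1 hn v).1 hvv
      have hcm := (hB.elV.2 v hv _ (ph_le h hz hz2 hB hv h1 hv')).eq
      have hww : w⁻¹ = w := inv_eq_of_mul_eq_one_right (hB.elW.1 w hw)
      refine key (v * (w * v * w⁻¹)) (mul_mem hvv hv') (fun e1 => hc ?_) ?_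
      · rw [← hB.elV.1 v hv] at e1
        exact mul_left_cancel e1
      · change v * (w * v * w⁻¹) * w = w * (v * (w * v * w⁻¹))
        conv_lhs => rw [hcm]
        rw [hww]
        simp only [mul_assoc]
  · intro e
    rw [e]
    exact cj_eq_self_iff.2 (nor_le_nor_om _ (Subgroup.le_normalizer (wS h hz hz2 hB hw).1))

theorem two : ∃ a ∈ W, ∃ a' ∈ W, a ∉ V ∧ a' ∉ V ∧ a * a' ∉ V := by
  have hZ : (V ⊓ W : Subgroup G).carrier.ncard = 4 := by
    rw [hB.inf]; exact hB.cZ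
  have hW : W.carrier.ncard = 16 := hB.cW
  have main : ∀ a ∈ W, ∃ x ∈ W, x ∉ V ∧ a * x ∉ V := by
    intro a ha
    by_contra hcon
    push Not at hcon
    have hs : W.carrier ⊆ (V ⊓ W : Subgroup G).carrier ∪ (fun u => a⁻¹ * u) '' (V ⊓ W : Subgroup G).carrier := by
      intro x hx
      by_cases hxV : x ∈ V
      · exact Or.inl ⟨hxV, hx⟩
      · exact Or.inr ⟨a * x, ⟨hcon x hx hxV, mul_mem ha hx⟩, by simp⟩
    have h1 := Set.ncard_le_ncard hs (Set.toFinite _)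
    have h2 := Set.ncard_union_le (V ⊓ W : Subgroup G).carrier
      ((fun u => a⁻¹ * u) '' (V ⊓ W : Subgroup G).carrier)
    have h3 := Set.ncard_image_le (f := fun u => a⁻¹ * u) (s := (V ⊓ W : Subgroup G).carrier) (Set.toFinite _)
    omega
  obtain ⟨a, ha, haV, -⟩ := main 1 (one_mem _)
  obtain ⟨x, hx, h1, h2⟩ := main a ha
  exact ⟨a, ha, x, hx, haV, h1, h2⟩

end

end I7Aux

open I7Aux in
theorem CI.five (h : CI K) {z : G} (hz : z ∈ K) (hz2 : orderOf z = 2) {V W : Subgroup G} (hB : Big K z V W) :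
    (∃ y ∈ K, ∃ t ∈ K, orderOf y = 5 ∧ orderOf t = 2 ∧ Iv t y) ∧
      ∃ y ∈ K ⊓ nor V ⊓ nor (sy K z), y ≠ 1 ∧ Odd (orderOf y) ∧ ∃ t : G, Iv t y := by
  classical
  haveI := h.nm
  haveI : Finite (Om K V) := Nat.finite_of_card_ne_zero (by rw [card_Om h hz hz2 hB]; decide)
  haveI := Fintype.ofFinite (Om K V)
  have hc : Fintype.card (Om K V) = 5 := by rw [← Nat.card_eq_fintype_card, card_Om h hz hz2 hB]
  let p : Om K V := ⟨ph K z, z, zm h hz hz2 hB, z1 h hz hz2 hB, rfl⟩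
  let f := MulAction.toPermHom ↥(K ⊓ nor V) (Om K V)
  have mv : ∀ i : Om K V, ∃ m : ↥(K ⊓ nor V), m • i = p := by
    rintro ⟨_, v, hv, h1, rfl⟩
    obtain ⟨m, hm, e⟩ := move h hz hz2 hB hv h1
    exact ⟨⟨m, hm⟩, Subtype.ext e⟩
  obtain ⟨v, hv, hvZ⟩ := h.mx_out hz hz2 hB.mx
  have hv1 : v ≠ 1 := by rintro rfl; exact hvZ (one_mem _)
  let q : Om K V := ⟨ph K v, v, hv.1, hv1, rfl⟩
  have hpq : p ≠ q := fun e => hvZ (by
    have e' : ph K z = ph K v := congrArg Subtype.val e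
    change v ∈ ph K z
    rw [e']
    exact self_mem_sy (vK h hz hz2 hB hv.1) (v2 h hz hz2 hB hv.1 hv1))
  obtain ⟨m, hm⟩ := mv q
  have fx : ∀ w (hw : w ∈ W), w ∉ V → ∀ x : ↥(K ⊓ nor V), (x : G) = w →
      x * x = 1 ∧ ∀ i : Om K V, x • i = i ↔ i = p := by
    rintro w hw hwV x rfl
    refine ⟨Subtype.ext (hB.elW.1 _ hw), ?_⟩
    rintro ⟨_, u, hu, h1, rfl⟩
    exact ⟨fun e => Subtype.ext ((fix h hz hz2 hB hw hwV hu h1).1 (congrArg Subtype.val e)),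
      fun e => Subtype.ext ((fix h hz hz2 hB hw hwV hu h1).2 (congrArg Subtype.val e))⟩
  have fy : ∀ x : ↥(K ⊓ nor V), (x * x = 1 ∧ ∀ i : Om K V, x • i = i ↔ i = p) →
      (m⁻¹ * x * m) * (m⁻¹ * x * m) = 1 ∧ ∀ i : Om K V, (m⁻¹ * x * m) • i = i ↔ i = q := by
    rintro x ⟨h1, h2⟩
    refine ⟨?_, fun i => ?_⟩
    · have : (m⁻¹ * x * m) * (m⁻¹ * x * m) = m⁻¹ * (x * x) * m := by group
      rw [this, h1]; group
    · rw [mul_smul, mul_smul, inv_smul_eq_iff, h2, ← hm, smul_left_cancel_iff]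
  obtain ⟨a0, ha, a0', ha', n1, n2, n3⟩ := two h hz hz2 hB
  let a : ↥(K ⊓ nor V) := ⟨a0, wM h hz hz2 hB ha⟩
  let a' : ↥(K ⊓ nor V) := ⟨a0', wM h hz hz2 hB ha'⟩
  have A1 := fx a0 ha n1 a rfl
  have A2 := fx a0' ha' n2 a' rfl
  have A3 := fx _ (mul_mem ha ha') n3 (a * a') rfl
  have B1 := fy _ A1
  have B2 := fy _ A2
  have B3 := fy _ A3
  have e3 : m⁻¹ * (a * a') * m = (m⁻¹ * a * m) * (m⁻¹ * a' * m) := by group
  rw [e3] at B3
  have lift : ∀ (c c' : ↥(K ⊓ nor V)) (r : Om K V), (c * c = 1 ∧ ∀ i : Om K V, c • i = i ↔ i = r) →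
      (c' * c' = 1 ∧ ∀ i : Om K V, c' • i = i ↔ i = r) →
      ((c * c') * (c * c') = 1 ∧ ∀ i : Om K V, (c * c') • i = i ↔ i = r) →
      ∀ x ∈ [f c, f c', f c * f c'], ∃ x0, f x0 = x ∧ x0 * x0 = 1 ∧ ∀ i : Om K V, x0 • i = i ↔ i = r := by
    intro c c' r h1 h2 h3 x hx
    simp only [List.mem_cons, List.not_mem_nil, or_false] at hx
    rcases hx with rfl | rfl | rfl
    · exact ⟨c, rfl, h1⟩
    · exact ⟨c', rfl, h2⟩
    · exact ⟨c * c', map_mul _ _ _, h3⟩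
  have LA := lift _ _ _ A1 A2 A3
  have LB := lift _ _ _ B1 B2 B3
  have dn : ∀ (l : List (Equiv.Perm (Om K V))) (r : Om K V),
      (∀ x ∈ l, ∃ x0, f x0 = x ∧ x0 * x0 = 1 ∧ ∀ i : Om K V, x0 • i = i ↔ i = r) →
      ∀ x ∈ l, x * x = 1 ∧ ∀ i, x i = i ↔ i = r := by
    intro l r hl x hx
    obtain ⟨x0, rfl, h1, h2⟩ := hl x hx
    exact ⟨by rw [← map_mul, h1, map_one], h2⟩
  obtain ⟨⟨x, hx, y, hy, h5⟩, x', hx', y', hy', h3, i, hi⟩ :=
    Cfsg.Agent.RY.five hc hpq (dn _ _ LA) (dn _ _ LB)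
  constructor
  · obtain ⟨x0, rfl, h1, h2⟩ := LA x hx
    obtain ⟨y0, rfl, h1', -⟩ := LB y hy
    rw [← map_mul] at h5
    obtain ⟨⟨g, -, hg, hI⟩, -⟩ := odd_part f h1 h1' Nat.prime_five h5 (by decide)
    refine ⟨g, g.2.1, x0, x0.2.1, by rw [Subgroup.orderOf_coe, hg], ?_, congrArg Subtype.val hI⟩
    rw [Subgroup.orderOf_coe]
    refine orderOf_eq_prime (by rw [pow_two, h1]) ?_
    rintro rfl
    exact hpq ((h2 q).1 (one_smul _ _)).symm
  · obtain ⟨x0, rfl, h1, -⟩ := LA x' hx'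
    obtain ⟨y0, rfl, h1', -⟩ := LB y' hy'
    rw [← map_mul] at h3 hi
    obtain ⟨-, g, hg, hg1, hgo, hI⟩ := odd_part f h1 h1' Nat.prime_three h3 (by decide)
    have hgi : g • i = i := by
      have : Subgroup.zpowers (x0 * y0) ≤ MulAction.stabilizer _ i := by
        rw [Subgroup.zpowers_le]; exact hi
      exact this hg
    obtain ⟨n, hn⟩ := mv i
    have hfix : (n * g * n⁻¹) • p = p := by
      rw [← hn, mul_smul, inv_smul_smul, mul_smul, hgi]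
    have hN : ((n * g * n⁻¹ : ↥(K ⊓ nor V)) : G) ∈ nor (om (sy K z)) :=
      Cfsg.Agent.DT.cj_eq_self_iff.1 (congrArg Subtype.val hfix)
    refine ⟨(n * g * n⁻¹ : ↥(K ⊓ nor V)), ⟨(n * g * n⁻¹).2, ?_⟩, ?_, ?_, (n * x0 * n⁻¹ : ↥(K ⊓ nor V)), ?_⟩
    · refine Cfsg.Agent.DT.cj_eq_self_iff.1 ?_
      rw [← sy_cj]
      exact h.sy_eq hz hz2 ((Cfsg.Agent.DT.mem_nor.1 hN z).1 (self_mem_sy hz hz2)) (cj_ne (z1 h hz hz2 hB))
    · intro e
      exact cj_ne hg1 (Subtype.ext e)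
    · rw [Subgroup.orderOf_coe]
      have := (MulAut.conj n).orderOf_eq g
      rw [MulAut.conj_apply] at this
      rw [this]
      exact hgo
    · have : Iv (n * x0 * n⁻¹) (n * g * n⁻¹) := by
        unfold Iv at hI ⊢
        have e : n * x0 * n⁻¹ * (n * g * n⁻¹) * (n * x0 * n⁻¹)⁻¹ = n * (x0 * g * x0⁻¹) * n⁻¹ := by group
        rw [e, hI]; group
      exact congrArg Subtype.val this

end Cfsg.Agent.RY
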