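import Cfsg.Agent.RY.I4b

set_option autoImplicit false
set_option linter.unusedSectionVars false

namespace Cfsg.Agent.RY

open Cfsg.Agent.DT (cm nor cen cj)

universe u
variable {G : Type u} [Group G] [Finite G] {E K : Subgroup G}

namespace I8aAux

theorem inv_mem_or {z : G} {V W : Subgroup G} (hB : Big K z V W) {s : G} (hs : s ∈ V ⊔ W) (h2 : s * s = 1) :
    s ∈ V ∨ s ∈ W := by
  obtain ⟨v, hv, w, hw, rfl⟩ := hB.dec s hs
  have hc : Commute v w := by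
    have h1 : v * w = (v * w)⁻¹ := eq_inv_of_mul_eq_one_left h2
    rw [mul_inv_rev, ← eq_inv_of_mul_eq_one_left (hB.elV.1 v hv),
      ← eq_inv_of_mul_eq_one_left (hB.elW.1 w hw)] at h1
    exact h1
  rcases hB.cen v hv w hw hc with h | h
  · exact Or.inr (W.mul_mem h hw)
  · exact Or.inl (V.mul_mem hv h)

theorem el_eq {z : G} {V W : Subgroup G} (hB : Big K z V W) {U : Subgroup G} (hU : U ≤ V ⊔ W)
    (h2 : ∀ a ∈ U, a * a = 1) (hc : Nat.card U = 16) : U = V ∨ U = W := by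
  by_cases hV : U ≤ V
  · exact Or.inl (Subgroup.eq_of_le_of_card_ge hV (by rw [hc, hB.cV]))
  · refine Or.inr (Subgroup.eq_of_le_of_card_ge ?_ (by rw [hc, hB.cW]))
    obtain ⟨a, ha, haV⟩ := SetLike.not_le_iff_exists.1 hV
    have haW : a ∈ W := (inv_mem_or hB (hU ha) (h2 a ha)).resolve_left haV
    intro b hb
    rcases inv_mem_or hB (hU hb) (h2 b hb) with hbV | hbW
    · rcases inv_mem_or hB (hU (U.mul_mem ha hb)) (h2 _ (U.mul_mem ha hb)) with h | h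
      · exact absurd ((V.mul_mem_cancel_right hbV).1 h) haV
      · exact (W.mul_mem_cancel_left haW).1 h
    · exact hbW

theorem cj_or {z : G} {V W : Subgroup G} (hB : Big K z V W) {m : G} (hm : m ∈ nor (V ⊔ W)) :
    cj m V = V ∨ cj m V = W := by
  refine el_eq hB (fun a ha => ?_) (fun a ha => ?_) (by rw [DT.card_cj, hB.cV])
  · have := (DT.mem_nor.1 hm _).1 (Subgroup.mem_sup_left (T := W) (DT.mem_cj.1 ha))
    rwa [show m * (m⁻¹ * a * m) * m⁻¹ = a by group] at this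
  · have := hB.elV.1 _ (DT.mem_cj.1 ha)
    calc a * a = m * (m⁻¹ * a * m * (m⁻¹ * a * m)) * m⁻¹ := by group
      _ = 1 := by rw [this]; group

theorem calc1 {v x v2 x2 w w' : G} (h1 : Commute v v2) (h2 : Commute x x2) (h3 : v * x2 = w * x2 * v)
    (h4 : x * v2 = w' * v2 * x) (h5 : Commute v w') (h6 : Commute v2 w) :
    v * x * (v2 * x2) = w' * w * (v2 * x2 * (v * x)) := by
  calc v * x * (v2 * x2) = v * (x * v2) * x2 := by simp only [mul_assoc]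
    _ = (v * w') * v2 * (x * x2) := by rw [h4]; simp only [mul_assoc]
    _ = w' * (v * v2) * x2 * x := by rw [h5.eq, h2.eq]; simp only [mul_assoc]
    _ = w' * v2 * (v * x2) * x := by rw [h1.eq]; simp only [mul_assoc]
    _ = w' * (v2 * w) * x2 * v * x := by rw [h3]; simp only [mul_assoc]
    _ = w' * w * (v2 * x2 * (v * x)) := by rw [h6.eq]; simp only [mul_assoc]

theorem calc2 {a b c d e : G} (h : a * b = e * (b * a)) (h1 : Commute c b) (h2 : Commute d a)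
    (h3 : Commute c d) : a * c * (b * d) * (a * c)⁻¹ * (b * d)⁻¹ = e := by
  have : a * c * (b * d) = e * (b * d * (a * c)) := by
    rw [h1.mul_mul_mul_comm, h2.mul_mul_mul_comm, h, h3.eq]; simp only [mul_assoc]
  rw [this]; group

end I8aAux

theorem CI.big_syl (h : CI K) {z : G} (hz : z ∈ K) (hz2 : orderOf z = 2) {V W : Subgroup G} (hB : Big K z V W)
    {y t : G} (hy : y ∈ K ⊓ nor V ⊓ nor (sy K z)) (hy1 : y ≠ 1) (ho : Odd (orderOf y)) (ht : Iv t y) :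
    sy K z = V ⊔ W := by
  obtain ⟨⟨hyK, hyV⟩, hyS⟩ := hy
  have hS2 := h.sy_two hz hz2
  have hTS : V ⊔ W ≤ sy K z := hB.sup ▸ inf_le_left
  have fpf : ∀ s ∈ sy K z, Commute y s → s = 1 := by
    have key : ∀ k : ℕ, ∀ s ∈ sy K z, Commute y s → s ^ 2 ^ k = 1 → s = 1 := by
      intro k
      induction k with
      | zero => intro s _ _ h1; simpa using h1
      | succ k ih =>
        intro s hs hc h1
        refine h.oddc hyK hy1 ho ht (sy_le z hs).1 (ih _ (mul_mem hs hs) (hc.mul_right hc) ?_) hc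
        rw [← sq, ← pow_mul, ← pow_succ', h1]
    intro s hs hc
    obtain ⟨k, hk⟩ := hS2 ⟨s, hs⟩
    exact key k s hs hc (by simpa using congrArg Subtype.val hk)
  have hyT : y ∈ nor (V ⊔ W) := by
    rw [hB.sup]
    exact DT.nor_inf_le_nor_inf _ _ ⟨hyS, DT.nor_le_nor_nor V hyV⟩
  by_contra hne
  obtain ⟨n, hnS, hnN, hnT⟩ := DT.nor_grow Nat.prime_two hS2 hTS (fun e => hne e.symm)
  have hW : ∀ m ∈ sy K z, m ∈ nor (V ⊔ W) → m ∉ V ⊔ W → cj m V = W := by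
    intro m hm hmN hmT
    refine (I8aAux.cj_or hB hmN).resolve_left fun e => hmT ?_
    rw [hB.sup]
    exact ⟨hm, DT.cj_eq_self_iff.1 e⟩
  have hn'S : y * n * y⁻¹ ∈ sy K z := (DT.mem_nor.1 hyS n).1 hnS
  have hn'N : y * n * y⁻¹ ∈ nor (V ⊔ W) := mul_mem (mul_mem hyT hnN) (inv_mem hyT)
  have hn'T : y * n * y⁻¹ ∉ V ⊔ W := fun e => hnT ((DT.mem_nor.1 hyT n).2 e)
  have hq : n⁻¹ * (y * n * y⁻¹) ∈ V ⊔ W := by
    rw [hB.sup]
    refine ⟨(sy K z).mul_mem ((sy K z).inv_mem hnS) hn'S, DT.cj_eq_self_iff.1 ?_⟩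
    rw [← DT.cj_cj, hW _ hn'S hn'N hn'T, ← hW _ hnS hnN hnT, DT.cj_cj, inv_mul_cancel]
    exact DT.cj_eq_self_iff.2 (one_mem _)
  let f : (V ⊔ W : Subgroup G) → (V ⊔ W : Subgroup G) := fun s =>
    ⟨s.1⁻¹ * (y * s.1 * y⁻¹), mul_mem (inv_mem s.2) ((DT.mem_nor.1 hyT _).1 s.2)⟩
  have com : ∀ a b : G, a⁻¹ * (y * a * y⁻¹) = b⁻¹ * (y * b * y⁻¹) → Commute y (b * a⁻¹) := by
    intro a b e
    calc y * (b * a⁻¹) = b * (b⁻¹ * (y * b * y⁻¹)) * y * a⁻¹ := by group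
      _ = b * a⁻¹ * y := by rw [← e]; group
  have hf : Function.Injective f := by
    intro a b e
    have := fpf _ (mul_mem (hTS b.2) (inv_mem (hTS a.2))) (com _ _ (congrArg Subtype.val e))
    exact Subtype.ext (mul_inv_eq_one.1 this).symm
  obtain ⟨s, hs⟩ := Finite.injective_iff_surjective.1 hf ⟨_, hq⟩
  have := fpf _ (mul_mem hnS (inv_mem (hTS s.2))) (com _ _ (congrArg Subtype.val hs))
  exact hnT (mul_inv_eq_one.1 this ▸ s.2)

theorem CI.big_q8 (h : CI K) {z τ : G} (hz : z ∈ K) (hz2 : orderOf z = 2) {V W : Subgroup G} (hB : Big K z V W)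
    (hS : sy K z = V ⊔ W) (hτ : Tau K τ z) : ∃ a ∈ K ⊓ cen τ, ∃ b ∈ K ⊓ cen τ, a * b * a⁻¹ * b⁻¹ = z := by
  have := h.nm
  obtain ⟨σ, hσ⟩ : ∃ σ : G →* G, ∀ g, σ g = τ * g * τ⁻¹ := ⟨(MulAut.conj τ).toMonoidHom, fun _ => rfl⟩
  have hττ : τ * τ = 1 := by rw [← sq, ← hτ.1]; exact pow_orderOf_eq_one τ
  have hσσ : ∀ g, σ (σ g) = g := fun g => by
    rw [hσ, hσ, show τ * (τ * g * τ⁻¹) * τ⁻¹ = τ * τ * g * (τ * τ)⁻¹ by group, hττ]; group
  have hfix : ∀ u, σ u = u → Commute u τ := fun u e => by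
    rw [hσ, mul_inv_eq_iff_eq_mul] at e
    exact e.symm
  have hτS : τ ∈ nor (sy K z) := cen_le_nor_sy z (DT.mem_cen.2 hτ.2.1.symm)
  have hVS : V ≤ sy K z := hS ▸ le_sup_left
  have hWS : W ≤ sy K z := hS ▸ le_sup_right
  have hcj : cj τ V = W := by
    refine (I8aAux.cj_or hB (hS ▸ hτS)).resolve_left fun e => ?_
    have := hτ.card_le hB.elV (hVS.trans (sy_le z)) (DT.cj_eq_self_iff.1 e)
    rw [hB.cV] at this
    omega
  have hVW : ∀ v ∈ V, σ v ∈ W := fun v hv => by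
    rw [← hcj, DT.mem_cj, hσ, show τ⁻¹ * (τ * v * τ⁻¹) * τ = v by group]; exact hv
  have hWV : ∀ x ∈ W, σ x ∈ V := fun x hx => by
    rw [← hcj, DT.mem_cj] at hx
    have hi : τ⁻¹ = τ := (eq_inv_of_mul_eq_one_left hττ).symm
    rw [hi] at hx
    rwa [hσ, hi]
  have hZσ : ∀ c ∈ om (sy K z), σ c ∈ om (sy K z) := fun c hc => by
    rw [hσ]; exact (DT.mem_nor.1 (nor_le_nor_om _ hτS) c).1 hc
  have hzZ := self_mem_sy hz hz2
  have hZfix : ∀ c ∈ om (sy K z), σ c = c → c = 1 ∨ c = z := fun c hc e =>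
    hτ.2.2 c (sy_le z hc.1).1 hc.2.1 (hc.2.2 z hzZ.1) (hfix c e)
  have ecard : ∀ H : Subgroup G, Nat.card H = (H : Set G).ncard := fun H => Nat.card_coe_set_eq (H : Set G)
  -- an element of `V` outside `Z0`
  obtain ⟨v, hv, hvZ⟩ : ∃ v ∈ V, v ∉ om (sy K z) := by
    by_contra hcon
    push Not at hcon
    have := Subgroup.card_le_of_le (H := V) (K := om (sy K z)) hcon
    rw [hB.cV, hB.cZ] at this
    omega
  have hker : ∀ x ∈ W, v * x * v⁻¹ * x⁻¹ = 1 → x ∈ om (sy K z) := fun x hx e => by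
    rcases hB.cen v hv x hx (commutatorElement_eq_one_iff_commute.1 e) with h1 | h1
    · exact absurd (hB.inf ▸ (⟨hv, h1⟩ : v ∈ V ⊓ W)) hvZ
    · exact hB.inf ▸ (⟨h1, hx⟩ : x ∈ V ⊓ W)
  obtain ⟨x2, hx2, hw1, hwz⟩ : ∃ x ∈ W, v * x * v⁻¹ * x⁻¹ ≠ 1 ∧ v * x * v⁻¹ * x⁻¹ ≠ z := by
    by_contra hcon
    push Not at hcon
    obtain ⟨x1, hx1, hx1Z⟩ : ∃ x ∈ W, x ∉ om (sy K z) := by
      by_contra hcon
      push Not at hcon
      have := Subgroup.card_le_of_le (H := W) (K := om (sy K z)) hcon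
      rw [hB.cW, hB.cZ] at this
      omega
    have hsub : (W : Set G) ⊆ (om (sy K z) : Set G) ∪ (fun c => x1⁻¹ * c) '' (om (sy K z) : Set G) := by
      intro x hx
      by_cases hxZ : x ∈ om (sy K z)
      · exact Or.inl hxZ
      · refine Or.inr ⟨x1 * x, hker _ (W.mul_mem hx1 hx) ?_, by simp⟩
        have e1 := hcon x1 hx1 fun e => hx1Z (hker _ hx1 e)
        have e2 := hcon x hx fun e => hxZ (hker _ hx e)
        calc v * (x1 * x) * v⁻¹ * (x1 * x)⁻¹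
            = v * x1 * v⁻¹ * x1⁻¹ * (x1 * (v * x * v⁻¹ * x⁻¹) * x1⁻¹) := by group
          _ = 1 := by
            rw [e1, e2, ← (hzZ.2.2 x1 (hWS hx1)).eq, mul_inv_cancel_right]; exact hzZ.2.1
    have h1 := Set.ncard_le_ncard hsub
    have h2 := Set.ncard_union_le (om (sy K z) : Set G) ((fun c => x1⁻¹ * c) '' (om (sy K z) : Set G))
    have h3 := Set.ncard_image_le (f := fun c => x1⁻¹ * c) (s := (om (sy K z) : Set G))
    rw [← ecard, hB.cW] at h1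
    rw [← ecard, hB.cZ] at h2 h3
    omega
  have hwZ := hB.com v hv x2 hx2
  obtain ⟨w, hw⟩ : ∃ w, w = v * x2 * v⁻¹ * x2⁻¹ := ⟨_, rfl⟩
  rw [← hw] at hwZ hw1 hwz
  have hw'Z := hZσ w hwZ
  have hww : σ w * w = z := by
    refine (hZfix _ (mul_mem hw'Z hwZ) ?_).resolve_left fun e => ?_
    · rw [map_mul, hσσ]; exact (hwZ.2.2 _ hw'Z.1).eq
    · have e' : σ w = w := mul_right_cancel (e.trans hwZ.2.1.symm)
      exact (hZfix w hwZ e').elim hw1 hwz
  have hσw : σ w = z * w := by rw [← hww, mul_assoc, hwZ.2.1, mul_one]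
  have fixl : ∀ u ∈ V, ∃ c ∈ om (sy K z), u * σ u * c ∈ K ⊓ cen τ := by
    intro u hu
    have hcc := hB.com u hu _ (hVW u hu)
    have huS : u * σ u ∈ sy K z := mul_mem (hVS hu) (hWS (hVW u hu))
    have e : σ (u * σ u * u⁻¹ * (σ u)⁻¹) = u * σ u * u⁻¹ * (σ u)⁻¹ := by
      rw [eq_inv_of_mul_eq_one_left hcc.2.1]
      conv_lhs => rw [← eq_inv_of_mul_eq_one_left hcc.2.1]
      simp only [map_mul, map_inv, hσσ]
      group
    rcases hZfix _ hcc e with e1 | e1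
    · refine ⟨1, one_mem _, (sy_le z (mul_mem huS (one_mem _))).1, DT.mem_cen.2 (hfix _ ?_)⟩
      rw [mul_one, map_mul, hσσ]
      exact (commutatorElement_eq_one_iff_commute.1 e1).eq.symm
    · refine ⟨w, hwZ, (sy_le z (mul_mem huS hwZ.1)).1, DT.mem_cen.2 (hfix _ ?_)⟩
      have e2 : u * σ u = z * (σ u * u) := by rw [← e1]; group
      rw [map_mul, map_mul, hσσ, hσw, e2, ← mul_assoc,
        ← (hzZ.2.2 _ (mul_mem (hWS (hVW u hu)) (hVS hu))).eq]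
  have hv2 := hWV x2 hx2
  obtain ⟨c, hc, hca⟩ := fixl v hv
  obtain ⟨d, hd, hdb⟩ := fixl _ hv2
  refine ⟨_, hca, _, hdb, ?_⟩
  rw [← hww, hσσ]
  refine I8aAux.calc2 (I8aAux.calc1 (hB.elV.2 _ hv _ hv2) (hB.elW.2 _ (hVW v hv) _ hx2) ?_ ?_
    (hw'Z.2.2 _ (hVS hv)).symm (hwZ.2.2 _ (hVS hv2)).symm)
    (hc.2.2 _ (mul_mem (hVS hv2) (hWS hx2))) (hd.2.2 _ (mul_mem (hVS hv) (hWS (hVW v hv))))
    (hc.2.2 _ hd.1)
  · rw [hw]; group
  · rw [hw]; simp only [map_mul, map_inv]; group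

end Cfsg.Agent.RY
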