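import Cfsg.Agent.RY.Lift
import Cfsg.Agent.S0199
import Cfsg.Agent.S0205
import Cfsg.Agent.H42.ZStar

set_option autoImplicit false
set_option linter.unusedSectionVars false

namespace Cfsg.Agent.RY

open Cfsg.Agent.DT (cm nor cen cj)

universe u
variable {G : Type u} [Group G] [Finite G] {E K : Subgroup G}

namespace K0Aux

open Subgroup DT

theorem pg {x : G} {k : ℕ} (hk : x ^ 2 ^ k = 1) : IsPGroup 2 (zpowers x) := fun g =>
  ⟨k, Subtype.ext (by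
    obtain ⟨n, hn⟩ := mem_zpowers_iff.1 g.2
    rw [Subgroup.coe_pow, ← hn, ← zpow_natCast, ← zpow_mul, mul_comm, zpow_mul, zpow_natCast, hk,
      one_zpow]
    rfl)⟩

theorem p1 {x : G} (h : orderOf x = 2) : x ^ 2 ^ 1 = 1 := by
  rw [pow_one, ← h, pow_orderOf_eq_one]

theorem fix_inv {C : Subgroup G} {t σ : G} {k : ℕ} (ht : t ∈ nor C) (ht2 : t ^ 2 ^ k = 1)
    (hσ : σ ∈ C) (o : orderOf σ = 2) : ∃ τ ∈ C, orderOf τ = 2 ∧ Commute t τ := by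
  haveI : Fact (Nat.Prime 2) := ⟨Nat.prime_two⟩
  obtain ⟨H, hH⟩ : ∃ H : Subgroup G, H = C ⊔ zpowers t := ⟨_, rfl⟩
  have hn : H ≤ nor C := hH ▸ sup_le le_normalizer (zpowers_le.2 ht)
  have tH : t ∈ H := hH ▸ mem_sup_right (mem_zpowers t)
  have σH : σ ∈ H := hH ▸ mem_sup_left hσ
  obtain ⟨P, hP⟩ := (pg (x := (⟨t, tH⟩ : H)) (k := k) (Subtype.ext ht2)).exists_le_sylow
  obtain ⟨P2, hP2⟩ := (pg (x := (⟨σ, σH⟩ : H)) (k := 1) (Subtype.ext (p1 o))).exists_le_sylow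
  obtain ⟨g, hg⟩ := MulAction.exists_smul_eq H P2 P
  have m : g * ⟨σ, σH⟩ * g⁻¹ ∈ (P : Subgroup H) := by
    rw [← hg, Sylow.coe_subgroup_smul]
    exact smul_mem_pointwise_smul _ (MulAut.conj g) _ (hP2 (mem_zpowers _))
  have hD : IsPGroup 2 ((P : Subgroup H).map H.subtype ⊓ C : Subgroup G) :=
    (P.2.map _).to_inf_left
  have nb : ∀ A : Subgroup G, A ≤ nor ⊥ := fun A => le_top.trans (normalizer_eq_top _).ge
  obtain ⟨v, hv, v1, hc⟩ := fix_coset Nat.prime_two (pg ht2) hD bot_le (fun e => by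
      have : (g : G) * σ * (g : G)⁻¹ ∈ (⊥ : Subgroup G) :=
        e.ge ⟨⟨_, m, rfl⟩, (mem_nor.1 (hn g.2) σ).1 hσ⟩
      have : σ = 1 := by simpa using this
      simp [this] at o) (nb _)
    (zpowers_le.2 (nor_inf_le_nor_inf _ _ ⟨le_normalizer ⟨_, hP (mem_zpowers _), rfl⟩, ht⟩)) (nb _)
  have c : Commute t v := by
    have := mem_bot.1 (hc t (mem_zpowers t))
    rw [mul_inv_eq_one, mul_inv_eq_iff_eq_mul] at this
    exact this.symm
  obtain ⟨j, hj⟩ := IsPGroup.iff_orderOf.1 hD ⟨v, hv⟩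
  rw [← orderOf_coe] at hj
  replace hj : orderOf v = 2 ^ j := hj
  have d : 2 ∣ orderOf v := by
    rw [hj]
    exact dvd_pow_self 2 fun e => v1 (mem_bot.2 (orderOf_eq_one_iff.1 (by rw [hj, e, pow_zero])))
  exact ⟨_, pow_mem hv.2 _, orderOf_pow_orderOf_div (orderOf_pos v).ne' d, c.pow_right _⟩

theorem iv_nor {t y : G} (ht : Iv t y) : t ∈ nor (cen y) :=
  mem_normalizer_fintype fun a ha => mem_cen.2 (by
    have : Commute (t * a * t⁻¹) (t * y * t⁻¹) := (mem_cen.1 ha).map (MulAut.conj t)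
    rw [show t * y * t⁻¹ = y⁻¹ from ht] at this
    exact Commute.inv_right_iff.1 this)

theorem nsolv (h : AS K) : ¬ Group.IsSolvable K := fun s =>
  haveI := h.simple
  h.nab ⟨⟨IsSimpleGroup.comm_iff_isSolvable.2 s⟩⟩

theorem inv [IsSimpleGroup G] (ns : ¬ Group.IsSolvable G) {t : G} (o : orderOf t = 2) :
    ∃ y : G, y ≠ 1 ∧ Odd (orderOf y) ∧ t * y * t⁻¹ = y⁻¹ := by
  haveI : Fact (Nat.Prime 2) := ⟨Nat.prime_two⟩
  by_contra! k
  have tt : t * t = 1 := by rw [← pow_two, ← o, pow_orderOf_eq_one]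
  have ti : t⁻¹ = t := inv_eq_of_mul_eq_one_right tt
  obtain ⟨N, hN, h2, le⟩ := S0199.result (p := 2) (zpowers t) (pg (p1 o)) fun g => by
    obtain ⟨w, hw⟩ : ∃ w, w = t * (g * t * g⁻¹) := ⟨_, rfl⟩
    have iw : t * w * t⁻¹ = w⁻¹ := by
      rw [hw, ← mul_assoc t t, tt, one_mul, mul_inv_rev, conj_inv, ti]
    obtain ⟨a, m, hm, e⟩ := Nat.exists_eq_two_pow_mul_odd (orderOf_pos w).ne'
    have w1 : w ^ 2 ^ a = 1 := by
      by_contra w1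
      refine k _ w1 ?_ (by rw [← conj_pow, iw, inv_pow])
      rw [orderOf_pow_of_dvd (by positivity) ⟨m, e⟩, e, Nat.mul_div_cancel_left _ (by positivity)]
      exact hm
    refine (sup_pgroup (pg (p1 o)) (pg w1) (zpowers_le.2 (mem_normalizer_fintype fun b hb => ?_))).to_le
      (sup_le le_sup_left ?_)
    · obtain ⟨n, rfl⟩ := mem_zpowers_iff.1 hb
      rw [← conj_zpow, iw]
      exact zpow_mem (inv_mem (mem_zpowers w)) n
    · rw [MonoidHom.map_zpowers, zpowers_le]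
      have := mul_mem (inv_mem (mem_sup_left (T := zpowers w) (mem_zpowers t)))
        (mem_sup_right (S := zpowers t) (mem_zpowers w))
      rw [hw, inv_mul_cancel_left, ← hw] at this
      exact this
  rcases hN.eq_bot_or_eq_top with e | e
  · have : t = 1 := mem_bot.1 (e.le (le (mem_zpowers t)))
    simp [this] at o
  · rw [e] at h2
    haveI := (h2.of_equiv topEquiv).isNilpotent
    exact ns inferInstance

theorem mx {t a : G} {k : ℕ} (ha : a ∈ K ⊓ cen t) (hk : a ^ 2 ^ k = 1) :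
    ∃ P : Subgroup G, a ∈ P ∧ IsPGroup 2 P ∧ P ≤ K ⊓ cen t ∧
      ∀ P' : Subgroup G, IsPGroup 2 P' → P' ≤ K ⊓ cen t → P ≤ P' → P' = P := by
  obtain ⟨P, le, hP⟩ := Finite.exists_le_maximal
    (p := fun P : Subgroup G => IsPGroup 2 P ∧ P ≤ K ⊓ cen t) ⟨pg hk, zpowers_le.2 ha⟩
  exact ⟨P, le (mem_zpowers a), hP.1.1, hP.1.2, fun P' h1 h2 h3 => le_antisymm (hP.2 ⟨h1, h2⟩ h3) h3⟩

end K0Aux

theorem AS.tau (h : AS K) {y t : G} {k : ℕ} (hy : y ∈ K) (hy1 : y ≠ 1) (ho : Odd (orderOf y)) (ht : Iv t y)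
    (ht2 : t ^ 2 ^ k = 1) : ∃ τ : G, orderOf τ = 2 ∧ Commute y τ ∧ Commute t τ := by
  obtain ⟨σ, o, c⟩ := h.d y hy hy1 ho t ht
  obtain ⟨τ, h1, h2, h3⟩ := K0Aux.fix_inv (K0Aux.iv_nor ht) ht2 (DT.mem_cen.2 c.symm) o
  exact ⟨τ, h2, (DT.mem_cen.1 h1).symm, h3⟩

theorem AS.tauK (h : AS K) {y t σ : G} {k : ℕ} (ht : Iv t y) (ht2 : t ^ 2 ^ k = 1) (hσ : σ ∈ K) (hσ2 : orderOf σ = 2)
    (hc : Commute y σ) : ∃ τ ∈ K, orderOf τ = 2 ∧ Commute y τ ∧ Commute t τ := by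
  haveI := h.nm
  obtain ⟨τ, h1, h2, h3⟩ := K0Aux.fix_inv (C := K ⊓ cen y) (DT.nor_inf_le_nor_inf _ _
    ⟨(Subgroup.normalizer_eq_top K).ge (Subgroup.mem_top t), K0Aux.iv_nor ht⟩) ht2
    ⟨hσ, DT.mem_cen.2 hc.symm⟩ hσ2
  exact ⟨τ, h1.1, h2, (DT.mem_cen.1 h1.2).symm, h3⟩

theorem AS.exists_inv (h : AS K) {t : G} (ht : t ∈ K) (ht2 : orderOf t = 2) :
    ∃ y ∈ K, y ≠ 1 ∧ Odd (orderOf y) ∧ Iv t y := by
  haveI := h.simple
  obtain ⟨y, y1, o, e⟩ := K0Aux.inv (K0Aux.nsolv h) (t := (⟨t, ht⟩ : K))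
    (by rw [← ht2, ← Subgroup.orderOf_coe])
  exact ⟨y, y.2, fun k => y1 (Subtype.ext k), by rwa [Subgroup.orderOf_coe], congrArg Subtype.val e⟩

theorem AS.exists_invol (h : AS K) : ∃ t ∈ K, orderOf t = 2 := by
  haveI : Fact (Nat.Prime 2) := ⟨Nat.prime_two⟩
  obtain ⟨t, o⟩ := exists_prime_orderOf_dvd_card' (G := K) 2 (even_iff_two_dvd.1
    (Nat.not_odd_iff_even.1 fun k => K0Aux.nsolv h (S0205.result k)))
  exact ⟨t, t.2, by rwa [Subgroup.orderOf_coe]⟩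

theorem AS.not_isolated (h : AS K) {t : G} (ht : t ∈ K) (ht2 : orderOf t = 2) :
    ∃ g ∈ K, Commute t (g * t * g⁻¹) ∧ g * t * g⁻¹ ≠ t := by
  haveI := h.simple
  by_contra! k
  have o : orderOf (⟨t, ht⟩ : K) = 2 := by rw [← ht2, ← Subgroup.orderOf_coe]
  obtain ⟨N, hN, odd, m⟩ := H42.zstar (z := (⟨t, ht⟩ : K)) ⟨o, fun g hc => by
    have hc' : t * (g * t * (g : G)⁻¹) = (g * t * (g : G)⁻¹) * t := congrArg Subtype.val hc
    exact Subtype.ext (k g g.2 hc')⟩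
  rcases hN.eq_bot_or_eq_top with e | e
  · have : t ∈ ceS K := Subgroup.mem_centralizer_iff.2 fun g hg => by
      have k' := m ⟨g, hg⟩
      rw [e, Subgroup.mem_bot] at k'
      have : t * g * t⁻¹ * g⁻¹ = 1 := congrArg Subtype.val k'
      rw [mul_inv_eq_one, mul_inv_eq_iff_eq_mul] at this
      exact this.symm
    rw [h.faith, Subgroup.mem_bot] at this
    simp [this] at ht2
  · have := N.orderOf_dvd_natCard (e.ge (Subgroup.mem_top (⟨t, ht⟩ : K)))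
    rw [o] at this
    exact Nat.not_even_iff_odd.2 odd (even_iff_two_dvd.2 this)

theorem AS.no_star (h : AS K) {t : G} (ht : t ∈ K) (ht2 : orderOf t = 2)
    (hs : ∀ P : Subgroup G, IsPGroup 2 P → P ≤ K ⊓ cen t →
      (∀ P' : Subgroup G, IsPGroup 2 P' → P' ≤ K ⊓ cen t → P ≤ P' → P' = P) → Star P t) : False := by
  obtain ⟨g, hg, c, ne⟩ := h.not_isolated ht ht2
  have ou : orderOf (g * t * g⁻¹) = 2 := by
    rw [← ht2]; exact (MulAut.conj g).orderOf_eq t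
  obtain ⟨P, uP, p2, le, mx⟩ := K0Aux.mx (K := K) (t := t)
    ⟨K.mul_mem (K.mul_mem hg ht) (K.inv_mem hg), DT.mem_cen.2 c.symm⟩ (K0Aux.p1 ou)
  obtain ⟨s1, s2⟩ := hs P p2 le mx
  obtain ⟨a, ha, o4, ca⟩ := s2 _ uP ou
  have ob : orderOf (g⁻¹ * a * g⁻¹⁻¹) = 4 := by
    rw [← o4]; exact (MulAut.conj g⁻¹).orderOf_eq a
  have cb : Commute (g⁻¹ * a * g⁻¹⁻¹) t := by
    have : Commute (g⁻¹ * a * g⁻¹⁻¹) (g⁻¹ * (g * t * g⁻¹) * g⁻¹⁻¹) := ca.map (MulAut.conj g⁻¹)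
    rwa [show g⁻¹ * (g * t * g⁻¹) * g⁻¹⁻¹ = t by group] at this
  obtain ⟨P', bP, p2', le', mx'⟩ := K0Aux.mx (K := K) (t := t) (k := 2)
    ⟨K.mul_mem (K.mul_mem (K.inv_mem hg) (le ha).1) (K.inv_mem (K.inv_mem hg)), DT.mem_cen.2 cb⟩
    (by rw [show 2 ^ 2 = 4 from rfl, ← ob, pow_orderOf_eq_one])
  have e := (hs P' p2' le' mx').1 _ bP ob
  rw [conj_mul, s1 a ha o4] at e
  refine ne ?_
  conv_lhs => rw [← e]
  group

end Cfsg.Agent.RY
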