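import Cfsg.Agent.RY.J1
import Cfsg.Agent.RY.J2
import Cfsg.Agent.RY.K0
import Cfsg.Agent.RY.Fin
import Cfsg.Agent.RC.Rk1

set_option autoImplicit false
set_option linter.unusedSectionVars false

namespace Cfsg.Agent.RY

open Cfsg.Agent.DT (cm nor cen cj)

universe u
variable {G : Type u} [Group G] [Finite G] {E K : Subgroup G}

namespace J3Aux

open Subgroup

theorem fam_equiv {S T : Type*} [Group S] [Group T] (e : S ≃* T) (h : Fam S) : Fam T := by
  obtain ⟨⟨B, hB, hi⟩, h2⟩ := h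
  refine ⟨⟨B.map e.toMonoidHom, inferInstance, ?_⟩, h2.imp (fun c => ⟨⟨fun a b => e.symm.injective ?_⟩⟩) fun c u hu v hv ou ov => ?_⟩
  · rwa [index_map_of_bijective (f := e.toMonoidHom) e.bijective]
  · rw [map_mul, map_mul]; exact c.1.1 _ _
  · have k : ∀ u ∈ center T, e.symm u ∈ center S := fun u hu => mem_center_iff.2 fun g => e.injective (by
      rw [map_mul, map_mul, e.apply_symm_apply]; exact mem_center_iff.1 hu _)
    exact e.symm.injective (c _ (k u hu) _ (k v hv) (by rwa [MulEquiv.orderOf_eq]) (by rwa [MulEquiv.orderOf_eq]))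

end J3Aux

open Subgroup in
theorem AS.nil (h : AS K) (hr : PRankLE 2 2 ↥K) (S : Sylow 2 ↥K) (hS : Fam ↥(S : Subgroup ↥K)) (t : ↥K)
    (ht : orderOf t = 2) : HasNormalPComplement 2 ↥(Subgroup.centralizer ({t} : Set ↥K)) := by
  have : Fact (Nat.Prime 2) := ⟨Nat.prime_two⟩
  have o2 : orderOf (t : G) = 2 := by rwa [orderOf_coe]
  have tt : (t : G) * t = 1 := by rw [← sq, ← o2, pow_orderOf_eq_one]
  have t1 : (t : G) ≠ 1 := fun e => by simp [e] at o2
  have hn := h.no_star t.2 o2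
  simp only [imp_false, not_forall] at hn
  obtain ⟨P, p2, hle, mx, ns⟩ := hn
  have cP : ∀ x ∈ P, Commute (t : G) x := fun x hx => (mem_centralizer_singleton_iff.1 (hle hx).2).symm
  have tP : (t : G) ∈ P := by
    have z2 : IsPGroup 2 (zpowers (t : G)) := IsPGroup.of_card (n := 1) (by rw [Nat.card_zpowers, o2]; rfl)
    have nr : zpowers (t : G) ≤ nor P :=
      zpowers_le.2 (centralizer_le_normalizer _ fun x hx => (cP x hx).symm.eq)
    exact (mx _ (DT.sup_pgroup z2 p2 nr) (sup_le (zpowers_le.2 ⟨t.2, mem_centralizer_singleton_iff.2 rfl⟩) hle)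
      le_sup_right).le (mem_sup_left (mem_zpowers _))
  obtain ⟨S', hS'⟩ := (p2.comap_subtype (K := K)).exists_le_sylow
  have pS : P ≤ (S' : Subgroup K).map K.subtype := fun x hx => ⟨⟨x, (hle hx).1⟩, hS' hx, rfl⟩
  have eP : (S' : Subgroup K).map K.subtype ⊓ cen (t : G) = P :=
    mx _ ((S'.isPGroup'.map _).to_inf_left) (inf_le_inf_right _ (map_subtype_le _)) (le_inf pS (hle.trans inf_le_right))
  have fm : Fam ↥((S' : Subgroup K).map K.subtype) :=
    J3Aux.fam_equiv ((S.equiv S').trans (equivMapOfInjective _ _ K.subtype_injective)) hS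
  obtain ⟨B, b1, b2, b3, b4⟩ := fam_cen fm (pS tP) o2
  rw [eP] at b1 b3 b4
  have rk : ∀ V : Subgroup G, El V → V ≤ P → Nat.card V ≤ 4 := fun V hV vP => by
    have vK : V ≤ K := vP.trans (hle.trans inf_le_left)
    have := hr (V.subgroupOf K) ⟨⟨fun a b => Subtype.ext (Subtype.ext (hV.2 _ a.2 _ b.2).eq)⟩⟩
      fun a ha => Subtype.ext (by rw [sq]; exact hV.1 _ ha)
    rwa [Nat.card_congr (subgroupOfEquivOfLe vK).toEquiv] at this
  obtain ⟨N, M, _, _, -, n1, n2, j, n3⟩ := h.closed o2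
  let Q : Sylow 2 ↥(K ⊓ cen (t : G)) := ⟨P.subgroupOf _, p2.comap_subtype, fun {U} hU hQ => by
    have e := mx (U.map (Subgroup.subtype _)) (hU.map _) (map_subtype_le _) fun x hx => ⟨⟨x, hle hx⟩, hQ hx, rfl⟩
    rw [← e]
    exact (comap_map_eq_self_of_injective (Subgroup.subtype_injective _) U).symm⟩
  have hH : HasNormalPComplement 2 ↥(K ⊓ cen (t : G)) := RC.Rk1.main Q N M n1 n2 n3 fun c hc ho x hx => by
    have e : c ∈ (nor P).subgroupOf (K ⊓ cen (t : G)) := by rwa [subgroupOf_normalizer_eq hle]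
    have := (fam_aut p2 rk b1 b2 b3 ⟨tP, tt, cP⟩ t1 b4 (x := (c : G)) e (by rwa [orderOf_coe])
      (mem_centralizer_singleton_iff.1 c.2.2)).resolve_right ns
    exact Subtype.ext (this x hx)
  refine H3.hasNormalPComplement_of_injective ((K.subtype.comp (Subgroup.centralizer ({t} : Set ↥K)).subtype).codRestrict
    (K ⊓ cen (t : G)) fun x =>
    ⟨x.1.2, mem_centralizer_singleton_iff.2 (congrArg Subtype.val (mem_centralizer_singleton_iff.1 x.2))⟩)
    (fun a b e => Subtype.ext (Subtype.ext (congrArg (Subtype.val : ↥(K ⊓ cen (t : G)) → G) e))) hH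

end Cfsg.Agent.RY
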