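import Cfsg.Agent.RY.K0
import Cfsg.Agent.S2119

set_option autoImplicit false
set_option linter.unusedSectionVars false

namespace Cfsg.Agent.RY

open Cfsg.Agent.DT (cm nor cen cj)

universe u
variable {G : Type u} [Group G] [Finite G] {E K : Subgroup G}

namespace L2Aux

open Equiv Equiv.Perm

theorem emb (h : AS K) {n : ℕ} (hn : 4 ≤ n) (h6 : n ≠ 6) (e : ↥K ≃* ↥(alternatingGroup (Fin n))) :
    ∃ ψ : G →* Perm (Fin n), Function.Injective ψ ∧ ∀ s ∈ alternatingGroup (Fin n), ∃ k ∈ K, ψ k = s := by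
  have := h.nm
  let ε := MulEquiv.ofBijective _ (S2119.result n hn h6)
  let φ : G →* MulAut ↥(alternatingGroup (Fin n)) := (MulAut.congr e).toMonoidHom.comp MulAut.conjNormal
  refine ⟨ε.symm.toMonoidHom.comp φ, ε.symm.injective.comp ((MulAut.congr e).injective.comp
    ((injective_iff_map_eq_one _).2 fun g hg => ?_)), fun s hs => ⟨e.symm ⟨s, hs⟩, (e.symm ⟨s, hs⟩).2, ?_⟩⟩
  · refine (Subgroup.mem_bot.1 (h.faith ▸ fun k hk => ?_))
    have := congrArg Subtype.val (DFunLike.congr_fun hg ⟨k, hk⟩)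
    exact (mul_inv_eq_iff_eq_mul.1 this).symm
  · refine ε.symm_apply_eq.2 (MulEquiv.ext fun x => ?_)
    change e (MulAut.conjNormal _ (e.symm x)) = MulAut.conjNormal s x
    rw [MulAut.conjNormal_val, MulAut.conj_apply, map_mul, map_mul, map_inv, e.apply_symm_apply,
      e.apply_symm_apply]
    rfl

theorem fix {X : Type} (a s : Perm X) (p : X) (h1 : s * s = 1) (h2 : Commute a s) (hp : a p ≠ p)
    (H : ∀ x, x = p ∨ a x = x ∨ ∃ i : Fin 5, x = (a ^ (i : ℕ)) p ∧ (a ^ (i : ℕ)) x ≠ p) (i : ℕ) :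
    s ((a ^ i) p) = (a ^ i) p := by
  have k : ∀ (i : ℕ) z, s ((a ^ i) z) = (a ^ i) (s z) := fun i z =>
    (DFunLike.congr_fun (h2.pow_left i).eq z).symm
  have k0 : s (s p) = p := DFunLike.congr_fun h1 p
  rcases H (s p) with e | e | ⟨j, e, e'⟩
  · rw [k, e]
  · exact absurd (s.injective ((DFunLike.congr_fun h2.eq p).symm.trans e)) hp
  · exact absurd (by rw [← k, ← e, k0]) e'

theorem main (h : AS K) {n : ℕ} (hn : 4 ≤ n) (h6 : n ≠ 6) (e : ↥K ≃* ↥(alternatingGroup (Fin n)))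
    (a b d : Perm (Fin n)) (p : Fin n) (H : sign a = 1 ∧ sign b = 1 ∧ sign d = 1 ∧ a ^ 5 = 1 ∧ a p ≠ p ∧
      b * a * b⁻¹ = a⁻¹ ∧ b ^ 2 ^ 1 = 1 ∧ (a * a * (d * a * d⁻¹)) ^ 2 = 1 ∧ a * a * (d * a * d⁻¹) ≠ 1 ∧
      (∀ x, x = p ∨ a x = x ∨ ∃ i : Fin 5, x = (a ^ (i : ℕ)) p ∧ (a ^ (i : ℕ)) x ≠ p) ∧
      ∀ x, d x = x ∨ ∃ i : Fin 5, x = (a ^ (i : ℕ)) p) : False := by
  obtain ⟨ha, hb, hd, h1, hp, h3, h4, h5, h7, h8, h9⟩ := H
  have h2 : a ≠ 1 := fun e => hp (by rw [e]; rfl)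
  obtain ⟨ψ, hψ, hs⟩ := emb h hn h6 e
  obtain ⟨y, hy, rfl⟩ := hs a ha
  obtain ⟨t, -, rfl⟩ := hs b hb
  obtain ⟨c, hc, rfl⟩ := hs d hd
  have : Fact (Nat.Prime 5) := ⟨by norm_num⟩
  have ho : Odd (orderOf y) := by
    rw [← orderOf_injective ψ hψ, orderOf_eq_prime h1 h2]; decide
  have ht : Iv t y := hψ (by simpa using h3)
  obtain ⟨τ, k1, k2, k3⟩ := h.tau (k := 1) hy (fun e => h2 (by rw [e, map_one])) ho ht (hψ (by simpa using h4))
  obtain ⟨L, -, l2, l3, l4⟩ := h.c τ k1 y hy k2 ho t k3 ht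
  have hcτ : Commute c τ := hψ (by
    rw [map_mul, map_mul]
    refine Disjoint.commute fun x => (h9 x).imp_right ?_
    rintro ⟨i, rfl⟩
    exact fix _ _ p (by rw [← map_mul, ← pow_two, ← k1, pow_orderOf_eq_one, map_one]) (k2.map ψ) hp h8 i)
  have hw := mul_mem (mul_mem l4 l4) ((DT.mem_nor.1 (l2 ⟨hc, DT.mem_cen.2 hcτ⟩) y).1 l4)
  have h9 := Subgroup.orderOf_dvd_natCard _ hw
  rw [← orderOf_injective ψ hψ, map_mul, map_mul, map_mul, map_mul, map_inv, orderOf_eq_prime h5 h7] at h9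
  exact l3.not_two_dvd_nat h9

end L2Aux

open Equiv in
theorem AS.not_a7 (h : AS K) (e : ↥K ≃* ↥(alternatingGroup (Fin 7))) : False :=
  L2Aux.main h (by norm_num) (by norm_num) e (swap 0 4 * swap 0 3 * swap 0 2 * swap 0 1)
    (swap 1 4 * swap 2 3) (swap 0 1 * swap 0 3) 0 (by decide +kernel)

open Equiv in
theorem AS.not_a5 (h : AS K) (e : ↥K ≃* ↥(alternatingGroup (Fin 5))) : False :=
  L2Aux.main h (by norm_num) (by norm_num) e (swap 0 4 * swap 0 3 * swap 0 2 * swap 0 1)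
    (swap 1 4 * swap 2 3) (swap 0 1 * swap 0 3) 0 (by decide +kernel)

end Cfsg.Agent.RY
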