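import Cfsg.Agent.RY.Defs
import Cfsg.Statements.S3214
import Cfsg.Agent.S0252
import Cfsg.Agent.H20.SzPi

set_option autoImplicit false
set_option linter.unusedSectionVars false

namespace Cfsg.Agent.RY

open Cfsg.Agent.DT (cm nor cen cj)

universe u
variable {G : Type u} [Group G] [Finite G] {E K : Subgroup G}

namespace L3Aux

open Matrix

theorem card_le {A X : Type*} [AddCommGroup A] [Group X] (h2 : ∀ a : A, a + a = 0)
    (ψ : Multiplicative A →* X) (hψ : Function.Injective ψ) (h : PRankLE 2 2 X) : Nat.card A ≤ 4 := by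
  have := h ψ.range ⟨⟨fun a b => Subtype.ext (by
    obtain ⟨_, x, rfl⟩ := a
    obtain ⟨_, y, rfl⟩ := b
    change ψ x * ψ y = ψ y * ψ x
    rw [← map_mul, ← map_mul, mul_comm])⟩⟩ (by
    rintro _ ⟨x, rfl⟩
    rw [← map_pow, sq, show x * x = 1 from h2 x.toAdd, map_one])
  rw [← Nat.card_congr (MonoidHom.ofInjective hψ).toEquiv] at this
  exact this

/-- the matrices of a point radical -/
def rad {F : Type} [Field F] (a b : F) : SpecialLinearGroup (Fin 3) F :=
  ⟨!![1, a, b; 0, 1, 0; 0, 0, 1], by simp [det_fin_three]⟩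

theorem rad_mul {F : Type} [Field F] (a b c d : F) : rad (a + c) (b + d) = rad a b * rad c d := by
  apply Subtype.ext
  change (!![1, a + c, b + d; 0, 1, 0; 0, 0, 1] : Matrix (Fin 3) (Fin 3) F) =
    !![1, a, b; 0, 1, 0; 0, 0, 1] * !![1, c, d; 0, 1, 0; 0, 0, 1]
  ext i j
  fin_cases i <;> fin_cases j <;> simp [Matrix.mul_apply, Fin.sum_univ_three, add_comm]

end L3Aux

theorem rk_psl2 {F : Type} [Field F] [Fintype F] (h2 : (2 : F) = 0) (h3 : 3 < Fintype.card F) :
    ¬ PRankLE 2 2 (Matrix.ProjectiveSpecialLinearGroup (Fin 2) F) ∨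
      Nonempty (Matrix.ProjectiveSpecialLinearGroup (Fin 2) F ≃* ↥(alternatingGroup (Fin 5))) := by
  by_cases h4 : Fintype.card F = 4
  · exact .inr (S0252.result h4)
  refine .inl fun h => ?_
  have := L3Aux.card_le (A := F) (fun a => by rw [← two_mul, h2, zero_mul])
    ((QuotientGroup.mk' (Subgroup.center (Matrix.SpecialLinearGroup (Fin 2) F))).comp (MonoidHom.mk'
    (fun c => Matrix.SpecialLinearGroup.transvection (zero_ne_one' (Fin 2)) c.toAdd)
      fun a b => Matrix.SpecialLinearGroup.transvection_add _ _ _)) (by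
    rw [injective_iff_map_eq_one]
    intro c hc
    exact (Matrix.SpecialLinearGroup.transvection_mem_center_iff (zero_ne_one' (Fin 2)) c.toAdd).1
      ((QuotientGroup.eq_one_iff _).1 hc)) h
  rw [Nat.card_eq_fintype_card] at this
  omega

theorem rk_psl3 {F : Type} [Field F] [Fintype F] (h4 : Fintype.card F = 4) :
    ¬ PRankLE 2 2 (Matrix.ProjectiveSpecialLinearGroup (Fin 3) F) := fun h => by
  have h2 : (2 : F) = 0 := by
    have e := FiniteField.cast_card_eq_zero F
    rw [h4] at e
    have : (2 : F) * 2 = 0 := by rw [← e]; norm_num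
    exact mul_self_eq_zero.1 this
  have := L3Aux.card_le (A := F × F) (fun a => by
      ext <;> simp [← two_mul, h2])
    ((QuotientGroup.mk' (Subgroup.center (Matrix.SpecialLinearGroup (Fin 3) F))).comp (MonoidHom.mk'
    (fun c => L3Aux.rad c.toAdd.1 c.toAdd.2) fun a b => L3Aux.rad_mul _ _ _ _)) (by
    rw [injective_iff_map_eq_one]
    intro c hc
    obtain ⟨r, -, hr⟩ := Matrix.SpecialLinearGroup.mem_center_iff.1 ((QuotientGroup.eq_one_iff _).1 hc)
    have e1 := congrFun (congrFun hr 0) 1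
    have e2 := congrFun (congrFun hr 0) 2
    simp [L3Aux.rad] at e1 e2
    exact Prod.ext e1.symm e2.symm) h
  rw [Nat.card_prod, Nat.card_eq_fintype_card, h4] at this
  omega

theorem rk_congr {H : Type*} [Group H] (e : G ≃* H) (h : PRankLE 2 2 G) : PRankLE 2 2 H := fun A h1 h2 => by
  have := h (A.map e.symm.toMonoidHom) (by
    have := h1
    infer_instance) (by
    rintro _ ⟨a, ha, rfl⟩
    rw [← map_pow, h2 a ha, map_one])
  rwa [Subgroup.card_map_of_injective e.symm.injective] at this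

open H13 in
theorem rk_sz (h : Cfsg.Lie.IsoSuzuki G) : ¬ PRankLE 2 2 G := fun hr => by
  obtain ⟨F, _, _, m, hm, hF, ⟨e⟩⟩ := h
  letI := titsOfCard hF
  have := charP_of_card hF
  set M := lieModel (titsOfCard_θ hF)
  have k := L3Aux.card_le (A := F) (fun a => CharTwo.add_self_eq_zero a)
    (MonoidHom.mk' (fun c => M.u 0 c.toAdd) fun a b => by simp [M.u_mul_u])
    (fun a b hab => (M.u_inj.1 hab).2) (rk_congr e hr)
  rw [Nat.card_eq_fintype_card, hF] at k
  have : 2 ^ 3 ≤ 2 ^ (2 * m + 1) := Nat.pow_le_pow_right (by norm_num) (by omega)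
  omega

end Cfsg.Agent.RY
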