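import Cfsg.Agent.RY.Lift
import Cfsg.Agent.H44.Components
import Cfsg.Agent.S0205
import Cfsg.Agent.S3861

set_option autoImplicit false
set_option linter.unusedSectionVars false

namespace Cfsg.Agent.RY

open Cfsg.Agent.DT (cm nor cen cj)

universe u
variable {G : Type u} [Group G] [Finite G] {E K : Subgroup G}

namespace R3bAux

open Cfsg.Agent.H44

theorem psolv {U : Subgroup G} (hU : IsPGroup 2 U) : Group.IsSolvable U := by
  haveI : Fact (Nat.Prime 2) := ⟨Nat.prime_two⟩
  haveI := hU.isNilpotent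
  infer_instance

theorem not_normal (hK : QS K) (P : Sylow 2 K) : ¬ (P : Subgroup K).Normal := by
  intro hn
  haveI : Fact (Nat.Prime 2) := ⟨Nat.prime_two⟩
  haveI : Group.IsSolvable (P : Subgroup K) := psolv P.isPGroup'
  have hodd : Odd (Nat.card (K ⧸ (P : Subgroup K))) := by
    have h1 := P.not_dvd_index
    rw [← Nat.not_even_iff_odd, even_iff_two_dvd]
    exact h1
  haveI : Group.IsSolvable (K ⧸ (P : Subgroup K)) := S0205.result hodd
  exact hK.not_solvable
    (Group.isSolvable_of_ker_le_range (P : Subgroup K).subtype (QuotientGroup.mk' (P : Subgroup K))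
      (by rw [QuotientGroup.ker_mk', Subgroup.range_subtype]))

theorem real (hK : QS K) : ∃ k ∈ K, k ≠ 1 ∧ Odd (orderOf k) ∧ ∃ t ∈ K, Iv t k := by
  haveI : Fact (Nat.Prime 2) := ⟨Nat.prime_two⟩
  obtain ⟨P⟩ : Nonempty (Sylow 2 K) := inferInstance
  have h1 := not_normal hK P
  rw [← S3861.result P] at h1
  push Not at h1
  obtain ⟨x, hx1, hxo, hc⟩ := h1
  obtain ⟨t, ht⟩ := isConj_iff.1 hc
  refine ⟨x, x.2, fun e => hx1 (Subtype.ext e), by rwa [Subgroup.orderOf_coe], t, t.2, ?_⟩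
  exact congrArg Subtype.val ht

theorem le_ce (h : Loc E) (hK : Comp ⊤ K) : K ≤ ceS E := by
  haveI := h.nm
  exact Subgroup.commutator_eq_bot_iff_le_centralizer.1
    (hK.commutator_eq_bot_of_solvable le_top
      (by rw [Subgroup.normalizer_eq_top]; exact le_top) (psolv h.two))

theorem syl (h : Loc E) (hK : Comp ⊤ K) (U : Subgroup G) (hU : IsPGroup 2 U) (hUK : U ≤ ceS K) :
    U ≤ E := by
  haveI := h.nm
  haveI : Fact (Nat.Prime 2) := ⟨Nat.prime_two⟩
  by_contra hn
  have hE : E ≤ ceS K := Subgroup.le_centralizer_iff.1 (le_ce h hK)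
  have hp : IsPGroup 2 (U ⊔ E : Subgroup G) := hU.to_sup_of_normal_right h.two
  have hlt : E < U ⊔ E := lt_of_le_of_ne le_sup_right fun e => hn (e ▸ le_sup_left)
  have hKc : K ≤ ceS (U ⊔ E) := Subgroup.le_centralizer_iff.1 (sup_le hUK hE)
  obtain ⟨k, hk, hk1, hko, t, ht, hi⟩ := real hK.qs
  obtain ⟨L, -, hLn, hLo, hkL⟩ := h.good _ hp hlt k (hKc hk) hko t
    (Subgroup.centralizer_le_normalizer _ (hKc ht)) hi
  have hn1 : K ≤ Subgroup.normalizer ((L ⊓ K : Subgroup G) : Set G) :=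
    le_trans (le_inf (hKc.trans hLn) Subgroup.le_normalizer) Subgroup.inf_normalizer_le_normalizer_inf
  rcases hK.qs.normal _ inf_le_right hn1 with e | e
  · exact hK.qs.not_le_solvable (S0205.result hLo) (e ▸ inf_le_left)
  · have h2 : t * k = k * t := e ⟨hkL, hk⟩ t ht
    have h3 : k = k⁻¹ := by
      rw [← hi, h2, mul_inv_cancel_right]
    have h4 : k ^ 2 = 1 := by
      rw [pow_two]; nth_rewrite 2 [h3]; exact mul_inv_cancel k
    have h5 := orderOf_dvd_of_pow_eq_one h4
    rcases (Nat.dvd_prime Nat.prime_two).1 h5 with e1 | e1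
    · exact hk1 (orderOf_eq_one_iff.1 e1)
    · rw [e1] at hko
      exact absurd hko (by decide)

theorem nm (h : Loc E) (hK : Comp ⊤ K) : K.Normal := by
  haveI : Fact (Nat.Prime 2) := ⟨Nat.prime_two⟩
  have key : ∀ g : G, cj g K = K := by
    intro g
    by_contra hne
    have hK' : Comp ⊤ (cj g K) := hK.conj (by rw [Subgroup.normalizer_eq_top]; trivial)
    have hc : cj g K ≤ ceS K :=
      Subgroup.commutator_eq_bot_iff_le_centralizer.1 (hK'.commutator_eq_bot_of_ne hK hne)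
    obtain ⟨P⟩ : Nonempty (Sylow 2 (cj g K)) := inferInstance
    have h1 : (P : Subgroup (cj g K)).map (cj g K).subtype ≤ E :=
      syl h hK _ (P.isPGroup'.map _) ((Subgroup.map_subtype_le _).trans hc)
    have h2 : E ≤ ceS (cj g K) := Subgroup.le_centralizer_iff.1 (le_ce h hK')
    refine not_normal hK'.qs P ⟨fun a ha b => ?_⟩
    have h3 : (b : G) * a = a * b := h2 (h1 ⟨a, ha, rfl⟩) b b.2
    have h4 : b * a * b⁻¹ = a := by
      apply Subtype.ext
      show (b : G) * a * (b : G)⁻¹ = a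
      rw [h3, mul_inv_cancel_right]
    rwa [h4]
  refine ⟨fun a ha g => ?_⟩
  rw [← key g]
  exact ⟨a, ha, rfl⟩

end R3bAux

theorem Loc.cmp (h : Loc E) (hK : IsComponent K) : Cmp E K :=
  have hK' := H44.comp_top_iff.2 hK
  ⟨R3bAux.nm h hK', hK.2, R3bAux.le_ce h hK', R3bAux.syl h hK'⟩

end Cfsg.Agent.RY
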