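import Cfsg.Agent.RY.I4b
import Cfsg.Agent.S0016
import Cfsg.Agent.S3742
import Cfsg.Agent.H24.FpfPerfect

set_option autoImplicit false
set_option linter.unusedSectionVars false

namespace Cfsg.Agent.RY

open Cfsg.Agent.DT (cm nor cen cj)

universe u
variable {G : Type u} [Group G] [Finite G] {E K : Subgroup G}

namespace U2Aux

theorem one_of {H : Type*} [Group H] {a : H} {n : ℕ} (h5 : a ^ 5 = 1) (hn : a ^ n = 1) (hc : Nat.Coprime 5 n) :
    a = 1 := by
  have h : a ^ Nat.gcd 5 n = 1 := pow_gcd_eq_one.2 ⟨h5, hn⟩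
  rwa [hc, pow_one] at h

theorem aut5 {X : Type*} [Group X] [Finite X] (hX : IsPGroup 2 X)
    (hu : ∀ H K : Subgroup X, Nat.card H = 2 → Nat.card K = 2 → H = K) (α : MulAut X) (h5 : α ^ 5 = 1) : α = 1 := by
  rcases Cfsg.Agent.S0016.result 2 hX hu with h | ⟨-, n, ⟨e⟩⟩
  · obtain ⟨k, hk⟩ := IsPGroup.iff_card.1 hX
    have h1 : Nat.card (MulAut X) = 2 ^ (k - 1) := by
      rw [IsCyclic.card_mulAut, hk]
      rcases k with _ | k
      · simp
      · rw [Nat.totient_prime_pow_succ Nat.prime_two]; simp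
    exact one_of h5 (h1 ▸ pow_card_eq_one') (Nat.Coprime.pow_right _ (by norm_num))
  have h6 : (MulAut.congr e α) ^ 5 = 1 := by rw [← map_pow, h5, map_one]
  refine (MulAut.congr e).injective ?_
  rw [map_one]
  generalize MulAut.congr e α = β at h6
  rcases n with _ | _ | n
  · suffices hs : MulAut.toPerm _ β = 1 from MulEquiv.ext fun y => congrArg (fun f : Equiv.Perm _ => f y) hs
    have h1 : Nat.card (Equiv.Perm (QuaternionGroup (2 ^ 0))) = 24 := by
      rw [Nat.card_perm, Nat.card_eq_fintype_card, QuaternionGroup.card]; rfl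
    exact one_of (by rw [← map_pow, h6, map_one]) (h1 ▸ pow_card_eq_one') (by norm_num)
  · obtain ⟨e'⟩ := Cfsg.Agent.S3742.result
    have h1 : Nat.card (MulAut (QuaternionGroup (2 ^ (0 + 1)))) = 24 := by
      have : Nat.card (MulAut (QuaternionGroup 2)) = 24 := by
        rw [Nat.card_congr e'.toEquiv, Nat.card_perm, Nat.card_eq_fintype_card, Fintype.card_fin]; rfl
      exact this
    exact one_of h6 (h1 ▸ pow_card_eq_one') (by norm_num)
  · exact H24.mulAut_quaternion_eq_one β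
      (Nat.Coprime.coprime_dvd_left (orderOf_dvd_of_pow_eq_one h6) (by norm_num))

/-- conjugation action on an invariant set -/
@[reducible] def act (A : Subgroup G) (T : Set G) (h : ∀ a ∈ A, ∀ u ∈ T, a * u * a⁻¹ ∈ T) : MulAction A T where
  smul a u := ⟨a * u * (a : G)⁻¹, h a a.2 u u.2⟩
  one_smul u := Subtype.ext (by change ((1 : A) : G) * u * ((1 : A) : G)⁻¹ = u; simp)
  mul_smul a b u := Subtype.ext (by
    change ((a * b : A) : G) * u * ((a * b : A) : G)⁻¹ = a * (b * u * (b : G)⁻¹) * (a : G)⁻¹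
    simp [mul_assoc])

theorem free (A : Subgroup G) (T : Set G) (h : ∀ a ∈ A, ∀ u ∈ T, a * u * a⁻¹ ∈ T)
    (hf : ∀ a ∈ A, ∀ u ∈ T, a * u * a⁻¹ = u → a = 1) : Nat.card A ∣ T.ncard := by
  let _ := act A T h
  have e := MulAction.selfEquivOrbitsQuotientProd (G := A) (X := T) fun u => by
    rw [eq_bot_iff]
    intro a ha
    exact Subtype.ext (hf a a.2 u u.2 (congrArg Subtype.val (MulAction.mem_stabilizer_iff.1 ha)))
  rw [← Nat.card_coe_set_eq, Nat.card_congr e, Nat.card_prod]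
  exact Dvd.intro_left _ rfl

/-- the class of `z` under `K` -/
def Ob (K : Subgroup G) (z : G) : Set G := {u | ∃ g ∈ K, g * z * g⁻¹ = u}

theorem ob_conj {z a u : G} (ha : a ∈ K) (hu : u ∈ Ob K z) : a * u * a⁻¹ ∈ Ob K z := by
  obtain ⟨g, hg, rfl⟩ := hu
  exact ⟨a * g, K.mul_mem ha hg, by group⟩

theorem card_ob (z : G) : (Ob K z).ncard * Nat.card (K ⊓ cen z : Subgroup G) = Nat.card K := by
  let _ := act K (Ob K z) fun a ha u hu => ob_conj ha hu
  let z0 : Ob K z := ⟨z, 1, K.one_mem, by simp⟩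
  have : MulAction.IsPretransitive K (Ob K z) := ⟨by
    rintro ⟨_, g, hg, rfl⟩ ⟨_, g', hg', rfl⟩
    refine ⟨⟨g' * g⁻¹, K.mul_mem hg' (K.inv_mem hg)⟩, Subtype.ext ?_⟩
    change g' * g⁻¹ * (g * z * g⁻¹) * (g' * g⁻¹)⁻¹ = g' * z * g'⁻¹
    group⟩
  have h1 := MulAction.index_stabilizer_of_transitive K z0
  have h2 : MulAction.stabilizer K z0 = (K ⊓ cen z).subgroupOf K := by
    ext a
    rw [MulAction.mem_stabilizer_iff, Subgroup.mem_subgroupOf, Subgroup.mem_inf, DT.mem_cen, Subtype.ext_iff]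
    change (a : G) * z * (a : G)⁻¹ = z ↔ _
    rw [mul_inv_eq_iff_eq_mul]
    exact ⟨fun h => ⟨a.2, h⟩, fun h => h.2⟩
  rw [← Nat.card_coe_set_eq, ← h1, h2, ← Nat.card_congr (Subgroup.subgroupOfEquivOfLe inf_le_left).toEquiv]
  exact Subgroup.index_mul_card _

theorem two_zp {u : G} (hu : u * u = 1) : IsPGroup 2 (Subgroup.zpowers u) := by
  rintro ⟨_, n, rfl⟩
  refine ⟨1, Subtype.ext ?_⟩
  change (u ^ n) ^ 2 ^ 1 = 1
  rw [pow_one, ← zpow_natCast, ← zpow_mul, mul_comm, zpow_mul, zpow_natCast, pow_two, hu, one_zpow]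

theorem sq_of {u : G} (h : orderOf u = 2) : u * u = 1 := by rw [← pow_two, ← h, pow_orderOf_eq_one]

theorem ord_two {u : G} (h : u * u = 1) (h1 : u ≠ 1) : orderOf u = 2 := orderOf_eq_prime (by rwa [pow_two]) h1

theorem exists_inv {s : G} (h : ¬ Odd (orderOf s)) : ∃ n : ℕ, s ^ n ≠ 1 ∧ s ^ n * s ^ n = 1 := by
  obtain ⟨m, hm⟩ := Nat.not_odd_iff_even.1 h
  have := orderOf_pos s
  exact ⟨m, pow_ne_one_of_lt_orderOf (by omega) (by omega), by rw [← pow_add, ← hm, pow_orderOf_eq_one]⟩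

theorem one_of_odd {S : Subgroup G} (hS : IsPGroup 2 S) {s : G} (hs : s ∈ S) (ho : Odd (orderOf s)) : s = 1 := by
  obtain ⟨k, hk⟩ := hS ⟨s, hs⟩
  have h1 : orderOf s ∣ 2 ^ k := orderOf_dvd_of_pow_eq_one (congrArg Subtype.val hk)
  exact orderOf_eq_one_iff.1 (Nat.Coprime.eq_one_of_dvd
    (Nat.Coprime.pow_right _ (Nat.coprime_two_right.2 ho)) h1)

theorem in_om (h : CI K)
    (hti : ∀ a ∈ K, ∀ b ∈ K, a * a = 1 → b * b = 1 → Odd (orderOf (a * b)) ∨ Commute a b)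
    {z u : G} (hz : z ∈ K) (hz2 : orderOf z = 2) (hu : u ∈ K) (hu2 : u * u = 1) (hc : Commute u z) :
    u ∈ om (sy K z) := by
  have huS : u ∈ sy K z := le_sy (two_zp hu2) (Subgroup.zpowers_le.2 ⟨hu, DT.mem_cen.2 hc⟩) (Subgroup.mem_zpowers u)
  by_contra hne
  obtain ⟨D, hD, -⟩ := h.exists_mx hz hz2 huS hu2 hne
  obtain ⟨y, -, t, ht, -, -, ht2, htD, -⟩ := h.mx_real hz hz2 hD
  obtain ⟨v, hv, hvn⟩ := h.mx_out hz hz2 hD
  have hvS : v ∈ sy K z := hD.le hv.1
  refine htD (h.mx_cen hz hz2 hD hv hvn ▸ ⟨ht.1, DT.mem_cen.2 ?_⟩)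
  rcases hti t (sy_le z ht.1).1 v (sy_le z hvS).1 (sq_of ht2) hv.2.1 with h1 | h1
  · have h2 := one_of_odd (h.sy_two hz hz2) (Subgroup.mul_mem _ ht.1 hvS) h1
    rw [eq_inv_of_mul_eq_one_left h2]
    exact (Commute.refl v).inv_left
  · exact h1

end U2Aux

open U2Aux

theorem uq_five {R : Subgroup G} (hR : IsPGroup 2 R) {t x : G} (hu : ∀ u ∈ R, u * u = 1 → u = 1 ∨ u = t)
    (hx : x ∈ nor R) (h5 : orderOf x = 5) : x ∈ ceS R := by
  have key : ∀ H : Subgroup R, Nat.card H = 2 → ∀ a : R, a ∈ H ↔ (a : G) = 1 ∨ (a : G) = t := fun H hH a => by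
    have hsq : ∀ b ∈ H, (b : G) * b = 1 := fun b hb => by
      have := pow_card_eq_one' (G := H) (x := ⟨b, hb⟩)
      rw [hH, pow_two] at this
      exact congrArg (fun c : H => ((c : R) : G)) this
    refine ⟨fun ha => hu a a.2 (hsq a ha), fun ha => ?_⟩
    obtain ⟨b, hb, -⟩ := (Nat.card_eq_two_iff' (1 : H)).1 hH
    rcases ha with ha | ha
    · rw [show a = 1 from Subtype.ext ha]; exact H.one_mem
    · rcases hu b.1 b.1.2 (hsq b b.2) with h1 | h1
      · exact absurd (Subtype.ext (Subtype.ext h1)) hb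
      · rw [show a = b.1 from Subtype.ext (ha.trans h1.symm)]; exact b.2
  have h1 := aut5 hR (fun H K hH hK => Subgroup.ext fun a => (key H hH a).trans (key K hK a).symm)
    (R.normalizerMonoidHom ⟨x, hx⟩) (by
      rw [← map_pow, show (⟨x, hx⟩ : nor R) ^ 5 = 1 from Subtype.ext (by
        rw [Subgroup.coe_pow, ← h5]; exact pow_orderOf_eq_one x), map_one])
  have h2 : (⟨x, hx⟩ : nor R) ∈ R.normalizerMonoidHom.ker := h1
  rw [Subgroup.normalizerMonoidHom_ker] at h2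
  exact h2

theorem CI.not_u34 (h : CI K) (hc : Nat.card K = 62400)
    (hti : ∀ a ∈ K, ∀ b ∈ K, a * a = 1 → b * b = 1 → Odd (orderOf (a * b)) ∨ Commute a b) : False := by
  have := h.nm
  obtain ⟨z, hz, hz2⟩ := h.toAS.exists_invol
  have hzz := sq_of hz2
  have hz1 : z ≠ 1 := fun e => by simp [e] at hz2
  have hS := h.sy_two hz hz2
  have hO : ∀ u ∈ Ob K z, u ∈ K ∧ u * u = 1 ∧ u ≠ 1 := by
    rintro _ ⟨g, hg, rfl⟩
    exact ⟨K.mul_mem (K.mul_mem hg hz) (K.inv_mem hg), by rw [conj_mul, hzz, mul_one, mul_inv_cancel],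
      fun e => hz1 (by simpa [mul_inv_eq_one] using e)⟩
  have hzO : z ∈ Ob K z := ⟨1, K.one_mem, by simp⟩
  -- the order of `S`
  have h64 : 64 ∣ Nat.card (sy K z) := by
    obtain ⟨P, hP⟩ := h.sylow hz hz2
    have h1 := (P : Subgroup K).index_mul_card
    have h2 := P.not_dvd_index
    rw [hc, hP, Nat.card_congr (Subgroup.subgroupOfEquivOfLe ((sy_le z).trans inf_le_left)).toEquiv] at h1
    rw [hP] at h2
    refine Nat.Coprime.dvd_of_dvd_mul_left (m := ((sy K z).subgroupOf K).index) ?_ (h1 ▸ by norm_num)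
    exact Nat.Coprime.pow_left 6 ((Nat.Prime.coprime_iff_not_dvd Nat.prime_two).2 h2)
  have hZ3 : ∀ T : Set G, T ⊆ Ob K z ∩ (om (sy K z) : Set G) → T.ncard ≤ 3 := fun T hT => by
    have h1 : T ⊆ (om (sy K z) : Set G) \ {1} := fun u hu => ⟨(hT hu).2, (hO u (hT hu).1).2.2⟩
    have h2 := Set.ncard_le_ncard h1
    rw [Set.ncard_sdiff_singleton_of_mem (om (sy K z)).one_mem, ← Nat.card_coe_set_eq] at h2
    have h3 := h.card_om hz hz2
    change T.ncard ≤ Nat.card (om (sy K z)) - 1 at h2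
    omega
  have hfree : 64 ∣ (Ob K z \ (om (sy K z) : Set G)).ncard := by
    refine h64.trans (free _ _ (fun a ha u hu => ⟨ob_conj (sy_le z ha).1 hu.1, fun hm => hu.2 ?_⟩) fun a ha u hu e => ?_)
    · exact (DT.mem_nor.1 (nor_le_nor_om _ (Subgroup.le_normalizer ha)) u).2 hm
    · by_contra ha1
      obtain ⟨n, h1, h2⟩ := exists_inv fun ho => ha1 (one_of_odd hS ha ho)
      have hK := (sy_le z (Subgroup.pow_mem _ ha n))
      have h3 := in_om h hti hz hz2 hK.1 h2 (DT.mem_cen.1 hK.2)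
      have h4 := in_om h hti hK.1 (ord_two h2 h1) (hO u hu.1).1 (hO u hu.1).2.1
        (Commute.pow_right (mul_inv_eq_iff_eq_mul.1 e : Commute a u).symm n)
      rw [h.sy_eq hz hz2 h3 h1] at h4
      exact hu.2 h4
  have hpos : 0 < (Ob K z \ (om (sy K z) : Set G)).ncard := by
    obtain ⟨y, hy, hy1, ho, hi⟩ := h.toAS.exists_inv hz hz2
    refine (Set.ncard_pos (Set.toFinite _)).2 ⟨y * z * y⁻¹, ⟨y, hy, rfl⟩, fun hm => hy1 ?_⟩
    have h1 : Commute (y * z * y⁻¹) z := hm.2.2 z (self_mem_sy hz hz2).1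
    have h2 : z * y * z⁻¹ = y⁻¹ := hi
    have h3 : z * y⁻¹ * z⁻¹ = y := by rw [← conj_inv, h2, inv_inv]
    have h5 : y * z * y⁻¹ = y * y * z := by
      calc y * z * y⁻¹ = y * (z * y⁻¹ * z⁻¹) * z := by group
        _ = _ := by rw [h3]
    rw [h5] at h1
    have h6 : z * (y * y) = y * y * z := mul_right_cancel (b := z) (by rw [h1.eq]; group)
    have h4 : y ^ 4 = 1 := by
      calc y ^ 4 = y * y * (z * (y * y) * z⁻¹) := by rw [h6, mul_inv_cancel_right]; simp only [pow_succ, pow_zero, one_mul, mul_assoc]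
        _ = y * y * ((z * y * z⁻¹) * (z * y * z⁻¹)) := by group
        _ = 1 := by rw [h2]; group
    exact orderOf_eq_one_iff.1 (Nat.Coprime.eq_one_of_dvd
      (Nat.Coprime.pow_right 2 (Nat.coprime_two_right.2 ho)) (orderOf_dvd_of_pow_eq_one h4))
  have h2le : 2 ≤ (Ob K z ∩ (om (sy K z) : Set G)).ncard := by
    obtain ⟨g, hg, h1, h2⟩ := h.toAS.not_isolated hz hz2
    have hgO : g * z * g⁻¹ ∈ Ob K z := ⟨g, hg, rfl⟩
    rw [← Set.ncard_pair h2]
    refine Set.ncard_le_ncard ?_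
    rintro _ (rfl | rfl)
    · exact ⟨hgO, in_om h hti hz hz2 (hO _ hgO).1 (hO _ hgO).2.1 h1.symm⟩
    · exact ⟨hzO, self_mem_sy hz hz2⟩
  have hsum := Set.ncard_inter_add_ncard_sdiff_eq_ncard (Ob K z) (om (sy K z) : Set G)
  have h3le := hZ3 _ subset_rfl
  have hprod := card_ob (K := K) z
  obtain ⟨C, hC⟩ := h64.trans (Subgroup.card_dvd_of_le (sy_le z))
  obtain ⟨m, hm⟩ := hfree
  rw [hc, hC] at hprod
  have hN : (Ob K z).ncard = 195 ∧ C = 5 := by
    generalize (Ob K z).ncard = N at *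
    generalize (Ob K z ∩ (om (sy K z) : Set G)).ncard = c at *
    have h1 : N * C = 975 := by nlinarith
    have h2 : N ≤ 975 := Nat.le_of_dvd (by norm_num) ⟨C, h1.symm⟩
    have h3 : N = c + 64 * m := by omega
    have h4 : 1 ≤ m := by omega
    have h5 : m ≤ 15 := by omega
    subst h3
    clear hsum hm hprod
    interval_cases c <;> interval_cases m <;> omega
  have : Fact (Nat.Prime 5) := ⟨by norm_num⟩
  obtain ⟨x', hx'⟩ := exists_prime_orderOf_dvd_card' (G := (K ⊓ cen z : Subgroup G)) 5 (by rw [hC, hN.2]; norm_num)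
  have h5 : orderOf (x' : G) = 5 := by rw [Subgroup.orderOf_coe, hx']
  obtain ⟨x, hxK, hxz⟩ := x'
  change orderOf x = 5 at h5
  have hxo : Odd (orderOf x) := by rw [h5]; decide
  have hxz' : Commute x z := DT.mem_cen.1 hxz
  obtain ⟨z1, hz1O, hxz1, hz1n⟩ : ∃ z1 ∈ Ob K z, Commute z1 x ∧ z1 ∉ om (sy K z) := by
    by_contra hcon
    push Not at hcon
    have h1 := hZ3 (Ob K z ∩ (cen x : Set G)) fun u hu => ⟨hu.1, hcon u hu.1 (DT.mem_cen.1 hu.2)⟩
    have h2 : 0 < (Ob K z ∩ (cen x : Set G)).ncard :=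
      (Set.ncard_pos (Set.toFinite _)).2 ⟨z, hzO, DT.mem_cen.2 hxz'.symm⟩
    have h3 := Set.ncard_inter_add_ncard_sdiff_eq_ncard (Ob K z) (cen x : Set G)
    have h4 := free (Subgroup.zpowers x) (Ob K z \ (cen x : Set G)) (fun a ha u hu =>
      ⟨ob_conj (Subgroup.zpowers_le.2 hxK ha) hu.1, fun hm => hu.2 (by
        have ha' : a ∈ cen x := Subgroup.zpowers_le.2 (DT.mem_cen.2 (Commute.refl x)) ha
        have := (cen x).mul_mem ((cen x).mul_mem ((cen x).inv_mem ha') hm) ha'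
        simpa [mul_assoc] using this)⟩) (fun a ha u hu e => by
        by_contra ha1
        have hp : Nat.card (Subgroup.zpowers x) = 5 := by rw [Nat.card_zpowers, h5]
        have h6 : Subgroup.zpowers a = Subgroup.zpowers x := by
          have hle : Subgroup.zpowers a ≤ Subgroup.zpowers x := Subgroup.zpowers_le.2 ha
          rcases (Nat.dvd_prime (by norm_num : Nat.Prime 5)).1 (hp ▸ Subgroup.card_dvd_of_le hle) with h7 | h7
          · exact absurd (Subgroup.zpowers_eq_bot.1 (Subgroup.card_eq_one.1 h7)) ha1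
          · exact Subgroup.eq_of_le_of_card_ge hle (by rw [h7, hp])
        have h7 : x ∈ cen u := (Subgroup.zpowers_le.2 (DT.mem_cen.2 (mul_inv_eq_iff_eq_mul.1 e)) :
          Subgroup.zpowers a ≤ cen u) (h6 ▸ Subgroup.mem_zpowers x)
        exact hu.2 (DT.mem_cen.2 (DT.mem_cen.1 h7).symm))
    rw [Nat.card_zpowers, h5] at h4
    have := hN.1
    omega
  obtain ⟨hz1K, hz11, -⟩ := hO z1 hz1O
  have hnc : ¬ Commute z z1 := fun e => hz1n (in_om h hti hz hz2 hz1K hz11 e.symm)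
  have hyo : Odd (orderOf (z * z1)) := (hti z hz z1 hz1K hzz hz11).resolve_right hnc
  have hy1 : z * z1 ≠ 1 := fun e => hnc (by rw [eq_inv_of_mul_eq_one_left e]; exact (Commute.refl z1).inv_left)
  have hyK : z * z1 ∈ K := K.mul_mem hz hz1K
  have hiv : Iv z (z * z1) := by
    unfold Iv
    rw [mul_inv_rev, inv_eq_of_mul_eq_one_right hzz, inv_eq_of_mul_eq_one_right hz11, ← mul_assoc, hzz, one_mul]
  obtain ⟨τ, L, hτ, hyτ, -⟩ := h.tau hyK hy1 hyo hz hz2 hiv
  have hττ := sq_of hτ.1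
  have hxy : Commute x (z * z1) := hxz'.mul_right hxz1.symm
  have hcm : ∀ a : G, Commute x a → Commute a τ → Commute (τ * x * τ⁻¹ * x⁻¹) a := fun a h1 h2 =>
    ((h2.symm.mul_left h1).mul_left h2.symm.inv_left).mul_left h1.inv_left
  have hwK : τ * x * τ⁻¹ * x⁻¹ ∈ K := K.mul_mem (h.nm.conj_mem x hxK τ) (K.inv_mem hxK)
  have hwo : Odd (orderOf (τ * x * τ⁻¹ * x⁻¹)) := by
    by_contra ho
    obtain ⟨n, h1, h2⟩ := exists_inv ho
    exact h1 (h.oddc hyK hy1 hyo hiv (K.pow_mem hwK n) h2 ((hcm _ hxy hyτ).symm.pow_right n))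
  have hw1 : τ * x * τ⁻¹ * x⁻¹ = 1 := by
    by_contra hw1
    refine hz1 (h.oddc (t := τ) hwK hw1 hwo ?_ hz hzz (hcm _ hxz' hτ.2.1))
    unfold Iv
    calc τ * (τ * x * τ⁻¹ * x⁻¹) * τ⁻¹ = (τ * τ) * x * (τ * τ)⁻¹ * τ * x⁻¹ * τ⁻¹ := by group
      _ = _ := by rw [hττ]; group
  have hxτ : Commute x τ := by
    have : τ * x = x * τ := by
      calc τ * x = τ * x * τ⁻¹ * x⁻¹ * (x * τ) := by group
        _ = x * τ := by rw [hw1, one_mul]
    exact this.symm
  have hxS : x ∈ nor (sy K z) := cen_le_nor_sy z hxz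
  have hR : x ∈ ceS (sy K z ⊓ cen τ) := by
    refine uq_five (hS.to_le inf_le_left) (t := z) (fun u hu h2 =>
      hτ.2.2 u (sy_le z hu.1).1 h2 (DT.mem_cen.1 (sy_le z hu.1).2) (DT.mem_cen.1 hu.2)) ?_ h5
    exact DT.nor_inf_le_nor_inf _ _ ⟨hxS, Subgroup.le_normalizer (DT.mem_cen.2 hxτ)⟩
  have hx1 := h.con hz hz2 hxK hxo (pq hS (two_zp hττ)
    (Subgroup.zpowers_le.2 (cen_le_nor_sy z (DT.mem_cen.2 hτ.2.1.symm))) hxo hxS
    (Subgroup.mem_centralizer_iff.2 (by rintro _ ⟨n, rfl⟩; exact (hxτ.symm.zpow_left n).eq))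
    fun q hq hq' => Subgroup.mem_centralizer_iff.1 hR q ⟨hq, DT.mem_cen.2
      (Subgroup.mem_centralizer_iff.1 hq' τ (Subgroup.mem_zpowers τ)).symm⟩)
  rw [hx1, orderOf_one] at h5
  omega

end Cfsg.Agent.RY
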